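import Mathlib
import Groth.Prelude.Def_Magnet4
import Groth.Agent.Lib.Helper5.AMonPts
import Groth.Agent.Lib.Helper18.MonPts
import Groth.Agent.Lib.Helper18.AffLine.Defs
import Groth.Agent.Lib.Helper18.AffLine.Diag

/-!
# Helper34: the generic point trick for `A^1`-actions (sub-lemma FIELD of helper18's S18959)
-/

set_option autoImplicit false
universe u

open CategoryTheory CategoryTheory.Limits MonoidalCategory CartesianMonoidalCategory MonObj
  AlgebraicGeometry Opposite
open Magnet Groth.Agent.Lib.Helper18.AffLine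

namespace Groth.Agent.Lib.Helper34.ALFIELD

open Groth.Agent.Lib.Helper18.MonPts

theorem chr_pow {U : Scheme.{u}} {A : Type u} [CommRing A] {t₀ : Spec (CommRingCat.of A) ⟶ U}
    (g : Over.mk t₀ ⟶ AMonS U ℕ) (n : ℕ) : chr (g ^ n) = chr g ^ n := by
  induction n with
  | zero => rw [pow_zero, pow_zero, chr_one]
  | succ n ih => rw [pow_succ, pow_succ, chr_mul, ih]

theorem ratFunc_X_pow_injective (k : Type u) [Field k] :
    Function.Injective (fun n : ℕ => (RatFunc.X : RatFunc k) ^ n) := by
  intro n m h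
  simp only at h
  rw [← RatFunc.algebraMap_X, ← map_pow, ← map_pow] at h
  have h2 := RatFunc.algebraMap_injective k h
  have h3 := congrArg Polynomial.natDegree h2
  rwa [Polynomial.natDegree_X_pow, Polynomial.natDegree_X_pow] at h3

theorem exists_generic (k : Type u) [Field k] :
    ∃ (T₀ : Over (Spec (CommRingCat.of k))) (θ θ' : T₀ ⟶ AMonS (Spec (CommRingCat.of k)) ℕ),
      θ * θ' = 1 ∧ θ' * θ = 1 ∧ Flat T₀.hom ∧ Surjective T₀.hom ∧ QuasiCompact T₀.hom ∧
      ∀ (L : Type u) [Field L] (s : Spec (CommRingCat.of L) ⟶ Spec (CommRingCat.of k))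
        (u : Over.mk s ⟶ T₀), Function.Injective (fun n : ℕ => u ≫ θ ^ n) := by
  classical
  have hX : (RatFunc.X : RatFunc k) ≠ 0 := RatFunc.X_ne_zero
  refine ⟨Over.mk (Spec.map (CommRingCat.ofHom (algebraMap k (RatFunc k)))),
    ptc _ (powersHom (RatFunc k) RatFunc.X), ptc _ (powersHom (RatFunc k) (RatFunc.X)⁻¹),
    ?_, ?_, ?_, ?_, ?_, ?_⟩
  · apply chr_injective
    rw [chr_mul, chr_ptc, chr_ptc, chr_one]
    ext m
    simp [powersHom_apply, mul_inv_cancel₀ hX]
  · apply chr_injective
    rw [chr_mul, chr_ptc, chr_ptc, chr_one]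
    ext m
    simp [powersHom_apply, inv_mul_cancel₀ hX]
  · show Flat (Spec.map (CommRingCat.ofHom (algebraMap k (RatFunc k))))
    rw [Flat.SpecMap_iff]
    exact RingHom.flat_algebraMap_iff.mpr inferInstance
  · show Surjective (Spec.map (CommRingCat.ofHom (algebraMap k (RatFunc k))))
    refine ⟨fun x => ⟨(⊥ : PrimeSpectrum (RatFunc k)), ?_⟩⟩
    exact Subsingleton.elim (α := PrimeSpectrum k) _ _
  · show QuasiCompact (Spec.map (CommRingCat.ofHom (algebraMap k (RatFunc k))))
    infer_instance
  · intro L _ s u n m hnm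
    simp only at hnm
    have hf : u.left = Spec.map (CommRingCat.ofHom (Spec.preimage u.left).hom) := by
      rw [CommRingCat.ofHom_hom, Spec.map_preimage]
    have h1 := chr_comp (Spec.preimage u.left).hom u hf
      ((ptc _ (powersHom (RatFunc k) RatFunc.X) :
        Over.mk (Spec.map (CommRingCat.ofHom (algebraMap k (RatFunc k)))) ⟶ _) ^ n)
    have h2 := chr_comp (Spec.preimage u.left).hom u hf
      ((ptc _ (powersHom (RatFunc k) RatFunc.X) :
        Over.mk (Spec.map (CommRingCat.ofHom (algebraMap k (RatFunc k)))) ⟶ _) ^ m)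
    rw [hnm] at h1
    rw [h1, chr_pow, chr_pow, chr_ptc] at h2
    have h3 := DFunLike.congr_fun h2 (Multiplicative.ofAdd 1)
    simp only [MonoidHom.coe_comp, Function.comp_apply, MonoidHom.pow_apply, powersHom_apply,
      toAdd_ofAdd, pow_one] at h3
    have h4 : (RatFunc.X : RatFunc k) ^ n = RatFunc.X ^ m :=
      ((Spec.preimage u.left).hom).injective h3
    exact ratFunc_X_pow_injective k h4

end Groth.Agent.Lib.Helper34.ALFIELD
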