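import Mathlib
import Groth.Prelude.Def_Found
import Groth.Agent.Lib.Helper34.AA7202H
import Groth.Agent.Lib.Helper69.AA7202RF
import Groth.Agent.Lib.Helper14.AA7202FC
import Groth.Agent.Lib.Helper46.AA7202GS
import Groth.Agent.Lib.Helper69.AA7202LOCS
import Groth.Agent.Lib.Helper47.AA7202RF2
import Groth.Agent.Lib.Helper49.AA7202GA
import Groth.Agent.Lib.Helper13.AA7202CORE

set_option autoImplicit false
universe u
open IsLocalRing CategoryTheory AlgebraicGeometry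

namespace Groth.Agent.Lib.Helper34.AA7202Asm

open Groth.Agent.Lib.Helper34
open Groth.Agent.Lib.Helper69.AA7202RF (rf)
open Groth.Agent.Lib.Helper14.AA7202FC (fc)
open Groth.Agent.Lib.Helper46.AA7202GS (gs)
open Groth.Agent.Lib.Helper69.AA7202LOCS (locs)
open Groth.Agent.Lib.Helper47.AA7202RF2 (rf2)
open Groth.Agent.Lib.Helper49.AA7202GA (ga)
open Groth.Agent.Lib.Helper13.AA7202CORE (core)

lemma spec_apply {R S : Type u} [CommRing R] [CommRing S] (φ : R →+* S) (u : Spec (CommRingCat.of S)) :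
    ((Spec.map (CommRingCat.ofHom φ)) u).asIdeal = u.asIdeal.comap φ := rfl

theorem aff_in {X : Scheme.{u}} (O : X.Opens) (x : X) (hx : x ∈ O) :
    ∃ (W : X.Opens), IsAffineOpen W ∧ x ∈ W ∧ W ≤ O := by
  obtain ⟨_, ⟨W, hW, rfl⟩, hxW, hWV⟩ :=
    X.isBasis_affineOpens.exists_subset_of_mem_open (show x ∈ (O : Set X) from hx) O.2
  exact ⟨W, hW, hxW, hWV⟩

/-- point of `Spec R'` from a prime -/
def pt {R' : Type u} [CommRing R'] (p' : Ideal R') [p'.IsPrime] : Spec (CommRingCat.of R') :=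
  ⟨p', inferInstance⟩

theorem fromSpec_pt {X : Scheme.{u}} {W : X.Opens} (hW : IsAffineOpen W) (x : X) (hxW : x ∈ W)
    {R' : Type u} [CommRing R'] (g : Γ(X, W) →+* R') (p' : Ideal R') [p'.IsPrime]
    (h : p'.comap g = (hW.primeIdealOf ⟨x, hxW⟩).asIdeal) :
    (Spec.map (CommRingCat.ofHom g) ≫ hW.fromSpec) (pt p') = x := by
  rw [Scheme.Hom.comp_apply]
  have : (Spec.map (CommRingCat.ofHom g)) (pt p') = hW.primeIdealOf ⟨x, hxW⟩ := by
    apply PrimeSpectrum.ext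
    rw [spec_apply]; exact h
  rw [this]
  exact hW.fromSpec_primeIdealOf ⟨x, hxW⟩

theorem etale_e {X : Scheme.{u}} {W : X.Opens} (hW : IsAffineOpen W)
    {R' : Type u} [CommRing R'] [Algebra Γ(X, W) R'] [Algebra.Etale Γ(X, W) R'] :
    Etale (Spec.map (CommRingCat.ofHom (algebraMap Γ(X, W) R')) ≫ hW.fromSpec) := by
  have h1 : Etale (Spec.map (CommRingCat.ofHom (algebraMap Γ(X, W) R'))) := by
    rw [HasRingHomProperty.Spec_iff (P := @Etale)]
    exact RingHom.etale_algebraMap.mpr inferInstance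
  infer_instance

lemma stalkCongr_hom_germ {X : Scheme.{u}} {x y : X} (e : x = y) (U : X.Opens) (hx : x ∈ U)
    (l : Γ(X, U)) :
    (X.presheaf.stalkCongr (Inseparable.of_eq e)).hom.hom ((X.presheaf.germ U x hx).hom l) =
      (X.presheaf.germ U y (e ▸ hx)).hom l := by
  subst e
  simp [TopCat.Presheaf.stalkCongr]

lemma stalkCongr_inv_germ {X : Scheme.{u}} {x y : X} (e : x = y) (U : X.Opens) (hy : y ∈ U)
    (l : Γ(X, U)) :
    (X.presheaf.stalkCongr (Inseparable.of_eq e)).inv.hom ((X.presheaf.germ U y hy).hom l) =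
      (X.presheaf.germ U x (e ▸ hy)).hom l := by
  subst e
  simp [TopCat.Presheaf.stalkCongr]

lemma stalkMap_germ_appLE {X Y : Scheme.{u}} (f : X ⟶ Y) (U : Y.Opens) (V : X.Opens)
    (e : V ≤ f ⁻¹ᵁ U) (x : X) (hx : x ∈ V) (l : Γ(Y, U)) :
    (f.stalkMap x).hom ((Y.presheaf.germ U (f x) (e hx)).hom l) =
      (X.presheaf.germ V x hx).hom ((f.appLE U V e).hom l) := by
  have := Scheme.Hom.germ_stalkMap f U x (e hx)
  have h2 := congrArg (fun k => k.hom l) this
  simp only [CommRingCat.hom_comp, RingHom.comp_apply] at h2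
  rw [h2, Scheme.Hom.appLE, CommRingCat.hom_comp, RingHom.comp_apply]
  exact (X.presheaf.germ_res_apply (homOfLE e) x hx _).symm

set_option maxHeartbeats 1600000 in
theorem main (H : AA7202H.H6843.{u}) {X Y S : Scheme.{u}} [IsLocallyNoetherian S]
    (p : X ⟶ S) (q : Y ⟶ S) [LocallyOfFiniteType p] [LocallyOfFiniteType q] (x : X) (y : Y) (hxy : p x = q y)
    (hG : CAlg.IsGRing ↑(S.presheaf.stalk (p x)))
    (φ : ↑(Y.presheaf.stalk y) →+* (AdicCompletion (IsLocalRing.maximalIdeal ↑(X.presheaf.stalk x)) ↑(X.presheaf.stalk x)))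
    (hφ : φ.comp ((q.stalkMap y).hom.comp (S.presheaf.stalkCongr (Inseparable.of_eq hxy)).hom.hom) =
      (algebraMap ↑(X.presheaf.stalk x) (AdicCompletion (IsLocalRing.maximalIdeal ↑(X.presheaf.stalk x)) ↑(X.presheaf.stalk x))).comp (p.stalkMap x).hom)
    (hloc : ∀ b ∈ IsLocalRing.maximalIdeal ↑(Y.presheaf.stalk y),
      φ b ∈ (IsLocalRing.maximalIdeal ↑(X.presheaf.stalk x)).map (algebraMap ↑(X.presheaf.stalk x) (AdicCompletion (IsLocalRing.maximalIdeal ↑(X.presheaf.stalk x)) ↑(X.presheaf.stalk x))))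
    (N : ℕ) (hN : 1 ≤ N) :
    ∃ (U : Scheme.{u}) (e : U ⟶ X) (u : U) (heu : e u = x) (f : U ⟶ Y) (hfu : f u = y),
      Etale e ∧ Function.Bijective (e.residueFieldMap u) ∧ f ≫ q = e ≫ p ∧
      ∀ (b : ↑(Y.presheaf.stalk y)) (c : ↑(X.presheaf.stalk x)),
        AdicCompletion.evalₐ (IsLocalRing.maximalIdeal ↑(X.presheaf.stalk x)) N (φ b) =
          Ideal.Quotient.mk (IsLocalRing.maximalIdeal ↑(X.presheaf.stalk x) ^ N) c →
        Ideal.Quotient.mk (IsLocalRing.maximalIdeal ↑(U.presheaf.stalk u) ^ N)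
            ((f.stalkMap u).hom ((Y.presheaf.stalkCongr (Inseparable.of_eq hfu)).inv.hom b)) =
          Ideal.Quotient.mk (IsLocalRing.maximalIdeal ↑(U.presheaf.stalk u) ^ N)
            ((e.stalkMap u).hom ((X.presheaf.stalkCongr (Inseparable.of_eq heu)).inv.hom c)) := by
  obtain ⟨V, hV, hsV, -⟩ := aff_in (⊤ : S.Opens) (p x) trivial
  obtain ⟨W, hW, hxW, hWV⟩ := aff_in (p ⁻¹ᵁ V) x hsV
  have hsV' : q y ∈ V := hxy ▸ hsV
  obtain ⟨W', hW', hyW', hW'V⟩ := aff_in (q ⁻¹ᵁ V) y hsV'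
  letI algA : Algebra Γ(S, V) Γ(X, W) := (p.appLE V W hWV).hom.toAlgebra
  letI algB : Algebra Γ(S, V) Γ(Y, W') := (q.appLE V W' hW'V).hom.toAlgebra
  haveI : IsNoetherianRing Γ(S, V) := IsLocallyNoetherian.component_noetherian ⟨V, hV⟩
  haveI : Algebra.FiniteType Γ(S, V) Γ(X, W) := p.finiteType_appLE hV hW hWV
  haveI : Algebra.FiniteType Γ(S, V) Γ(Y, W') := q.finiteType_appLE hV hW' hW'V
  letI : Algebra Γ(X, W) (X.presheaf.stalk x) :=
    TopCat.Presheaf.algebra_section_stalk X.presheaf ⟨x, hxW⟩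
  haveI : IsLocalization.AtPrime (X.presheaf.stalk x) (hW.primeIdealOf ⟨x, hxW⟩).asIdeal :=
    hW.isLocalization_stalk ⟨x, hxW⟩
  letI : Algebra Γ(Y, W') (Y.presheaf.stalk y) :=
    TopCat.Presheaf.algebra_section_stalk Y.presheaf ⟨y, hyW'⟩
  haveI : IsLocalization.AtPrime (Y.presheaf.stalk y) (hW'.primeIdealOf ⟨y, hyW'⟩).asIdeal :=
    hW'.isLocalization_stalk ⟨y, hyW'⟩
  letI : Algebra Γ(S, V) (S.presheaf.stalk (p x)) :=
    TopCat.Presheaf.algebra_section_stalk S.presheaf ⟨p x, hsV⟩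
  haveI : IsLocalization.AtPrime (S.presheaf.stalk (p x)) (hV.primeIdealOf ⟨p x, hsV⟩).asIdeal :=
    hV.isLocalization_stalk ⟨p x, hsV⟩
  have hGA : CAlg.IsGRing (X.presheaf.stalk x) :=
    ga (hW.primeIdealOf ⟨x, hxW⟩).asIdeal (hV.primeIdealOf ⟨p x, hsV⟩).asIdeal
      (S.presheaf.stalk (p x)) hG (X.presheaf.stalk x) (p.stalkMap x).hom
      (fun l => stalkMap_germ_appLE p V W hWV x hxW l)
  have hφ' : ∀ l : Γ(S, V), φ (algebraMap Γ(Y, W') (Y.presheaf.stalk y) (algebraMap Γ(S, V) Γ(Y, W') l)) =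
      algebraMap (X.presheaf.stalk x) (AdicCompletion (maximalIdeal (X.presheaf.stalk x)) (X.presheaf.stalk x))
        (algebraMap Γ(X, W) (X.presheaf.stalk x) (algebraMap Γ(S, V) Γ(X, W) l)) := by
    intro l
    have h1 := congrArg (fun k => k ((S.presheaf.germ V (p x) hsV).hom l)) hφ
    simp only [RingHom.comp_apply] at h1
    rw [stalkCongr_hom_germ hxy V hsV l, stalkMap_germ_appLE q V W' hW'V y hyW' l,
      stalkMap_germ_appLE p V W hWV x hxW l] at h1
    exact h1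
  obtain ⟨R', _, _, _, p', _, g, hp', hq', hgΛ, hfrac, hfinal⟩ :=
    core H (hW.primeIdealOf ⟨x, hxW⟩).asIdeal (hW'.primeIdealOf ⟨y, hyW'⟩).asIdeal
      (X.presheaf.stalk x) hGA (Y.presheaf.stalk y) φ hφ' hloc N hN
  have heu : (Spec.map (CommRingCat.ofHom (algebraMap Γ(X, W) R')) ≫ hW.fromSpec) (pt p') = x :=
    fromSpec_pt hW x hxW _ p' hp'
  have hfu : (Spec.map (CommRingCat.ofHom g) ≫ hW'.fromSpec) (pt p') = y :=
    fromSpec_pt hW' y hyW' g p' hq'
  refine ⟨Spec (CommRingCat.of R'), Spec.map (CommRingCat.ofHom (algebraMap Γ(X, W) R')) ≫ hW.fromSpec,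
    pt p', heu, Spec.map (CommRingCat.ofHom g) ≫ hW'.fromSpec, hfu, etale_e hW, ?_, ?_, ?_⟩
  · -- residue field
    apply rf
    have heW : (Spec.map (CommRingCat.ofHom (algebraMap Γ(X, W) R')) ≫ hW.fromSpec) (pt p') ∈ W :=
      heu ▸ hxW
    letI : Algebra Γ(X, W) (X.presheaf.stalk
        ((Spec.map (CommRingCat.ofHom (algebraMap Γ(X, W) R')) ≫ hW.fromSpec) (pt p'))) :=
      TopCat.Presheaf.algebra_section_stalk X.presheaf ⟨_, heW⟩
    have e1 : hW.primeIdealOf ⟨_, heW⟩ = hW.primeIdealOf ⟨x, hxW⟩ := by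
      congr 1; exact Subtype.ext heu
    haveI : IsLocalization.AtPrime (X.presheaf.stalk
        ((Spec.map (CommRingCat.ofHom (algebraMap Γ(X, W) R')) ≫ hW.fromSpec) (pt p')))
        (hW.primeIdealOf ⟨x, hxW⟩).asIdeal := e1 ▸ hW.isLocalization_stalk ⟨_, heW⟩
    obtain ⟨h1, h2, h3⟩ := locs (pt p')
    exact rf2 (hW.primeIdealOf ⟨x, hxW⟩).asIdeal p' hp' hfrac _ _
      (((Spec (CommRingCat.of R')).presheaf.germ ⊤ (pt p') trivial).hom.comp
        (Scheme.ΓSpecIso (CommRingCat.of R')).inv.hom) h1 h2 h3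
      ((Spec.map (CommRingCat.ofHom (algebraMap Γ(X, W) R')) ≫ hW.fromSpec).stalkMap (pt p')).hom
      (fun a₀ => gs hW (algebraMap Γ(X, W) R') (pt p') heW a₀)
  · -- commutativity
    rw [Category.assoc, Category.assoc, ← IsAffineOpen.SpecMap_appLE_fromSpec q hV hW' hW'V,
      ← IsAffineOpen.SpecMap_appLE_fromSpec p hV hW hWV, ← Category.assoc, ← Category.assoc,
      ← Spec.map_comp, ← Spec.map_comp]
    congr 2
    ext l
    exact hgΛ l
  · -- final congruence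
    intro b c hbc
    obtain ⟨h1, h2, -⟩ := locs (pt p')
    exact fc (hW.primeIdealOf ⟨x, hxW⟩).asIdeal (hW'.primeIdealOf ⟨y, hyW'⟩).asIdeal p' g hp' hq'
      (X.presheaf.stalk x) (Y.presheaf.stalk y) _
      (((Spec (CommRingCat.of R')).presheaf.germ ⊤ (pt p') trivial).hom.comp
        (Scheme.ΓSpecIso (CommRingCat.of R')).inv.hom) h1 h2
      (((Spec.map (CommRingCat.ofHom (algebraMap Γ(X, W) R')) ≫ hW.fromSpec).stalkMap (pt p')).hom.comp
        (X.presheaf.stalkCongr (Inseparable.of_eq heu)).inv.hom)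
      (fun a₀ => by
        rw [RingHom.comp_apply]
        erw [stalkCongr_inv_germ heu W hxW a₀]
        exact gs hW (algebraMap Γ(X, W) R') (pt p') _ a₀)
      (((Spec.map (CommRingCat.ofHom g) ≫ hW'.fromSpec).stalkMap (pt p')).hom.comp
        (Y.presheaf.stalkCongr (Inseparable.of_eq hfu)).inv.hom)
      (fun b₀ => by
        rw [RingHom.comp_apply]
        erw [stalkCongr_inv_germ hfu W' hyW' b₀]
        exact gs hW' g (pt p') _ b₀)
      N b c (fun b₀ t c₀ s ht hs hb hc => hfinal b₀ t c₀ s b c ht hs hb hc hbc)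

end Groth.Agent.Lib.Helper34.AA7202Asm
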