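import Groth.Agent.Lib.Helper34.ASNormalForm

/-!
# Artin–Schreier normal form over `K((t))`: the unramified case is excluded
-/

set_option autoImplicit false

universe u

attribute [local instance] FractionRing.liftAlgebra

namespace Groth.Agent.Lib.Helper34.ASNormalForm

open Function Polynomial

theorem base_false (p : ℕ) [hp : Fact p.Prime] (K : Type u) [Field K] [CharP K p]
    (B : Type u) [CommRing B] [IsDedekindDomain B]
    [Algebra (PowerSeries K) B] [Module.Finite (PowerSeries K) B]
    [Module.IsTorsionFree (PowerSeries K) B]
    [IsGalois (FractionRing (PowerSeries K)) (FractionRing B)]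
    (M : Ideal B) [M.IsMaximal] (hram : M.ramificationIdx (PowerSeries K) = p)
    (a : PowerSeries K) (x : FractionRing B)
    (hx : IntermediateField.adjoin (FractionRing (PowerSeries K)) {x} = ⊤)
    (h : x ^ p - x + algebraMap (FractionRing (PowerSeries K)) (FractionRing B)
      (algebraMap (PowerSeries K) (FractionRing (PowerSeries K)) a) = 0) : False := by
  classical
  have hpA : CharP (PowerSeries K) p :=
    charP_of_injective_algebraMap (algebraMap K (PowerSeries K)).injective p
  have hfd : FiniteDimensional (FractionRing (PowerSeries K)) (FractionRing B) :=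
    .of_isLocalization (PowerSeries K) B (nonZeroDivisors (PowerSeries K))
  have hic : IsIntegralClosure B (PowerSeries K) (FractionRing B) :=
    IsIntegralClosure.of_isIntegrallyClosed B (PowerSeries K) (FractionRing B)
  -- the polynomial
  obtain ⟨f, hf⟩ : ∃ f : (PowerSeries K)[X], f = X ^ p + (-X + C a) := ⟨_, rfl⟩
  have hfm : f.Monic := by
    rw [hf]
    apply monic_X_pow_add
    have h1 : (-X + C a : (PowerSeries K)[X]).degree ≤ 1 := by
      refine (degree_add_le _ _).trans (max_le ?_ ?_)
      · rw [degree_neg]; exact degree_X_le
      · exact degree_C_le.trans zero_le_one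
    refine lt_of_le_of_lt h1 ?_
    exact_mod_cast hp.out.one_lt
  have hscal : algebraMap (PowerSeries K) (FractionRing B) a =
      algebraMap (FractionRing (PowerSeries K)) (FractionRing B)
        (algebraMap (PowerSeries K) (FractionRing (PowerSeries K)) a) :=
    IsScalarTower.algebraMap_apply _ _ _ a
  have hfx : aeval x f = 0 := by
    rw [hf]
    simp only [map_add, map_pow, map_neg, aeval_X, aeval_C]
    rw [hscal]
    linear_combination h
  have hint : IsIntegral (PowerSeries K) x := ⟨f, hfm, hfx⟩
  obtain ⟨y, hy⟩ := (IsIntegralClosure.isIntegral_iff (A := B)).mp hint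
  have hinjB : Injective (algebraMap B (FractionRing B)) := IsFractionRing.injective B _
  have hfy : aeval y f = 0 := by
    apply hinjB
    rw [map_zero, ← aeval_algebraMap_apply, hy, hfx]
  have hyint : IsIntegral (PowerSeries K) y := ⟨f, hfm, hfy⟩
  obtain ⟨g, hg⟩ := minpoly.isIntegrallyClosed_dvd hyint hfy
  -- derivative
  have hder : derivative f = -1 := by
    rw [hf]
    simp only [derivative_add, derivative_X_pow, derivative_neg, derivative_X, derivative_C,
      add_zero]
    rw [CharP.cast_eq_zero (PowerSeries K) p, map_zero, zero_mul, zero_add]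
  have hunit : IsUnit (aeval y (derivative (minpoly (PowerSeries K) y))) := by
    have h1 : aeval y (derivative f) = -1 := by rw [hder, map_neg, map_one]
    rw [hg, derivative_mul, map_add, map_mul, map_mul, minpoly.aeval, zero_mul, add_zero] at h1
    refine IsUnit.of_mul_eq_one (-(aeval y g)) ?_
    rw [mul_neg, h1, neg_neg]
  have hadj : Algebra.adjoin (FractionRing (PowerSeries K))
      {algebraMap B (FractionRing B) y} = ⊤ := by
    rw [hy]
    have hxalg : IsAlgebraic (FractionRing (PowerSeries K)) x :=
      (Algebra.IsIntegral.isIntegral x).isAlgebraic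
    rw [← IntermediateField.adjoin_simple_toSubalgebra_of_isAlgebraic hxalg, hx,
      IntermediateField.top_toSubalgebra]
  have hmem := aeval_derivative_mem_differentIdeal (PowerSeries K) (FractionRing (PowerSeries K))
    (FractionRing B) y hadj
  have htop : differentIdeal (PowerSeries K) B = ⊤ := Ideal.eq_top_of_isUnit_mem _ hmem hunit
  have hunr : Algebra.IsUnramifiedAt (PowerSeries K) M := by
    rw [← not_dvd_differentIdeal_iff, htop, Ideal.dvd_iff_le, top_le_iff]
    exact Ideal.IsMaximal.ne_top inferInstance
  have h1 := Ideal.ramificationIdx_eq_one M (PowerSeries K)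
  rw [hram] at h1
  exact hp.out.one_lt.ne' h1

end Groth.Agent.Lib.Helper34.ASNormalForm
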