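import Groth.Agent.Lib.Helper34.ArtinSchreier

/-!
# Artin–Schreier normal form over `K((t))`: reduction of the pole order
-/

set_option autoImplicit false

namespace Groth.Agent.Lib.Helper34.ASNormalForm

open Function PowerSeries

section Reduce

variable {K : Type*} [Field K] [PerfectField K] (p : ℕ) [hp : Fact p.Prime] [CharP K p]
  {F E : Type*} [Field F] [Field E] [Algebra (PowerSeries K) F] [Algebra F E] [CharP F p]

omit [PerfectField K] [CharP K p] [CharP F p] hp in
theorem adjoin_add_eq_top {x : E} (β : F) (hx : IntermediateField.adjoin F {x} = ⊤) :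
    IntermediateField.adjoin F {x + algebraMap F E β} = ⊤ := by
  rw [eq_top_iff, ← hx, IntermediateField.adjoin_simple_le_iff]
  have h1 : x + algebraMap F E β ∈ IntermediateField.adjoin F {x + algebraMap F E β} :=
    IntermediateField.mem_adjoin_simple_self F _
  have h2 : algebraMap F E β ∈ IntermediateField.adjoin F {x + algebraMap F E β} :=
    IntermediateField.algebraMap_mem _ β
  have := sub_mem h1 h2
  rwa [add_sub_cancel_right] at this

theorem reduce (ht : algebraMap (PowerSeries K) F X ≠ 0)
    (hbase : ∀ (a : PowerSeries K) (x : E), IntermediateField.adjoin F {x} = ⊤ →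
      x ^ p - x + algebraMap F E (algebraMap (PowerSeries K) F a) = 0 → False) :
    ∀ (m : ℕ) (a : PowerSeries K) (x : E), IntermediateField.adjoin F {x} = ⊤ →
      x ^ p - x + algebraMap F E (algebraMap (PowerSeries K) F a /
        algebraMap (PowerSeries K) F (X ^ m)) = 0 →
      ∃ x : E, ∃ m : ℕ, ∃ a : PowerSeries K,
        IntermediateField.adjoin F {x} = ⊤ ∧ 0 < m ∧ ¬ p ∣ m ∧ constantCoeff a ≠ 0 ∧
        x ^ p - x + algebraMap F E (algebraMap (PowerSeries K) F a /
          algebraMap (PowerSeries K) F (X ^ m)) = 0 := by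
  have hpE : CharP E p := charP_of_injective_algebraMap (algebraMap F E).injective p
  intro m
  induction m with
  | zero =>
    intro a x hx h
    exfalso
    rw [pow_zero, map_one, div_one] at h
    exact hbase a x hx h
  | succ m ih =>
    intro a x hx h
    -- the case of vanishing constant coefficient
    have hzero : ∀ (a : PowerSeries K) (x : E), IntermediateField.adjoin F {x} = ⊤ →
        x ^ p - x + algebraMap F E (algebraMap (PowerSeries K) F a /
          algebraMap (PowerSeries K) F (X ^ (m + 1))) = 0 → constantCoeff a = 0 →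
        ∃ x : E, ∃ m : ℕ, ∃ a : PowerSeries K,
          IntermediateField.adjoin F {x} = ⊤ ∧ 0 < m ∧ ¬ p ∣ m ∧ constantCoeff a ≠ 0 ∧
          x ^ p - x + algebraMap F E (algebraMap (PowerSeries K) F a /
            algebraMap (PowerSeries K) F (X ^ m)) = 0 := by
      intro a x hx h h0
      obtain ⟨a', rfl⟩ := X_dvd_iff.mpr h0
      apply ih a' x hx
      rw [← h]
      congr 2
      rw [map_mul, pow_succ, map_mul, map_pow]
      field_simp
    by_cases h0 : constantCoeff a = 0
    · exact hzero a x hx h h0
    by_cases hpm : p ∣ m + 1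
    swap
    · exact ⟨x, m + 1, a, hx, Nat.succ_pos m, hpm, h0, h⟩
    -- the reduction step
    obtain ⟨m', hm'⟩ := hpm
    have hm'lt : m' < m + 1 := by
      have h2 : 2 ≤ p := hp.out.two_le
      have hm'pos : 0 < m' := by
        rcases Nat.eq_zero_or_pos m' with h | h
        · rw [h, mul_zero] at hm'; exact absurd hm' (Nat.succ_ne_zero m)
        · exact h
      nlinarith
    haveI : PerfectRing K p := PerfectField.toPerfectRing p
    obtain ⟨b, hb⟩ := surjective_frobenius K p (constantCoeff a)
    rw [frobenius_def] at hb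
    obtain ⟨tF, htF⟩ : ∃ tF : F, tF = algebraMap (PowerSeries K) F X := ⟨_, rfl⟩
    have htF0 : tF ≠ 0 := htF ▸ ht
    obtain ⟨β, hβ⟩ : ∃ β : F, β = algebraMap (PowerSeries K) F (C b) / tF ^ m' := ⟨_, rfl⟩
    obtain ⟨a₁, ha₁⟩ : ∃ a₁ : PowerSeries K,
        a₁ = a - C (constantCoeff a) + C b * X ^ (m + 1 - m') := ⟨_, rfl⟩
    have ha₁0 : constantCoeff a₁ = 0 := by
      rw [ha₁]
      have : m + 1 - m' = (m - m') + 1 := by omega
      rw [this, pow_succ]
      simp
    apply hzero a₁ (x + algebraMap F E β) (adjoin_add_eq_top β hx) _ ha₁0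
    rw [add_pow_char, ← map_pow]
    have hβp : β ^ p = algebraMap (PowerSeries K) F (C (constantCoeff a)) / tF ^ (m + 1) := by
      rw [hβ, div_pow, ← map_pow, ← map_pow, hb, ← pow_mul, hm', mul_comm]
    have hα : algebraMap (PowerSeries K) F a₁ / algebraMap (PowerSeries K) F (X ^ (m + 1)) =
        algebraMap (PowerSeries K) F a / algebraMap (PowerSeries K) F (X ^ (m + 1)) -
          β ^ p + β := by
      rw [hβp, hβ, ha₁, map_add, map_sub, map_mul, map_pow, map_pow, ← htF]
      have e : m + 1 = (m + 1 - m') + m' := by omega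
      have e2 : tF ^ (m + 1) = tF ^ (m + 1 - m') * tF ^ m' := by rw [← pow_add, ← e]
      rw [e2]
      field_simp
    rw [hα, map_add, map_sub]
    linear_combination h

end Reduce

end Groth.Agent.Lib.Helper34.ASNormalForm
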