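import Mathlib

/-!
# Fibrewise criterion for bijectivity of maps of finite étale algebras

* `surjective_of_geom`: a linear map into a finite module which is surjective after base change to
  every algebraically closed field is surjective.
* `pi_point`: points of a finite product algebra `ι → R` in a field factor through an evaluation.
* `bijective_of_split`: a map of finite split algebras over a field bijective on points is bijective.
* `bijective_of_points`: a map of finite étale `R`-algebras which is bijective on geometric points
  is bijective.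
-/

set_option autoImplicit false

namespace Groth.Agent.Lib.Helper34.ASTors

open TensorProduct

universe u

section Surj

variable {R : Type u} [CommRing R] {M N : Type u} [AddCommGroup M] [AddCommGroup N]
  [Module R M] [Module R N]

theorem surjective_of_geom [Module.Finite R N] (f : M →ₗ[R] N)
    (H : ∀ (Ω : Type u) [Field Ω] [IsAlgClosed Ω] [Algebra R Ω],
      Function.Surjective (f.lTensor Ω)) :
    Function.Surjective f := by
  have hQ : Subsingleton (N ⧸ LinearMap.range f) := by
    rw [← Module.support_eq_empty_iff (R := R)]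
    by_contra hne
    obtain ⟨p, hp⟩ := Set.nonempty_iff_ne_empty.mpr hne
    rw [Module.mem_support_iff_nontrivial_residueField_tensorProduct] at hp
    have h1 : Nontrivial (AlgebraicClosure p.asIdeal.ResidueField ⊗[R] (N ⧸ LinearMap.range f)) := by
      have e := AlgebraTensorModule.cancelBaseChange R p.asIdeal.ResidueField
        p.asIdeal.ResidueField (AlgebraicClosure p.asIdeal.ResidueField) (N ⧸ LinearMap.range f)
      exact e.symm.toEquiv.nontrivial
    have h2 : Subsingleton
        (AlgebraicClosure p.asIdeal.ResidueField ⊗[R] (N ⧸ LinearMap.range f)) := by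
      refine ⟨fun a b => ?_⟩
      have hs : Function.Surjective
          ((LinearMap.range f).mkQ.lTensor (AlgebraicClosure p.asIdeal.ResidueField)) :=
        LinearMap.lTensor_surjective _ (Submodule.mkQ_surjective _)
      have hz : ∀ x, ((LinearMap.range f).mkQ.lTensor
          (AlgebraicClosure p.asIdeal.ResidueField)) x = 0 := by
        intro x
        obtain ⟨y, rfl⟩ := H (AlgebraicClosure p.asIdeal.ResidueField) x
        rw [← LinearMap.comp_apply, ← LinearMap.lTensor_comp]
        have : (LinearMap.range f).mkQ ∘ₗ f = 0 := by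
          ext m
          simp
        rw [this, LinearMap.lTensor_zero, LinearMap.zero_apply]
      obtain ⟨a', rfl⟩ := hs a
      obtain ⟨b', rfl⟩ := hs b
      rw [hz, hz]
    exact not_subsingleton _ h2
  rw [← LinearMap.range_eq_top]
  exact Submodule.Quotient.subsingleton_iff.mp hQ

end Surj

theorem pi_point {R : Type*} [CommRing R] {ι : Type*} [Finite ι] {K : Type*} [Field K]
    [Algebra R K] (z : (ι → R) →ₐ[R] K) : ∃ i, ∀ x, z x = algebraMap R K (x i) := by
  obtain ⟨i, q, hq⟩ := PrimeSpectrum.exists_comap_evalRingHom_eq
    (⟨RingHom.ker z.toRingHom, RingHom.ker_isPrime _⟩ : PrimeSpectrum (ι → R))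
  refine ⟨i, fun x => ?_⟩
  have hmem : x - algebraMap R (ι → R) (x i) ∈ RingHom.ker z.toRingHom := by
    have h0 : x - algebraMap R (ι → R) (x i) ∈
        (PrimeSpectrum.comap (Pi.evalRingHom (fun _ : ι => R) i) q).asIdeal := by
      show Pi.evalRingHom (fun _ : ι => R) i (x - algebraMap R (ι → R) (x i)) ∈ q.asIdeal
      have : Pi.evalRingHom (fun _ : ι => R) i (x - algebraMap R (ι → R) (x i)) = 0 := by
        simp
      rw [this]
      exact zero_mem _
    rw [hq] at h0
    exact h0
  rw [RingHom.mem_ker] at hmem
  have h1 : z (x - algebraMap R (ι → R) (x i)) = 0 := hmem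
  rw [map_sub, AlgHom.commutes, sub_eq_zero] at h1
  exact h1

theorem bijective_of_split {k S S' : Type*} [Field k] [CommRing S] [CommRing S'] [Algebra k S]
    [Algebra k S'] [Algebra.IsFiniteSplit k S] [Algebra.IsFiniteSplit k S'] (g : S →ₐ[k] S')
    (H : Function.Bijective (fun y : S' →ₐ[k] k => y.comp g)) : Function.Bijective g := by
  obtain ⟨n, ⟨e⟩⟩ := Algebra.IsFiniteSplit.nonempty_algEquiv_fun k S
  obtain ⟨m, ⟨e'⟩⟩ := Algebra.IsFiniteSplit.nonempty_algEquiv_fun k S'
  have hpt : ∀ z : S →ₐ[k] k, ∃ i, ∀ x, z x = e x i := by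
    intro z
    obtain ⟨i, hi⟩ := pi_point (z.comp e.symm.toAlgHom)
    refine ⟨i, fun x => ?_⟩
    have := hi (e x)
    simpa using this
  have hsep : ∀ s t : S', (∀ y : S' →ₐ[k] k, y s = y t) → s = t := by
    intro s t h
    apply e'.injective
    funext j
    exact h ((Pi.evalAlgHom k (fun _ => k) j).comp e'.toAlgHom)
  have hev : ∀ i, ∃ y : S' →ₐ[k] k, ∀ x, y (g x) = e x i := by
    intro i
    obtain ⟨y, hy⟩ := H.2 ((Pi.evalAlgHom k (fun _ => k) i).comp e.toAlgHom)
    refine ⟨y, fun x => ?_⟩
    have := congrArg (fun z => z x) hy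
    simpa using this
  choose y hy using hev
  constructor
  · intro x x' hxx
    apply e.injective
    funext i
    rw [← hy i x, ← hy i x', hxx]
  · intro s'
    refine ⟨e.symm (fun i => y i s'), ?_⟩
    apply hsep
    intro y'
    obtain ⟨i, hi⟩ := hpt (y'.comp g)
    have h1 : y' = y i := by
      apply H.1
      show y'.comp g = (y i).comp g
      ext x
      rw [hi x]
      exact (hy i x).symm
    have h2 := hi (e.symm fun i => y i s')
    rw [AlgHom.comp_apply] at h2
    rw [h2, h1]
    simp

section Crit

variable {R C B : Type u} [CommRing R] [CommRing C] [CommRing B] [Algebra R C] [Algebra R B]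

theorem tensor_point_ext {Ω : Type*} [CommRing Ω] [Algebra R Ω] (z z' : Ω ⊗[R] B →ₐ[Ω] Ω)
    (h : ∀ b, z (1 ⊗ₜ b) = z' (1 ⊗ₜ b)) : z = z' := by
  apply AlgHom.ext
  intro x
  induction x using TensorProduct.induction_on with
  | zero => simp
  | tmul ω b =>
    have : ω ⊗ₜ[R] b = ω • ((1 : Ω) ⊗ₜ[R] b) := by
      rw [TensorProduct.smul_tmul', smul_eq_mul, mul_one]
    rw [this, map_smul, map_smul, h]
  | add x y hx hy => rw [map_add, map_add, hx, hy]

theorem bijective_baseChange_of_points [Module.Finite R C] [Module.Finite R B] [Algebra.Etale R C]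
    [Algebra.Etale R B] (f : C →ₐ[R] B) (Ω : Type u) [Field Ω] [IsAlgClosed Ω] [Algebra R Ω]
    (H : Function.Bijective (fun y : B →ₐ[R] Ω => y.comp f)) :
    Function.Bijective (Algebra.TensorProduct.map (AlgHom.id Ω Ω) f) := by
  apply bijective_of_split
  constructor
  · intro z z' hzz
    apply tensor_point_ext
    have h1 : (z.restrictScalars R).comp Algebra.TensorProduct.includeRight =
        (z'.restrictScalars R).comp Algebra.TensorProduct.includeRight := by
      apply H.1
      ext c
      have := congrArg (fun w => w (1 ⊗ₜ c)) hzz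
      simpa using this
    intro b
    have := congrArg (fun w => w b) h1
    simpa using this
  · intro w
    obtain ⟨y, hy⟩ := H.2 ((w.restrictScalars R).comp Algebra.TensorProduct.includeRight)
    refine ⟨Algebra.TensorProduct.lift (AlgHom.id Ω Ω) y (fun _ _ => Commute.all _ _), ?_⟩
    apply tensor_point_ext
    intro c
    have := congrArg (fun w => w c) hy
    simpa using this

theorem bijective_of_points [Module.Finite R C] [Module.Finite R B] [Algebra.Etale R C]
    [Algebra.Etale R B] (f : C →ₐ[R] B)
    (H : ∀ (Ω : Type u) [Field Ω] [IsAlgClosed Ω] [Algebra R Ω],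
      Function.Bijective (fun y : B →ₐ[R] Ω => y.comp f)) : Function.Bijective f := by
  have hbc : ∀ (Ω : Type u) [Field Ω] [IsAlgClosed Ω] [Algebra R Ω] (l : C →ₗ[R] B),
      (∀ c, l c = f c) → Function.Bijective (l.lTensor Ω) := by
    intro Ω _ _ _ l hl
    have h := bijective_baseChange_of_points f Ω (H Ω)
    have heq : ∀ x, l.lTensor Ω x = Algebra.TensorProduct.map (AlgHom.id Ω Ω) f x := by
      intro x
      induction x using TensorProduct.induction_on with
      | zero => simp
      | tmul ω c => simp [hl]
      | add x y hx hy => rw [map_add, map_add, hx, hy]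
    have : (l.lTensor Ω : _ → _) = Algebra.TensorProduct.map (AlgHom.id Ω Ω) f := funext heq
    rw [this]
    exact h
  have hsurj : Function.Surjective f :=
    surjective_of_geom f.toLinearMap (fun Ω _ _ _ => (hbc Ω f.toLinearMap (fun _ => rfl)).2)
  have : Module.FinitePresentation R B := Module.FinitePresentation.of_finite_of_finitePresentation R B
  have : Module.Projective R B := Module.Flat.projective_of_finitePresentation
  obtain ⟨s, hs⟩ := Module.projective_lifting_property f.toLinearMap LinearMap.id hsurj
  have hs' : ∀ b, f (s b) = b := fun b => by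
    have := congrArg (fun l => l b) hs
    simpa using this
  have hssurj : Function.Surjective s := by
    apply surjective_of_geom
    intro Ω _ _ _
    have hb := hbc Ω f.toLinearMap (fun _ => rfl)
    intro x
    refine ⟨f.toLinearMap.lTensor Ω x, ?_⟩
    apply hb.1
    rw [← LinearMap.comp_apply, ← LinearMap.lTensor_comp, hs, LinearMap.lTensor_id,
      LinearMap.id_apply]
  refine ⟨?_, hsurj⟩
  intro c c' hcc
  obtain ⟨b, rfl⟩ := hssurj c
  obtain ⟨b', rfl⟩ := hssurj c'
  rw [hs', hs'] at hcc
  rw [hcc]

end Crit

end Groth.Agent.Lib.Helper34.ASTors
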