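import Mathlib
import Groth.Prelude.Def_SGA1t
import Groth.Agent.Lib.Helper3.EtaleRoot
import Groth.Agent.Lib.Helper34.ASTorsB

/-!
# Algebraic `ℤ/p`-torsors in characteristic `p` are Artin–Schreier
-/

set_option autoImplicit false

namespace Groth.Agent.Lib.Helper34.ASTors

open TensorProduct Polynomial

universe u

section Pts

variable {A B : Type u} [CommRing A] [CommRing B] [Algebra A B]

theorem nonempty_point [Module.Finite A B] [Algebra.Etale A B] [Module.FaithfullyFlat A B]
    (Ω : Type u) [Field Ω] [IsAlgClosed Ω] [Algebra A Ω] : Nonempty (B →ₐ[A] Ω) := by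
  have : Nontrivial (Ω ⊗[A] B) := inferInstance
  obtain ⟨n, ⟨e⟩⟩ := Algebra.IsFiniteSplit.nonempty_algEquiv_fun Ω (Ω ⊗[A] B)
  have hn : n ≠ 0 := by
    rintro rfl
    exact not_subsingleton (Ω ⊗[A] B) e.toEquiv.subsingleton
  exact ⟨(((Pi.evalAlgHom Ω (fun _ => Ω) (⟨0, Nat.pos_of_ne_zero hn⟩ : Fin n)).comp
    e.toAlgHom).restrictScalars A).comp Algebra.TensorProduct.includeRight⟩

end Pts

section Roots

/-- In a field of characteristic `p`, the solutions of `d ^ p = d` are the prime field. -/
theorem exists_cast_eq_of_pow_eq (p : ℕ) [Fact p.Prime] {K : Type*} [Field K] [CharP K p] (d : K)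
    (hd : d ^ p = d) : ∃ k : ZMod p, ZMod.castHom (dvd_refl p) K k = d := by
  classical
  have hp : p ≠ 0 := (Fact.out : p.Prime).ne_zero
  have hp1 : 1 < p := (Fact.out : p.Prime).one_lt
  let f : K[X] := X ^ p - X
  have hdeg : f.natDegree = p := by
    show (X ^ p - X : K[X]).natDegree = p
    rw [natDegree_sub_eq_left_of_natDegree_lt] <;> simp [hp1]
  have hf0 : f ≠ 0 := by
    intro h
    rw [h, natDegree_zero] at hdeg
    exact hp hdeg.symm
  have hinj : Function.Injective (ZMod.castHom (dvd_refl p) K) := RingHom.injective _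
  let S : Finset K := Finset.image (ZMod.castHom (dvd_refl p) K) Finset.univ
  have hScard : S.card = p := by
    rw [Finset.card_image_of_injective _ hinj, Finset.card_univ, ZMod.card]
  have hroot : ∀ x : K, x ^ p = x → x ∈ f.roots := by
    intro x hx
    rw [mem_roots hf0]
    show (X ^ p - X : K[X]).IsRoot x
    simp [hx]
  have hSle : S.val ≤ f.roots := by
    rw [Multiset.le_iff_subset S.nodup]
    intro x hx
    rw [Finset.mem_val, Finset.mem_image] at hx
    obtain ⟨k, -, rfl⟩ := hx
    apply hroot
    rw [← map_pow, ZMod.pow_card]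
  have hcard : Multiset.card f.roots ≤ Multiset.card S.val := by
    rw [Finset.card_val, hScard, ← hdeg]
    exact card_roots' f
  have heq : S.val = f.roots := Multiset.eq_of_le_of_card_le hSle hcard
  have hdS : d ∈ S.val := by rw [heq]; exact hroot d hd
  rw [Finset.mem_val, Finset.mem_image] at hdS
  obtain ⟨k, -, hk⟩ := hdS
  exact ⟨k, hk⟩

end Roots

section AS

variable {A : Type u} [CommRing A] (p : ℕ) [Fact p.Prime] [CharP A p]

theorem as_monic (a : A) : (X ^ p - X - C a : A[X]).Monic := by
  have hp1 : 1 < p := (Fact.out : p.Prime).one_lt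
  have : (X ^ p - X - C a : A[X]) = X ^ p - (X + C a) := by ring
  rw [this]
  apply monic_X_pow_sub
  calc (X + C a : A[X]).degree ≤ 1 := by
        refine (degree_add_le _ _).trans (max_le degree_X_le (degree_C_le.trans zero_le_one))
    _ < p := by exact_mod_cast hp1

instance as_finite (a : A) : Module.Finite A (SGA1t.artinSchreier A p a) :=
  (as_monic p a).finite_adjoinRoot

instance as_etale (a : A) : Algebra.Etale A (SGA1t.artinSchreier A p a) := by
  apply Groth.Agent.Lib.Helper3.EtaleRoot.etale_adjoinRoot (X ^ p - X - C a) (as_monic p a)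
  have : derivative (X ^ p - X - C a : A[X]) = -1 := by
    rw [derivative_sub, derivative_sub, derivative_X_pow, derivative_X, derivative_C,
      CharP.cast_eq_zero A p]
    simp
  rw [this]
  simp

end AS

end Groth.Agent.Lib.Helper34.ASTors
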