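import Mathlib
import Groth.Prelude.Def_SGA1t
import Groth.Agent.Lib.Helper34.ASTorsC

/-!
# Algebraic `ℤ/p`-torsors in characteristic `p` are Artin–Schreier (main algebraic statement)
-/

set_option autoImplicit false

namespace Groth.Agent.Lib.Helper34.ASTors

open TensorProduct Polynomial

universe u

section Main

variable {A B : Type u} [CommRing A] [CommRing B] [Algebra A B] [Module.Finite A B]
  [Algebra.Etale A B] [Module.FaithfullyFlat A B]
variable (p : ℕ) [Fact p.Prime]
variable {σ : Multiplicative (ZMod p) → (B →ₐ[A] B)}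

theorem map_cast [CharP B p] (φ : B →ₐ[A] B) (i : ZMod p) :
    φ (ZMod.castHom (dvd_refl p) B i) = ZMod.castHom (dvd_refl p) B i := by
  have := RingHom.ext_zmod (φ.toRingHom.comp (ZMod.castHom (dvd_refl p) B))
    (ZMod.castHom (dvd_refl p) B)
  exact congrArg (fun f => f i) this

theorem exists_t [CharP B p] (hσ : IsAlgTorsor σ) :
    ∃ t : B, ∀ k : ZMod p,
      σ (Multiplicative.ofAdd k) t = t + ZMod.castHom (dvd_refl p) B k := by
  obtain ⟨c, hc⟩ := exists_trace_eq_one hσ
  have hc' : ∑ j : ZMod p, σ (Multiplicative.ofAdd j) c = 1 :=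
    (Fintype.sum_equiv Multiplicative.ofAdd (fun j => σ (Multiplicative.ofAdd j) c)
      (fun g => σ g c) (fun _ => rfl)).trans hc
  refine ⟨-∑ i : ZMod p, ZMod.castHom (dvd_refl p) B i * σ (Multiplicative.ofAdd i) c, ?_⟩
  intro k
  have h1 : ∀ i : ZMod p, σ (Multiplicative.ofAdd k) (σ (Multiplicative.ofAdd i) c) =
      σ (Multiplicative.ofAdd (k + i)) c := by
    intro i
    rw [ofAdd_add, hσ.mul]
    rfl
  rw [map_neg, map_sum]
  simp_rw [map_mul, map_cast, h1]
  have h2 : ∑ i : ZMod p, ZMod.castHom (dvd_refl p) B i * σ (Multiplicative.ofAdd (k + i)) c =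
      ∑ j : ZMod p, ZMod.castHom (dvd_refl p) B (j - k) * σ (Multiplicative.ofAdd j) c :=
    Fintype.sum_equiv (Equiv.addLeft k) _ _ (fun i => by simp)
  rw [h2]
  simp_rw [map_sub, sub_mul]
  rw [Finset.sum_sub_distrib, ← Finset.mul_sum, hc']
  ring

variable [CharP A p]

theorem exists_artinSchreier_equiv (hσ : IsAlgTorsor σ) :
    ∃ (a : A) (ψ : SGA1t.artinSchreier A p a ≃ₐ[A] B),
      ∀ (j : ZMod p) (x : SGA1t.artinSchreier A p a),
        ψ (SGA1t.artinSchreierShift A p a j x) = σ (Multiplicative.ofAdd j) (ψ x) := by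
  have inj : Function.Injective (algebraMap A B) := FaithfulSMul.algebraMap_injective A B
  haveI : CharP B p := charP_of_injective_algebraMap inj p
  obtain ⟨t, ht⟩ := exists_t p hσ
  -- the invariant `a`
  have hcp : ∀ k : ZMod p, (ZMod.castHom (dvd_refl p) B k) ^ p = ZMod.castHom (dvd_refl p) B k := by
    intro k
    rw [← map_pow, ZMod.pow_card]
  have hinv : ∀ g : Multiplicative (ZMod p), σ g (t ^ p - t) = t ^ p - t := by
    intro g
    obtain ⟨k, rfl⟩ : ∃ k : ZMod p, Multiplicative.ofAdd k = g := ⟨Multiplicative.toAdd g, rfl⟩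
    rw [map_sub, map_pow, ht, add_pow_char, hcp]
    ring
  obtain ⟨a, ha⟩ := exists_of_invariant hσ _ hinv
  have hcastA : ∀ k : ZMod p, algebraMap A B (ZMod.castHom (dvd_refl p) A k) =
      ZMod.castHom (dvd_refl p) B k := by
    intro k
    have := RingHom.ext_zmod ((algebraMap A B).comp (ZMod.castHom (dvd_refl p) A))
      (ZMod.castHom (dvd_refl p) B)
    exact congrArg (fun f => f k) this
  -- the map
  let ψ₀ : SGA1t.artinSchreier A p a →ₐ[A] B :=
    Ideal.Quotient.liftₐ _ (Polynomial.aeval t) (by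
      intro x hx
      obtain ⟨y, rfl⟩ := Ideal.mem_span_singleton'.mp hx
      rw [map_mul, map_sub, map_sub, map_pow, aeval_X, aeval_C, ha, sub_self, mul_zero])
  have hψ₀mk : ∀ f : A[X], ψ₀ (Ideal.Quotient.mk _ f) = Polynomial.aeval t f := fun f => rfl
  have hshift : ∀ (j : ZMod p) (f : A[X]),
      SGA1t.artinSchreierShift A p a j (Ideal.Quotient.mk _ f) =
        Ideal.Quotient.mk _ (Polynomial.aeval (R := A)
          (Polynomial.X + Polynomial.C ((ZMod.castHom (dvd_refl p) A) j)) f) := fun j f => rfl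
  have hequiv : ∀ (j : ZMod p) (x : SGA1t.artinSchreier A p a),
      ψ₀ (SGA1t.artinSchreierShift A p a j x) = σ (Multiplicative.ofAdd j) (ψ₀ x) := by
    intro j x
    obtain ⟨f, rfl⟩ := Ideal.Quotient.mk_surjective x
    rw [hshift, hψ₀mk, hψ₀mk]
    induction f using Polynomial.induction_on' with
    | add f g hf hg => rw [map_add, map_add, map_add, map_add, hf, hg]
    | monomial n r =>
      rw [← C_mul_X_pow_eq_monomial]
      simp only [map_mul, map_pow, aeval_C, aeval_X, map_add, AlgHom.commutes, ht, hcastA]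
  -- bijectivity
  have hbij : Function.Bijective ψ₀ := by
    apply bijective_of_points
    intro Ω _ _ _
    have : CharP Ω p := by
      have h0 : ((p : ℕ) : Ω) = 0 := by
        have : ((p : ℕ) : A) = 0 := CharP.cast_eq_zero A p
        have h1 := congrArg (algebraMap A Ω) this
        rw [map_natCast, map_zero] at h1
        exact h1
      have := CharP.ringChar_of_prime_eq_zero (Fact.out : p.Prime) h0
      exact this ▸ ringChar.charP Ω
    have hcastΩ : ∀ (y : B →ₐ[A] Ω) (k : ZMod p), y (ZMod.castHom (dvd_refl p) B k) =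
        ZMod.castHom (dvd_refl p) Ω k := by
      intro y k
      have := RingHom.ext_zmod (y.toRingHom.comp (ZMod.castHom (dvd_refl p) B))
        (ZMod.castHom (dvd_refl p) Ω)
      exact congrArg (fun f => f k) this
    constructor
    · intro y y' hyy
      have h1 : y t = y' t := by
        have := congrArg (fun w => w (Ideal.Quotient.mk _ X)) hyy
        simpa [hψ₀mk] using this
      obtain ⟨g, hg, -⟩ := hσ.torsor Ω y y'
      obtain ⟨k, rfl⟩ : ∃ k : ZMod p, Multiplicative.ofAdd k = g := ⟨Multiplicative.toAdd g, rfl⟩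
      have h2 : y' t = y t + ZMod.castHom (dvd_refl p) Ω k := by
        rw [← hg, AlgHom.comp_apply, ht, map_add, hcastΩ]
      have h3 : ZMod.castHom (dvd_refl p) Ω k = 0 := by
        rw [← h1] at h2
        exact (left_eq_add.mp h2)
      have h4 : k = 0 := (RingHom.injective (ZMod.castHom (dvd_refl p) Ω)) (by rw [h3, map_zero])
      subst h4
      rw [← hg, ofAdd_zero, hσ.one]
      rfl
    · intro z
      obtain ⟨y₀⟩ := nonempty_point (A := A) (B := B) Ω
      have hθ : (z (Ideal.Quotient.mk _ X)) ^ p - z (Ideal.Quotient.mk _ X) = algebraMap A Ω a := by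
        have h0 : (Ideal.Quotient.mk (Ideal.span {(X : A[X]) ^ p - X - C a}))
            ((X : A[X]) ^ p - X - C a) = 0 :=
          Ideal.Quotient.eq_zero_iff_mem.mpr (Ideal.subset_span rfl)
        have h1 := congrArg z h0
        simp only [map_sub, map_pow, map_zero] at h1
        have h2 : z ((Ideal.Quotient.mk (Ideal.span {(X : A[X]) ^ p - X - C a})) (C a)) =
            algebraMap A Ω a := z.commutes a
        rw [h2] at h1
        exact sub_eq_zero.mp h1
      have hθ₀ : (y₀ t) ^ p - y₀ t = algebraMap A Ω a := by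
        rw [← map_pow, ← map_sub, ← ha, AlgHom.commutes]
      have hd : (z (Ideal.Quotient.mk _ X) - y₀ t) ^ p = z (Ideal.Quotient.mk _ X) - y₀ t := by
        rw [sub_pow_char]
        linear_combination hθ - hθ₀
      obtain ⟨k, hk⟩ := exists_cast_eq_of_pow_eq p _ hd
      refine ⟨y₀.comp (σ (Multiplicative.ofAdd k)), ?_⟩
      apply Ideal.Quotient.algHom_ext
      apply Polynomial.algHom_ext
      show y₀ (σ (Multiplicative.ofAdd k) (ψ₀ (Ideal.Quotient.mk _ X))) = z (Ideal.Quotient.mk _ X)
      rw [hψ₀mk, aeval_X, ht, map_add, hcastΩ, hk]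
      ring
  exact ⟨a, AlgEquiv.ofBijective ψ₀ hbij, hequiv⟩

end Main

end Groth.Agent.Lib.Helper34.ASTors
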