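import Mathlib
import Groth.Prelude.Def_SGA1t
import Groth.Prelude.Def_FEt
import Groth.Agent.Lib.Helper58.FEtHens
import Groth.Agent.Lib.Helper34.ASTorsD

/-!
# Principal `ℤ/p`-covers of `Spec A` in characteristic `p` are Artin–Schreier (scheme statement)
-/

set_option autoImplicit false

namespace Groth.Agent.Lib.Helper34.ASTors

open CategoryTheory CategoryTheory.Limits AlgebraicGeometry

universe u

section

variable {A : Type u} [CommRing A]

theorem specMap_algHom_injective {B C : Type u} [CommRing B] [CommRing C] [Algebra A B] [Algebra A C]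
    (f g : B →ₐ[A] C)
    (h : Spec.map (CommRingCat.ofHom f.toRingHom) = Spec.map (CommRingCat.ofHom g.toRingHom)) :
    f = g := by
  have h1 := Spec.map_injective h
  ext x
  have := congrArg (fun φ => φ.hom x) h1
  exact this

theorem specMap_comp_ofHom {R S T : Type u} [CommRing R] [CommRing S] [CommRing T] (f : R →+* S)
    (g : S →+* T) :
    Spec.map (CommRingCat.ofHom g) ≫ Spec.map (CommRingCat.ofHom f) =
      Spec.map (CommRingCat.ofHom (g.comp f)) := by
  rw [← Spec.map_comp]
  rfl

theorem principal_is_artinSchreier (p : ℕ) [Fact p.Prime] [CharP A p]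
    (P : FEt.Cat (Spec (CommRingCat.of A))) (ρ : Multiplicative (ZMod p) →* Aut P)
    (hP : SGA1t.IsPrincipal (Multiplicative (ZMod p)) P ρ) :
    ∃ (a : A) (e : P.left ≅ Spec (CommRingCat.of (SGA1t.artinSchreier A p a))),
      e.hom ≫ Spec.map (CommRingCat.ofHom (algebraMap A (SGA1t.artinSchreier A p a))) = P.hom ∧
      ∀ j : ZMod p, (ρ (Multiplicative.ofAdd j)).hom.left ≫ e.hom =
        e.hom ≫ Spec.map (CommRingCat.ofHom (SGA1t.artinSchreierShift A p a j)) := by
  obtain ⟨B, _, _, hfin, het, e, he⟩ :=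
    Groth.Agent.Lib.Helper58.FEtHens.exists_iso_Spec_of_finite_etale P.hom P.prop.1 P.prop.2
  -- the action on `B`
  have hτ : ∀ g : Multiplicative (ZMod p), ∃ s : B →ₐ[A] B,
      e.inv ≫ (ρ g).hom.left ≫ e.hom = Spec.map (CommRingCat.ofHom s.toRingHom) := by
    intro g
    apply Groth.Agent.Lib.Helper58.FEtHens.exists_algHom_of_over
    have hw : (ρ g).hom.left ≫ P.hom = P.hom := Over.w (ρ g).hom.hom
    rw [Category.assoc, Category.assoc, ← he, hw, he, Iso.inv_hom_id_assoc]
  choose σ hσ using hτ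
  have hσ' : ∀ g, (ρ g).hom.left ≫ e.hom = e.hom ≫ Spec.map (CommRingCat.ofHom (σ g).toRingHom) := by
    intro g
    rw [← hσ g, Iso.hom_inv_id_assoc]
  have hone : σ 1 = AlgHom.id A B := by
    apply specMap_algHom_injective
    rw [← hσ 1, map_one]
    have : ((1 : Aut P).hom).left = 𝟙 P.left := rfl
    rw [this]
    have h3 : e.inv ≫ 𝟙 P.left ≫ e.hom = 𝟙 _ := by simp
    rw [h3]
    exact (Spec.map_id _).symm
  have hmul' : ∀ g g', σ (g * g') = (σ g').comp (σ g) := by
    intro g g'
    apply specMap_algHom_injective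
    rw [← hσ (g * g'), map_mul]
    have h1 : ((ρ g * ρ g').hom).left = (ρ g').hom.left ≫ (ρ g).hom.left := rfl
    rw [h1]
    have h2 : Spec.map (CommRingCat.ofHom ((σ g').comp (σ g)).toRingHom) =
        Spec.map (CommRingCat.ofHom (σ g').toRingHom) ≫
          Spec.map (CommRingCat.ofHom (σ g).toRingHom) := by
      rw [← Spec.map_comp]
      rfl
    rw [h2, ← hσ g, ← hσ g']
    simp
  have hmul : ∀ g g', σ (g * g') = (σ g).comp (σ g') := by
    intro g g'
    rw [mul_comm, hmul']
  -- fibres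
  have htors : ∀ (Ω : Type u) [Field Ω] [IsAlgClosed Ω] [Algebra A Ω] (s t : B →ₐ[A] Ω),
      ∃! g, s.comp (σ g) = t := by
    intro Ω _ _ _ s t
    have hover : ∀ y : B →ₐ[A] Ω, (Spec.map (CommRingCat.ofHom y.toRingHom) ≫ e.inv) ≫ P.hom =
        Spec.map (CommRingCat.ofHom (algebraMap A Ω)) := by
      intro y
      rw [he, Category.assoc, Iso.inv_hom_id_assoc, ← Spec.map_comp]
      congr 1
      ext x
      exact y.commutes x
    have key := hP.2 Ω (Spec.map (CommRingCat.ofHom (algebraMap A Ω)))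
      ⟨Spec.map (CommRingCat.ofHom s.toRingHom) ≫ e.inv, hover s⟩
      ⟨Spec.map (CommRingCat.ofHom t.toRingHom) ≫ e.inv, hover t⟩
    refine (existsUnique_congr fun g => ?_).mp key
    constructor
    · intro h
      have h1 : (Spec.map (CommRingCat.ofHom s.toRingHom) ≫ e.inv) ≫ (ρ g).hom.left =
          Spec.map (CommRingCat.ofHom t.toRingHom) ≫ e.inv := congrArg Subtype.val h
      apply specMap_algHom_injective
      have h2 : Spec.map (CommRingCat.ofHom (s.comp (σ g)).toRingHom) =
          Spec.map (CommRingCat.ofHom s.toRingHom) ≫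
            Spec.map (CommRingCat.ofHom (σ g).toRingHom) := by
        rw [← Spec.map_comp]
        rfl
      rw [h2, ← hσ g]
      have h3 := congrArg (· ≫ e.hom) h1
      simp only [Category.assoc, Iso.inv_hom_id, Category.comp_id] at h3
      exact h3
    · intro h
      apply Subtype.ext
      show (Spec.map (CommRingCat.ofHom s.toRingHom) ≫ e.inv) ≫ (ρ g).hom.left =
          Spec.map (CommRingCat.ofHom t.toRingHom) ≫ e.inv
      rw [← h]
      have h2 : Spec.map (CommRingCat.ofHom (s.comp (σ g)).toRingHom) =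
          Spec.map (CommRingCat.ofHom s.toRingHom) ≫
            Spec.map (CommRingCat.ofHom (σ g).toRingHom) := by
        rw [← Spec.map_comp]
        rfl
      rw [h2, ← hσ g]
      simp
  have hT : IsAlgTorsor σ := ⟨hone, hmul, htors⟩
  -- faithful flatness
  have : Module.FaithfullyFlat A B := by
    apply Module.FaithfullyFlat.of_comap_surjective
    intro x
    obtain ⟨y, hy⟩ := hP.1 x
    refine ⟨e.hom.base y, ?_⟩
    have h1 : P.hom.base y = (Spec.map (CommRingCat.ofHom (algebraMap A B))).base (e.hom.base y) := by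
      rw [he]
      rfl
    rw [hy] at h1
    exact h1.symm
  obtain ⟨a, ψ, hψ⟩ := exists_artinSchreier_equiv p hT
  have hinv1 : Spec.map (CommRingCat.ofHom ψ.toAlgHom.toRingHom) ≫
      Spec.map (CommRingCat.ofHom ψ.symm.toAlgHom.toRingHom) = 𝟙 _ := by
    rw [specMap_comp_ofHom]
    have hr : ψ.toAlgHom.toRingHom.comp ψ.symm.toAlgHom.toRingHom = RingHom.id _ :=
      RingHom.ext fun x => ψ.apply_symm_apply x
    rw [hr]
    exact Spec.map_id _
  have hinv2 : Spec.map (CommRingCat.ofHom ψ.symm.toAlgHom.toRingHom) ≫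
      Spec.map (CommRingCat.ofHom ψ.toAlgHom.toRingHom) = 𝟙 _ := by
    rw [specMap_comp_ofHom]
    have hr : ψ.symm.toAlgHom.toRingHom.comp ψ.toAlgHom.toRingHom = RingHom.id _ :=
      RingHom.ext fun x => ψ.symm_apply_apply x
    rw [hr]
    exact Spec.map_id _
  refine ⟨a, ⟨e.hom ≫ Spec.map (CommRingCat.ofHom ψ.toAlgHom.toRingHom),
    Spec.map (CommRingCat.ofHom ψ.symm.toAlgHom.toRingHom) ≫ e.inv, ?_, ?_⟩, ?_, ?_⟩
  · rw [Category.assoc, reassoc_of% hinv1, Iso.hom_inv_id]
  · rw [Category.assoc, Iso.inv_hom_id_assoc, hinv2]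
  · show (e.hom ≫ Spec.map (CommRingCat.ofHom ψ.toAlgHom.toRingHom)) ≫ _ = _
    rw [Category.assoc, specMap_comp_ofHom, he]
    have hr : ψ.toAlgHom.toRingHom.comp (algebraMap A (SGA1t.artinSchreier A p a)) =
        algebraMap A B := RingHom.ext fun x => ψ.commutes x
    rw [hr]
  · intro j
    show (ρ (Multiplicative.ofAdd j)).hom.left ≫ e.hom ≫
        Spec.map (CommRingCat.ofHom ψ.toAlgHom.toRingHom) =
      (e.hom ≫ Spec.map (CommRingCat.ofHom ψ.toAlgHom.toRingHom)) ≫ _
    rw [reassoc_of% hσ' (Multiplicative.ofAdd j), Category.assoc, specMap_comp_ofHom,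
      specMap_comp_ofHom]
    have hr : (σ (Multiplicative.ofAdd j)).toRingHom.comp ψ.toAlgHom.toRingHom =
        ψ.toAlgHom.toRingHom.comp (SGA1t.artinSchreierShift A p a j) :=
      RingHom.ext fun x => (hψ j x).symm
    rw [hr]

end

end Groth.Agent.Lib.Helper34.ASTors
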