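import Mathlib
import Groth.Agent.Lib.Helper14.KrullAkizukiThm

/-!
# Finiteness of valuation rings centred on a fixed nonzero element of a Dedekind domain
-/

namespace Groth.Agent.Lib.Helper34.ValFin

open IsDedekindDomain

section DVR

variable (B F : Type*) [CommRing B] [IsDedekindDomain B] [Field F] [Algebra B F] [IsFractionRing B F]

/-- the localisation of a Dedekind domain at a nonzero prime is a valuation ring of `F` -/
theorem exists_div_or_inv (Q : Ideal B) [hQp : Q.IsPrime] (hQ : Q ≠ ⊥) (r : F) :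
    (∃ b s : B, s ∉ Q ∧ r = algebraMap B F b * (algebraMap B F s)⁻¹) ∨
      (∃ b s : B, s ∉ Q ∧ r⁻¹ = algebraMap B F b * (algebraMap B F s)⁻¹) := by
  have hS : Q.primeCompl ≤ nonZeroDivisors B := Q.primeCompl_le_nonZeroDivisors
  obtain ⟨V, hV⟩ : ∃ V : Subalgebra B F, V = Localization.subalgebra.ofField F Q.primeCompl hS :=
    ⟨_, rfl⟩
  haveI : IsLocalization.AtPrime V Q := by
    rw [hV]; exact Localization.subalgebra.isLocalization_ofField F Q.primeCompl hS
  haveI : IsDiscreteValuationRing V :=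
    IsLocalization.AtPrime.isDiscreteValuationRing_of_dedekind_domain B hQ V
  have hmem : ∀ y : V, ∃ b s : B, s ∉ Q ∧ (y : F) = algebraMap B F b * (algebraMap B F s)⁻¹ := by
    intro y
    have hy : (y : F) ∈ Localization.subalgebra.ofField F Q.primeCompl hS := by
      rw [← hV]; exact y.2
    obtain ⟨b, s, hs, h⟩ := hy
    exact ⟨b, s, hs, h⟩
  rcases ValuationRing.isInteger_or_isInteger V r with ⟨y, hy⟩ | ⟨y, hy⟩
  · left
    obtain ⟨b, s, hs, h⟩ := hmem y
    exact ⟨b, s, hs, by rw [← hy]; exact h⟩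
  · right
    obtain ⟨b, s, hs, h⟩ := hmem y
    exact ⟨b, s, hs, by rw [← hy]; exact h⟩

end DVR

section Fin

variable (B F : Type*) [CommRing B] [IsDedekindDomain B] [Field F] [Algebra B F] [IsFractionRing B F]

/-- the centre of a valuation subring on `B`, as a set -/
def centre (O : ValuationSubring F) : Set B := {b | O.valuation (algebraMap B F b) < 1}

variable {B F}

theorem valuation_le_one_of_range_le {O : ValuationSubring F}
    (hO : (algebraMap B F).range ≤ O.toSubring) (b : B) : O.valuation (algebraMap B F b) ≤ 1 :=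
  (O.valuation_le_one_iff _).2 (hO ⟨b, rfl⟩)

theorem valuation_eq_one_of_notMem_centre {O : ValuationSubring F}
    (hO : (algebraMap B F).range ≤ O.toSubring) {b : B} (hb : b ∉ centre B F O) :
    O.valuation (algebraMap B F b) = 1 :=
  le_antisymm (valuation_le_one_of_range_le hO b) (not_lt.1 hb)

/-- the centre is (the underlying set of) a prime ideal -/
theorem exists_ideal_eq_centre {O : ValuationSubring F}
    (hO : (algebraMap B F).range ≤ O.toSubring) :
    ∃ Q : Ideal B, Q.IsPrime ∧ (Q : Set B) = centre B F O := by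
  obtain ⟨φ, hφ⟩ : ∃ φ : B →+* O, ∀ b, ((φ b : O) : F) = algebraMap B F b :=
    ⟨(algebraMap B F).codRestrict O.toSubring (fun b => hO ⟨b, rfl⟩), fun b => rfl⟩
  refine ⟨(IsLocalRing.maximalIdeal O).comap φ, Ideal.comap_isPrime φ _, ?_⟩
  ext b
  change b ∈ (IsLocalRing.maximalIdeal O).comap φ ↔ O.valuation (algebraMap B F b) < 1
  rw [Ideal.mem_comap, ValuationSubring.valuation_lt_one_iff, hφ]

theorem le_of_centre_eq {O O' : ValuationSubring F}
    (hO : (algebraMap B F).range ≤ O.toSubring) (hO' : (algebraMap B F).range ≤ O'.toSubring)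
    (Q : Ideal B) [Q.IsPrime] (hQ0 : Q ≠ ⊥) (hQ : (Q : Set B) = centre B F O)
    (hQ' : (Q : Set B) = centre B F O') : O ≤ O' := by
  intro r hr
  by_contra hr'
  have hr1 : O.valuation r ≤ 1 := (O.valuation_le_one_iff _).2 hr
  have hr1' : 1 < O'.valuation r := by
    rw [← not_le, O'.valuation_le_one_iff]; exact hr'
  have hcen : ∀ s : B, s ∉ Q → O.valuation (algebraMap B F s) = 1 ∧
      O'.valuation (algebraMap B F s) = 1 := by
    intro s hs
    refine ⟨valuation_eq_one_of_notMem_centre hO ?_, valuation_eq_one_of_notMem_centre hO' ?_⟩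
    · rw [← hQ]; exact hs
    · rw [← hQ']; exact hs
  rcases exists_div_or_inv B F Q hQ0 r with ⟨b, s, hs, h⟩ | ⟨b, s, hs, h⟩
  · -- r = b / s, so r ∈ O'
    have : O'.valuation r ≤ 1 := by
      rw [h, map_mul, map_inv₀, (hcen s hs).2, inv_one, mul_one]
      exact valuation_le_one_of_range_le hO' b
    exact absurd this (not_le.2 hr1')
  · -- r⁻¹ = b / s
    have h1 : O'.valuation (algebraMap B F b) < 1 := by
      have : O'.valuation r⁻¹ < 1 := by
        rw [map_inv₀]; exact inv_lt_one_of_one_lt₀ hr1'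
      rw [h, map_mul, map_inv₀, (hcen s hs).2, inv_one, mul_one] at this
      exact this
    have hbQ : b ∈ Q := by
      have : b ∈ (Q : Set B) := by rw [hQ']; exact h1
      exact this
    have h2 : O.valuation (algebraMap B F b) < 1 := by
      have : b ∈ centre B F O := by rw [← hQ]; exact hbQ
      exact this
    have h3 : O.valuation r⁻¹ < 1 := by
      rw [h, map_mul, map_inv₀, (hcen s hs).1, inv_one, mul_one]; exact h2
    have hr0 : O.valuation r ≠ 0 := by
      intro h0
      rw [map_inv₀, h0, inv_zero] at h3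
      have : O'.valuation r = 0 := by
        rw [Valuation.zero_iff] at h0 ⊢; exact h0
      rw [this] at hr1'
      exact absurd hr1' (not_lt.2 zero_le_one)
    rw [map_inv₀] at h3
    have : 1 < O.valuation r := (inv_lt_one₀ (zero_lt_iff.2 hr0)).1 h3
    exact absurd hr1 (not_le.2 this)

/-- **Finiteness**: only finitely many valuation subrings of `F` contain the Dedekind domain `B`
and have a given nonzero `π ∈ B` in their maximal ideal. -/
theorem finite_valuationSubring {π : B} (hπ : π ≠ 0) :
    {O : ValuationSubring F | (algebraMap B F).range ≤ O.toSubring ∧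
      (algebraMap B F π)⁻¹ ∉ O}.Finite := by
  have hT : {Q : Ideal B | Q.IsPrime ∧ π ∈ Q}.Finite :=
    Groth.Agent.Lib.Helper14.KrullAkizuki.finite_setOf_isPrime_mem hπ
  have hT' := hT.image (fun Q : Ideal B => (Q : Set B))
  have hπF : algebraMap B F π ≠ 0 :=
    (map_ne_zero_iff _ (IsFractionRing.injective B F)).2 hπ
  have hπcen : ∀ O : ValuationSubring F, (algebraMap B F π)⁻¹ ∉ O → π ∈ centre B F O := by
    intro O hO
    change O.valuation (algebraMap B F π) < 1
    rw [← O.valuation_le_one_iff, not_le, map_inv₀] at hO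
    have h0 : O.valuation (algebraMap B F π) ≠ 0 := (Valuation.ne_zero_iff _).2 hπF
    exact (one_lt_inv₀ (zero_lt_iff.2 h0)).1 hO
  refine Set.Finite.of_injOn (f := centre B F) ?_ ?_ hT'
  · rintro O ⟨hO, hπO⟩
    obtain ⟨Q, hQp, hQ⟩ := exists_ideal_eq_centre hO
    refine ⟨Q, ⟨hQp, ?_⟩, hQ⟩
    have : π ∈ (Q : Set B) := by rw [hQ]; exact hπcen O hπO
    exact this
  · rintro O ⟨hO, hπO⟩ O' ⟨hO', hπO'⟩ hOO'
    obtain ⟨Q, hQp, hQ⟩ := exists_ideal_eq_centre hO
    have hQ' : (Q : Set B) = centre B F O' := by rw [hQ]; exact hOO'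
    have hQ0 : Q ≠ ⊥ := by
      intro hbot
      have : π ∈ (Q : Set B) := by rw [hQ]; exact hπcen O hπO
      rw [hbot] at this
      exact hπ this
    exact le_antisymm (le_of_centre_eq hO hO' Q hQ0 hQ hQ') (le_of_centre_eq hO' hO Q hQ0 hQ' hQ)

end Fin

end Groth.Agent.Lib.Helper34.ValFin
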