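import Mathlib
import Groth.Agent.S10843
import Groth.Agent.Lib.Helper34.ValFin

/-!
# Valuation subrings of the function field of an affine curve not containing the coordinate ring
-/

namespace Groth.Agent.Lib.Helper34.AffCurveVal

open Polynomial

section FD

theorem finiteDimensional_of_fractionRing (k K A F : Type*) [Field k] [Field K] [Field F]
    [CommRing A] [Algebra k K] [Algebra K F] [Algebra k F] [IsScalarTower k K F]
    [Algebra k A] [Algebra.FiniteType k A] [Algebra A F] [IsScalarTower k A F] [IsFractionRing A F]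
    (hint : ∀ a : A, IsIntegral K (algebraMap A F a)) : FiniteDimensional K F := by
  classical
  obtain ⟨s, hs⟩ := (Algebra.FiniteType.out : (⊤ : Subalgebra k A).FG)
  obtain ⟨E, hE⟩ : ∃ E : IntermediateField K F,
      E = IntermediateField.adjoin K ((algebraMap A F) '' (s : Set A)) := ⟨_, rfl⟩
  haveI : Finite ((algebraMap A F) '' (s : Set A)) := (s.finite_toSet.image _).to_subtype
  haveI hfd : FiniteDimensional K E := by
    rw [hE]
    apply IntermediateField.finiteDimensional_adjoin
    rintro _ ⟨a, -, rfl⟩
    exact hint a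
  have hA : ∀ a : A, algebraMap A F a ∈ E := by
    intro a
    have ha : a ∈ Algebra.adjoin k (s : Set A) := by rw [hs]; trivial
    induction ha using Algebra.adjoin_induction with
    | mem x hx =>
      rw [hE]
      exact IntermediateField.subset_adjoin K _ ⟨x, hx, rfl⟩
    | algebraMap r =>
      rw [← IsScalarTower.algebraMap_apply k A F, IsScalarTower.algebraMap_apply k K F]
      exact E.algebraMap_mem _
    | add x y _ _ hx hy => rw [map_add]; exact E.add_mem hx hy
    | mul x y _ _ hx hy => rw [map_mul]; exact E.mul_mem hx hy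
  have htop : E = ⊤ := by
    rw [eq_top_iff]
    intro f _
    obtain ⟨a, b, -, rfl⟩ := IsFractionRing.div_surjective (A := A) f
    exact E.div_mem (hA a) (hA b)
  rw [htop] at hfd
  exact Module.Finite.equiv (IntermediateField.topEquiv (F := K) (E := F)).toLinearEquiv

end FD

section Integral

theorem integers_valuationSubring {F : Type*} [Field F] (O : ValuationSubring F) :
    O.valuation.Integers O where
  hom_inj := Subtype.val_injective
  map_le_one := fun x => O.valuation_le_one x
  exists_of_le_one := fun r hr => ⟨⟨r, (O.valuation_le_one_iff r).1 hr⟩, rfl⟩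

theorem mem_of_isIntegral_of_range_le {R F : Type*} [CommRing R] [Field F] [Algebra R F]
    (O : ValuationSubring F) (hR : (algebraMap R F).range ≤ O.toSubring) {x : F}
    (hx : IsIntegral R x) : x ∈ O := by
  obtain ⟨ι, hι⟩ : ∃ ι : R →+* O, ∀ r, ((ι r : O) : F) = algebraMap R F r :=
    ⟨(algebraMap R F).codRestrict O.toSubring (fun r => hR ⟨r, rfl⟩), fun r => rfl⟩
  have h1 : IsIntegral O (RingHom.id F x) := by
    refine IsIntegral.map_of_comp_eq ι (RingHom.id F) ?_ hx
    ext r
    exact hι r
  have h2 := (integers_valuationSubring O).mem_of_integral h1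
  exact (O.valuation_le_one_iff x).1 h2

end Integral

section Main

universe u

theorem main (k A F : Type u) [Field k] [CommRing A] [IsDomain A] [Algebra k A]
    [Algebra.FiniteType k A] (hA : ringKrullDim A = 1) [Field F] [Algebra A F] [IsFractionRing A F]
    [Algebra k F] [IsScalarTower k A F] :
    {O : ValuationSubring F | (algebraMap k F).range ≤ O.toSubring ∧
        ¬ (algebraMap A F).range ≤ O.toSubring}.Finite := by
  classical
  -- Noether normalisation
  obtain ⟨φ, hfin, hinj⟩ := (Groth.Agent.S10843.result k A 1).mp (by rw [hA]; rfl)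
  obtain ⟨x, hx⟩ : ∃ x : A, x = φ (MvPolynomial.X 0) := ⟨_, rfl⟩
  obtain ⟨xF, hxF⟩ : ∃ xF : F, xF = algebraMap A F x := ⟨_, rfl⟩
  have hginj : Function.Injective ((IsScalarTower.toAlgHom k A F).comp φ) :=
    (IsFractionRing.injective A F).comp hinj
  have htr : Transcendental k xF := by
    have h1 : AlgebraicIndependent k (fun _ : Fin 1 => xF) := by
      rw [algebraicIndependent_iff_injective_aeval]
      have : MvPolynomial.aeval (fun _ : Fin 1 => xF) = (IsScalarTower.toAlgHom k A F).comp φ := by
        apply MvPolynomial.algHom_ext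
        intro i
        rw [MvPolynomial.aeval_X, AlgHom.comp_apply, Subsingleton.elim i 0, ← hx, hxF]
        rfl
      rw [this]; exact hginj
    exact algebraicIndependent_unique_type_iff.1 h1
  have hxF0 : xF ≠ 0 := fun h => htr (h ▸ isAlgebraic_zero)
  obtain ⟨t, ht⟩ : ∃ t : F, t = xF⁻¹ := ⟨_, rfl⟩
  have ht0 : t ≠ 0 := by rw [ht]; exact inv_ne_zero hxF0
  have httr : Transcendental k t := by
    intro halg
    rw [ht, IsAlgebraic.inv_iff] at halg
    exact htr halg
  obtain ⟨ρ, hρ⟩ : ∃ ρ : k[X] →ₐ[k] F, ρ = Polynomial.aeval t := ⟨_, rfl⟩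
  have hρinj : Function.Injective ρ := by rw [hρ]; exact transcendental_iff_injective.1 httr
  obtain ⟨ψ, hψ⟩ : ∃ ψ : RatFunc k →ₐ[k] F, ψ = IsFractionRing.liftAlgHom hρinj := ⟨_, rfl⟩
  have hψalg : ∀ p : k[X], ψ (algebraMap k[X] (RatFunc k) p) = ρ p := by
    intro p
    rw [hψ, IsFractionRing.liftAlgHom_apply, IsFractionRing.lift_algebraMap]
    rfl
  letI algPF : Algebra k[X] F := ρ.toRingHom.toAlgebra
  letI algKF : Algebra (RatFunc k) F := ψ.toRingHom.toAlgebra
  haveI : IsScalarTower k[X] (RatFunc k) F :=
    IsScalarTower.of_algebraMap_eq (fun p => (hψalg p).symm)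
  haveI : IsScalarTower k (RatFunc k) F :=
    IsScalarTower.of_algebraMap_eq (fun c => (ψ.commutes c).symm)
  have hint : ∀ a : A, IsIntegral (RatFunc k) (algebraMap A F a) := by
    intro a
    letI : Algebra (MvPolynomial (Fin 1) k) A := φ.toRingHom.toAlgebra
    have ha : IsIntegral (MvPolynomial (Fin 1) k) a := hfin.to_isIntegral a
    obtain ⟨θ, hθ⟩ : ∃ θ : MvPolynomial (Fin 1) k →ₐ[k] RatFunc k,
        θ = MvPolynomial.aeval (fun _ => (RatFunc.X)⁻¹) := ⟨_, rfl⟩
    refine IsIntegral.map_of_comp_eq θ.toRingHom (algebraMap A F) ?_ ha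
    apply MvPolynomial.ringHom_ext
    · intro c
      change ψ (θ (MvPolynomial.C c)) = algebraMap A F (φ (MvPolynomial.C c))
      rw [← MvPolynomial.algebraMap_eq, AlgHom.commutes, AlgHom.commutes, AlgHom.commutes,
        ← IsScalarTower.algebraMap_apply]
    · intro i
      change ψ (θ (MvPolynomial.X i)) = algebraMap A F (φ (MvPolynomial.X i))
      rw [hθ, MvPolynomial.aeval_X, map_inv₀, ← RatFunc.algebraMap_X, hψalg, hρ,
        Polynomial.aeval_X, ht, inv_inv, hxF, hx, Subsingleton.elim i 0]
  haveI : FiniteDimensional (RatFunc k) F :=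
    finiteDimensional_of_fractionRing k (RatFunc k) A F hint
  -- the integral closure of `k[t]` in `F` is a Dedekind domain
  have hinjB : Function.Injective (algebraMap (integralClosure k[X] F) F) := Subtype.val_injective
  haveI hN : IsNoetherianRing (integralClosure k[X] F) :=
    Groth.Agent.Lib.Helper14.KrullAkizuki.isNoetherianRing_of_injective k[X] (RatFunc k) F hinjB
  haveI hD : Ring.KrullDimLE 1 (integralClosure k[X] F) :=
    Groth.Agent.Lib.Helper14.KrullAkizuki.krullDimLE_one_of_injective k[X] (RatFunc k) F hinjB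
  haveI hIC : IsIntegrallyClosed (integralClosure k[X] F) :=
    integralClosure.isIntegrallyClosedOfFiniteExtension (RatFunc k)
  haveI hFr : IsFractionRing (integralClosure k[X] F) F :=
    integralClosure.isFractionRing_of_finite_extension (RatFunc k) F
  haveI hD1 : Ring.DimensionLEOne (integralClosure k[X] F) :=
    ⟨fun hp hprime => hprime.isMaximal_of_ne_bot hp⟩
  haveI hDed : IsDedekindDomain (integralClosure k[X] F) :=
    { toIsNoetherian := hN, toDimensionLEOne := hD1, toIsIntegralClosure := hIC }
  obtain ⟨π, hπ⟩ : ∃ π : integralClosure k[X] F, π = algebraMap k[X] (integralClosure k[X] F) X :=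
    ⟨_, rfl⟩
  have hπF : algebraMap (integralClosure k[X] F) F π = t := by
    rw [hπ, ← IsScalarTower.algebraMap_apply k[X] (integralClosure k[X] F) F]
    change ρ X = t
    rw [hρ, Polynomial.aeval_X]
  have hπ0 : π ≠ 0 := by
    intro h0
    rw [h0, map_zero] at hπF
    exact ht0 hπF.symm
  refine (ValFin.finite_valuationSubring (B := integralClosure k[X] F) (F := F) hπ0).subset ?_
  rintro O ⟨hk, hAO⟩
  -- `x ∉ O`
  have hxO : xF ∉ O := by
    intro hxO
    apply hAO
    rintro _ ⟨a, rfl⟩
    letI : Algebra (MvPolynomial (Fin 1) k) A := φ.toRingHom.toAlgebra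
    letI : Algebra (MvPolynomial (Fin 1) k) F := ((algebraMap A F).comp φ.toRingHom).toAlgebra
    haveI : IsScalarTower (MvPolynomial (Fin 1) k) A F := IsScalarTower.of_algebraMap_eq (fun _ => rfl)
    have ha : IsIntegral (MvPolynomial (Fin 1) k) a := hfin.to_isIntegral a
    have ha' : IsIntegral (MvPolynomial (Fin 1) k) (algebraMap A F a) :=
      ha.map (IsScalarTower.toAlgHom (MvPolynomial (Fin 1) k) A F)
    refine mem_of_isIntegral_of_range_le O ?_ ha'
    rintro _ ⟨p, rfl⟩
    change algebraMap A F (φ p) ∈ O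
    induction p using MvPolynomial.induction_on with
    | C c =>
      rw [← MvPolynomial.algebraMap_eq, AlgHom.commutes, ← IsScalarTower.algebraMap_apply]
      exact hk ⟨c, rfl⟩
    | add p q hp hq => rw [map_add, map_add]; exact O.add_mem _ _ hp hq
    | mul_X p i hp =>
      rw [map_mul, map_mul, Subsingleton.elim i 0, ← hx, ← hxF]
      exact O.mul_mem _ _ hp hxO
  have htO : t ∈ O := by
    rcases O.mem_or_inv_mem xF with h | h
    · exact absurd h hxO
    · rw [ht]; exact h
  refine ⟨?_, ?_⟩
  · rintro _ ⟨b, rfl⟩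
    have hb : IsIntegral k[X] (algebraMap (integralClosure k[X] F) F b) := b.2
    refine mem_of_isIntegral_of_range_le O ?_ hb
    rintro _ ⟨p, rfl⟩
    change ρ p ∈ O
    induction p using Polynomial.induction_on' with
    | add p q hp hq => rw [map_add]; exact O.add_mem _ _ hp hq
    | monomial n a =>
      rw [← C_mul_X_pow_eq_monomial, map_mul, map_pow, hρ, Polynomial.aeval_X, Polynomial.aeval_C]
      exact O.mul_mem _ _ (hk ⟨a, rfl⟩) (O.pow_mem htO n)
  · rw [hπF, ht, inv_inv]
    exact hxO

end Main

end Groth.Agent.Lib.Helper34.AffCurveVal
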