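import Mathlib

/-!
# Affine opens containing images (S7660), part A: topology and a local separation lemma (helper34)
-/

set_option autoImplicit false
universe u
open CategoryTheory CategoryTheory.Limits AlgebraicGeometry TopologicalSpace Opposite

namespace Groth.Agent.Lib.Helper34.AffImg

section Top

variable {α : Type*} [TopologicalSpace α]

/-- A point is *minimal* if it has no proper generalization. -/
def IsMinPt (η : α) : Prop := ∀ z : α, z ⤳ η → z = η

theorem isMinPt_of_mem_irreducibleComponents [T0Space α] {η : α}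
    (h : closure ({η} : Set α) ∈ irreducibleComponents α) : IsMinPt η := by
  intro z hz
  have h1 : closure ({η} : Set α) ⊆ closure {z} := by
    apply closure_minimal _ isClosed_closure
    rintro _ rfl
    exact hz.mem_closure
  have h2 : IsIrreducible (closure ({z} : Set α)) := isIrreducible_singleton.closure
  have h3 : closure ({z} : Set α) ⊆ closure {η} := h.2 h2 h1
  have h4 : η ⤳ z := specializes_iff_mem_closure.mpr (h3 (subset_closure rfl))
  exact (hz.antisymm h4).eq

theorem mem_irreducibleComponents_of_isMinPt [QuasiSober α] [T0Space α] {η : α}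
    (h : IsMinPt η) : closure ({η} : Set α) ∈ irreducibleComponents α := by
  refine ⟨isIrreducible_singleton.closure, ?_⟩
  intro S hS hle
  have hS' : IsIrreducible (closure S) := hS.closure
  obtain ⟨ζ, hζ⟩ := QuasiSober.sober hS' isClosed_closure
  have h1 : η ∈ closure ({ζ} : Set α) := by
    rw [hζ.def]
    exact subset_closure (hle (subset_closure rfl))
  have h2 : ζ ⤳ η := specializes_iff_mem_closure.mpr h1
  have h3 : ζ = η := h ζ h2
  rw [← h3, hζ.def]
  exact subset_closure

theorem exists_isMinPt_specializes [QuasiSober α] [T0Space α] (t : α) :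
    ∃ η : α, η ⤳ t ∧ IsMinPt η := by
  obtain ⟨Z, hZ, hZt⟩ := exists_mem_irreducibleComponents_subset_of_isIrreducible
    ({t} : Set α) isIrreducible_singleton
  have hZc : IsClosed Z := isClosed_of_mem_irreducibleComponents Z hZ
  obtain ⟨η, hη⟩ := QuasiSober.sober hZ.1 hZc
  refine ⟨η, ?_, ?_⟩
  · rw [specializes_iff_mem_closure, hη.def]
    exact hZt rfl
  · apply isMinPt_of_mem_irreducibleComponents
    rw [hη.def]
    exact hZ

theorem IsMinPt.of_isInducing {β : Type*} [TopologicalSpace β] {φ : α → β}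
    (hφ : Topology.IsInducing φ) (hsurj : Function.Surjective φ) {η : α} (h : IsMinPt η) :
    IsMinPt (φ η) := by
  intro z hz
  obtain ⟨z', rfl⟩ := hsurj z
  rw [hφ.specializes_iff] at hz
  rw [h z' hz]

theorem IsMinPt.of_isInducing_map {β : Type*} [TopologicalSpace β] {φ : α → β}
    (hφ : Topology.IsInducing φ) (hinj : Function.Injective φ) {η : α} (h : IsMinPt (φ η)) :
    IsMinPt η := by
  intro z hz
  apply hinj
  apply h
  rw [hφ.specializes_iff]
  exact hz

end Top

section Alg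

/-- Local separation in a prime spectrum: if every generalization `q` of `p` with `γ ∉ q` lies in
the open `O`, then there is `a ∉ p` such that `D(a) ∩ D(γ) ⊆ O`. -/
theorem exists_notMem_forall_mem_open {B : Type*} [CommRing B] (p : PrimeSpectrum B) (γ : B)
    (O : Set (PrimeSpectrum B)) (hO : IsOpen O)
    (h : ∀ q : PrimeSpectrum B, q ≤ p → γ ∉ q.asIdeal → q ∈ O) :
    ∃ a : B, a ∉ p.asIdeal ∧ ∀ q : PrimeSpectrum B, a ∉ q.asIdeal → γ ∉ q.asIdeal → q ∈ O := by
  obtain ⟨J, hJ⟩ := (PrimeSpectrum.isClosed_iff_zeroLocus_ideal _).mp hO.isClosed_compl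
  by_contra hcon
  push Not at hcon
  let S : Submonoid B := p.asIdeal.primeCompl ⊔ Submonoid.powers γ
  have hdisj : Disjoint (J : Set B) (S : Set B) := by
    rw [Set.disjoint_left]
    intro x hxJ hxS
    obtain ⟨a, ha, c, hc, rfl⟩ := Submonoid.mem_sup.mp hxS
    obtain ⟨n, rfl⟩ := hc
    obtain ⟨q, hqa, hqγ, hqO⟩ := hcon a ha
    have hq : q ∈ PrimeSpectrum.zeroLocus (J : Set B) := by
      rw [← hJ]; exact hqO
    have : a * γ ^ n ∈ q.asIdeal := hq hxJ
    rcases q.2.mem_or_mem this with h1 | h1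
    · exact hqa h1
    · exact hqγ (q.2.mem_of_pow_mem _ h1)
  obtain ⟨q₀, hq₀, hJq₀, hq₀S⟩ := Ideal.exists_le_prime_disjoint J S hdisj
  have hle : q₀ ≤ p.asIdeal := by
    intro x hx
    by_contra hxp
    exact (Set.disjoint_left.mp hq₀S) hx (Submonoid.mem_sup_left hxp)
  have hγ : γ ∉ q₀ := fun hγ =>
    (Set.disjoint_left.mp hq₀S) hγ (Submonoid.mem_sup_right (Submonoid.mem_powers γ))
  have hmem : (⟨q₀, hq₀⟩ : PrimeSpectrum B) ∈ O := h ⟨q₀, hq₀⟩ hle hγ
  have hnot : (⟨q₀, hq₀⟩ : PrimeSpectrum B) ∈ Oᶜ := by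
    rw [hJ]
    exact hJq₀
  exact hnot hmem

end Alg

section Sch

/-- Local separation on a scheme: if every generalization of `x` lying in the basic open of `γ`
lies in the open `O`, then this holds on a whole neighbourhood of `x`. -/
theorem exists_nhd_inf_basicOpen_le {X : Scheme.{u}} {W : X.Opens} (γ : Γ(X, W)) (x : X)
    (hx : x ∈ W) (O : X.Opens)
    (h : ∀ y : X, y ⤳ x → y ∈ X.basicOpen γ → y ∈ O) :
    ∃ N : X.Opens, x ∈ N ∧ N ⊓ X.basicOpen γ ≤ O := by
  obtain ⟨_, ⟨V, hV : IsAffineOpen V, rfl⟩, hxV, hVW⟩ :=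
    X.isBasis_affineOpens.exists_subset_of_mem_open hx W.isOpen
  have hVW' : V ≤ W := hVW
  let γ' : Γ(X, V) := X.presheaf.map (homOfLE hVW').op γ
  have hγ' : X.basicOpen γ' = V ⊓ X.basicOpen γ := Scheme.basicOpen_res _ _ _
  let p : PrimeSpectrum Γ(X, V) := hV.primeIdealOf ⟨x, hxV⟩
  have hp : hV.fromSpec p = x := hV.fromSpec_primeIdealOf ⟨x, hxV⟩
  have key : ∀ (q : PrimeSpectrum Γ(X, V)) (a : Γ(X, V)),
      a ∉ q.asIdeal ↔ hV.fromSpec q ∈ X.basicOpen a := by
    intro q a
    have := hV.fromSpec_preimage_basicOpen a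
    have h2 : hV.fromSpec q ∈ X.basicOpen a ↔ q ∈ hV.fromSpec ⁻¹ᵁ X.basicOpen a := Iff.rfl
    rw [h2, this]
    rfl
  obtain ⟨a, hap, ha⟩ := exists_notMem_forall_mem_open p γ'
    (SetLike.coe (hV.fromSpec ⁻¹ᵁ O))
    (hV.fromSpec ⁻¹ᵁ O).isOpen (by
      intro q hq hγq
      have h1 : hV.fromSpec q ⤳ x := by
        rw [← hp]
        exact ((PrimeSpectrum.le_iff_specializes q p).mp hq).map hV.fromSpec.continuous
      have h2 : hV.fromSpec q ∈ X.basicOpen γ' := (key q γ').mp hγq
      rw [hγ'] at h2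
      exact h _ h1 h2.2)
  refine ⟨X.basicOpen a, ?_, ?_⟩
  · rw [← hp]
    exact (key p a).mp hap
  · rintro z ⟨hza, hzγ⟩
    have hzV : z ∈ V := X.basicOpen_le a hza
    let q : PrimeSpectrum Γ(X, V) := hV.primeIdealOf ⟨z, hzV⟩
    have hq : hV.fromSpec q = z := hV.fromSpec_primeIdealOf ⟨z, hzV⟩
    have h1 : a ∉ q.asIdeal := (key q a).mpr (by rw [hq]; exact hza)
    have h2 : γ' ∉ q.asIdeal := (key q γ').mpr (by rw [hq, hγ']; exact ⟨hzV, hzγ⟩)
    have := ha q h1 h2
    rw [← hq]
    exact this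

end Sch

end Groth.Agent.Lib.Helper34.AffImg
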