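import Mathlib
import Groth.Agent.Lib.Helper34.AffImgA

/-!
# Affine opens containing images (S7660), part B: spreading out sections (helper34)
-/

set_option autoImplicit false
universe u
open CategoryTheory CategoryTheory.Limits AlgebraicGeometry TopologicalSpace Opposite

namespace Groth.Agent.Lib.Helper34.AffImg

variable {T X : Scheme.{u}} (f : T ⟶ X)

theorem exists_local_spread (t : T) (hsurj : Function.Surjective (f.stalkMap t)) (a : Γ(T, ⊤))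
    (W₀ : X.Opens) (ht : f t ∈ W₀) :
    ∃ (W : X.Opens) (b : Γ(X, W)) (N : T.Opens) (hN : N ≤ f ⁻¹ᵁ W), W ≤ W₀ ∧ t ∈ N ∧
      ∀ (z : T) (hz : z ∈ N), f.stalkMap z (X.presheaf.germ W (f z) (hN hz) b) =
        T.presheaf.germ ⊤ z trivial a := by
  obtain ⟨σ, hσ⟩ := hsurj (T.presheaf.germ ⊤ t trivial a)
  obtain ⟨U, hU, b₀, hb₀⟩ := X.presheaf.exists_germ_eq σ
  let W : X.Opens := U ⊓ W₀
  have htW : f t ∈ W := ⟨hU, ht⟩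
  let b : Γ(X, W) := X.presheaf.map (homOfLE (inf_le_left : W ≤ U)).op b₀
  have hb : X.presheaf.germ W (f t) htW b = σ := by
    rw [← hb₀]; exact X.presheaf.germ_res_apply _ _ _ _
  have h1 : T.presheaf.germ (f ⁻¹ᵁ W) t htW (f.app W b) = T.presheaf.germ ⊤ t trivial a := by
    rw [← Scheme.Hom.germ_stalkMap_apply, hb, hσ]
  obtain ⟨N, htN, iU, iV, e⟩ := T.presheaf.germ_eq (V := ⊤) t htW trivial _ _ h1
  refine ⟨W, b, N, iU.le, inf_le_right, htN, ?_⟩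
  intro z hz
  rw [Scheme.Hom.germ_stalkMap_apply]
  rw [← T.presheaf.germ_res_apply iU z hz, e, T.presheaf.germ_res_apply iV z hz]

theorem spread_compat [IsReduced X] (G : Set X) (hGmin : ∀ ξ ∈ G, IsMinPt ξ)
    (hGdense : ∀ x : X, ∃ ξ ∈ G, ξ ⤳ x)
    (hinj : ∀ η η' : T, IsMinPt η → IsMinPt η' → f η = f η' → η = η')
    (a : Γ(T, ⊤)) {t₁ t₂ : T}
    (hgen₁ : ∀ y : X, y ⤳ f t₁ → ∃ t' : T, t' ⤳ t₁ ∧ f t' = y)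
    (hgen₂ : ∀ y : X, y ⤳ f t₂ → ∃ t' : T, t' ⤳ t₂ ∧ f t' = y)
    {W₁ W₂ : X.Opens} (b₁ : Γ(X, W₁)) (b₂ : Γ(X, W₂)) {N₁ N₂ : T.Opens}
    (hN₁ : N₁ ≤ f ⁻¹ᵁ W₁) (hN₂ : N₂ ≤ f ⁻¹ᵁ W₂) (ht₁ : t₁ ∈ N₁) (ht₂ : t₂ ∈ N₂)
    (hW₁ : ∀ ξ ∈ G, ξ ∈ W₁ → ξ ⤳ f t₁) (hW₂ : ∀ ξ ∈ G, ξ ∈ W₂ → ξ ⤳ f t₂)
    (e₁ : ∀ (z : T) (hz : z ∈ N₁), f.stalkMap z (X.presheaf.germ W₁ (f z) (hN₁ hz) b₁) =
        T.presheaf.germ ⊤ z trivial a)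
    (e₂ : ∀ (z : T) (hz : z ∈ N₂), f.stalkMap z (X.presheaf.germ W₂ (f z) (hN₂ hz) b₂) =
        T.presheaf.germ ⊤ z trivial a) :
    X.presheaf.map (Opens.infLELeft W₁ W₂).op b₁ = X.presheaf.map (Opens.infLERight W₁ W₂).op b₂ := by
  rw [← sub_eq_zero, ← basicOpen_eq_bot_iff, eq_bot_iff]
  intro y hy
  exfalso
  obtain ⟨ξ, hξG, hξy⟩ := hGdense y
  have hξ := hξy.mem_open (X.basicOpen _).isOpen hy
  have hξW : ξ ∈ W₁ ⊓ W₂ := X.basicOpen_le _ hξ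
  obtain ⟨η₁, hη₁t, hη₁⟩ := hgen₁ ξ (hW₁ ξ hξG hξW.1)
  obtain ⟨η₂, hη₂t, hη₂⟩ := hgen₂ ξ (hW₂ ξ hξG hξW.2)
  obtain ⟨η₁', hη₁', hmin₁⟩ := exists_isMinPt_specializes η₁
  obtain ⟨η₂', hη₂', hmin₂⟩ := exists_isMinPt_specializes η₂
  have h1 : f η₁' = ξ := hGmin ξ hξG _ (hη₁ ▸ hη₁'.map f.continuous)
  have h2 : f η₂' = ξ := hGmin ξ hξG _ (hη₂ ▸ hη₂'.map f.continuous)
  obtain rfl : η₁' = η₂' := hinj _ _ hmin₁ hmin₂ (h1.trans h2.symm)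
  have hηN₁ : η₁' ∈ N₁ := (hη₁'.trans hη₁t).mem_open N₁.isOpen ht₁
  have hηN₂ : η₁' ∈ N₂ := (hη₂'.trans hη₂t).mem_open N₂.isOpen ht₂
  subst h1
  have hξ' := (X.mem_basicOpen _ (f η₁') hξW).mp hξ
  have hu := hξ'.map (f.stalkMap η₁').hom
  rw [map_sub, map_sub] at hu
  erw [X.presheaf.germ_res_apply (Opens.infLELeft W₁ W₂) (f η₁') hξW b₁,
    X.presheaf.germ_res_apply (Opens.infLERight W₁ W₂) (f η₁') hξW b₂] at hu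
  erw [e₁ η₁' hηN₁, e₂ η₁' hηN₂, sub_self] at hu
  exact not_isUnit_zero hu

end Groth.Agent.Lib.Helper34.AffImg
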