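import Mathlib
import Groth.Agent.Lib.Helper34.AffImgB

/-!
# Affine opens containing images (S7660), part C: gluing the spread-out sections (helper34)
-/

set_option autoImplicit false
universe u
open CategoryTheory CategoryTheory.Limits AlgebraicGeometry TopologicalSpace Opposite

namespace Groth.Agent.Lib.Helper34.AffImg

variable {T X : Scheme.{u}} (f : T ⟶ X)

/-- The open complement of the closures of the points of `G` not specializing to `x`. -/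
def avoidOpen (G : Set X) (hG : G.Finite) (x : X) : X.Opens :=
  ⟨(⋃ ξ ∈ {ξ ∈ G | ¬ ξ ⤳ x}, closure ({ξ} : Set X))ᶜ,
    (Set.Finite.isClosed_biUnion (hG.subset (Set.sep_subset _ _))
      (fun _ _ => isClosed_closure)).isOpen_compl⟩

theorem mem_avoidOpen (G : Set X) (hG : G.Finite) (x : X) : x ∈ avoidOpen G hG x := by
  change x ∈ (⋃ ξ ∈ {ξ ∈ G | ¬ ξ ⤳ x}, closure ({ξ} : Set X))ᶜ
  rw [Set.mem_compl_iff, Set.mem_iUnion₂]
  rintro ⟨ξ, hξ, hx⟩
  exact hξ.2 (specializes_iff_mem_closure.mpr hx)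

theorem specializes_of_mem_avoidOpen (G : Set X) (hG : G.Finite) (x : X) {ξ : X} (hξ : ξ ∈ G)
    (h : ξ ∈ avoidOpen G hG x) : ξ ⤳ x := by
  by_contra hcon
  change ξ ∈ (⋃ ξ ∈ {ξ ∈ G | ¬ ξ ⤳ x}, closure ({ξ} : Set X))ᶜ at h
  apply h
  rw [Set.mem_iUnion₂]
  exact ⟨ξ, ⟨hξ, hcon⟩, subset_closure rfl⟩

theorem exists_spread [IsReduced X] (G : Set X) (hGfin : G.Finite) (hGmin : ∀ ξ ∈ G, IsMinPt ξ)
    (hGdense : ∀ x : X, ∃ ξ ∈ G, ξ ⤳ x)
    (hinj : ∀ η η' : T, IsMinPt η → IsMinPt η' → f η = f η' → η = η')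
    (s : Finset T) (hsurj : ∀ t ∈ s, Function.Surjective (f.stalkMap t))
    (hgen : ∀ t ∈ s, ∀ y : X, y ⤳ f t → ∃ t' : T, t' ⤳ t ∧ f t' = y)
    (a : Γ(T, ⊤)) :
    ∃ (W : X.Opens) (b : Γ(X, W)) (N : T.Opens), (∀ t ∈ s, t ∈ N) ∧ N ≤ f ⁻¹ᵁ W ∧
      ∀ z ∈ N, (f z ∈ X.basicOpen b ↔ z ∈ T.basicOpen a) := by
  choose W b N hN hWW₀ htN e using fun t : {t // t ∈ s} =>
    exists_local_spread f t.1 (hsurj _ t.2) a (avoidOpen G hGfin (f t.1)) (mem_avoidOpen _ _ _)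
  have compat : TopCat.Presheaf.IsCompatible X.presheaf W b := by
    intro i j
    exact spread_compat f G hGmin hGdense hinj a (hgen _ i.2) (hgen _ j.2) (b i) (b j)
      (hN i) (hN j) (htN i) (htN j)
      (fun ξ hξ hξW => specializes_of_mem_avoidOpen G hGfin _ hξ (hWW₀ i hξW))
      (fun ξ hξ hξW => specializes_of_mem_avoidOpen G hGfin _ hξ (hWW₀ j hξW))
      (e i) (e j)
  obtain ⟨B, hB, -⟩ := X.sheaf.existsUnique_gluing W b compat
  have hNW : iSup N ≤ f ⁻¹ᵁ (iSup W) := by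
    intro z hz
    obtain ⟨i, hi⟩ := Opens.mem_iSup.mp hz
    exact Opens.mem_iSup.mpr ⟨i, hN i hi⟩
  refine ⟨iSup W, B, iSup N, ?_, hNW, ?_⟩
  · intro t ht
    exact Opens.mem_iSup.mpr ⟨⟨t, ht⟩, htN ⟨t, ht⟩⟩
  · intro z hz
    obtain ⟨i, hi⟩ := Opens.mem_iSup.mp hz
    have hzW : f z ∈ W i := hN i hi
    have h1 : X.presheaf.germ (iSup W) (f z) (hNW hz) B = X.presheaf.germ (W i) (f z) hzW (b i) := by
      rw [← hB i]
      exact (X.presheaf.germ_res_apply (Opens.leSupr W i) (f z) hzW B).symm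
    rw [X.mem_basicOpen B (f z) (hNW hz), T.mem_basicOpen_top, h1, ← e i z hi]
    exact (isUnit_map_iff (f.stalkMap z).hom _).symm

end Groth.Agent.Lib.Helper34.AffImg
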