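import Mathlib
import Groth.Agent.Lib.Helper7.CosetAvoid

/-!
# Affine opens containing images (S7660), part D: finite sets in quasi-affine opens (helper34)
-/

set_option autoImplicit false
universe u
open CategoryTheory CategoryTheory.Limits AlgebraicGeometry TopologicalSpace Opposite

namespace Groth.Agent.Lib.Helper34.AffImg

open Groth.Agent.Lib.Helper7.CosetAvoid

/-- A finite set of points in a quasi-compact open `W'` that is covered by affine basic opens of
sections over `W'` is contained in an affine open. -/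
theorem exists_affineOpen_of_basicOpen_cover {X : Scheme.{u}} (W' : X.Opens)
    (hc : IsCompact (W' : Set X))
    (H : ∀ x ∈ W', ∃ r : Γ(X, W'), IsAffineOpen (X.basicOpen r) ∧ x ∈ X.basicOpen r)
    (F : Finset X) (hF : ∀ x ∈ F, x ∈ W') :
    ∃ U : X.Opens, IsAffineOpen U ∧ ∀ x ∈ F, x ∈ U := by
  classical
  haveI : CompactSpace W' := isCompact_iff_compactSpace.mp hc
  have H' : ∀ y : W'.toScheme, ∃ r : Γ(W'.toScheme, ⊤),
      IsAffineOpen (W'.toScheme.basicOpen r) ∧ y ∈ W'.toScheme.basicOpen r := by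
    intro y
    obtain ⟨r, hr, hyr⟩ := H y.1 y.2
    have himg := Scheme.Opens.ι_image_basicOpen_topIso_inv (U := W') r
    refine ⟨W'.topIso.inv r, ?_, ?_⟩
    · rw [← Scheme.Hom.isAffineOpen_iff_of_isOpenImmersion W'.ι, himg]
      exact hr
    · have : W'.ι y ∈ W'.ι ''ᵁ W'.toScheme.basicOpen (W'.topIso.inv r) := by
        rw [himg]; exact hyr
      obtain ⟨y', hy', e⟩ := this
      have : y' = y := W'.ι.isOpenEmbedding.injective e
      rw [← this]; exact hy'
  haveI : W'.toScheme.IsQuasiAffine := Scheme.IsQuasiAffine.of_forall_exists_mem_basicOpen _ H'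
  let j := W'.toScheme.toSpecΓ
  let Z := Spec Γ(W'.toScheme, ⊤)
  have hΔ : IsClosed (Set.range j)ᶜ := j.isOpenEmbedding.isOpen_range.isClosed_compl
  let F' : Finset Z := F.attach.image fun x => j ⟨x.1, hF x.1 x.2⟩
  obtain ⟨a, ha1, ha2⟩ := exists_basicOpen_avoid (isAffineOpen_top Z) _ hΔ F'
    (fun _ _ => trivial) (by
      intro z hz
      obtain ⟨x, -, rfl⟩ := Finset.mem_image.mp hz
      exact fun h => h ⟨_, rfl⟩)
  have hO : IsAffineOpen (Z.basicOpen a) := (isAffineOpen_top Z).basicOpen a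
  have hOr : Z.basicOpen a ≤ j.opensRange := by
    intro z hz
    by_contra hcon
    exact ha1 z hz hcon
  have hU₁ : IsAffineOpen (j ⁻¹ᵁ Z.basicOpen a) := by
    rw [← Scheme.Hom.isAffineOpen_iff_of_isOpenImmersion j,
      Scheme.Hom.image_preimage_eq_opensRange_inf, inf_eq_right.mpr hOr]
    exact hO
  refine ⟨W'.ι ''ᵁ (j ⁻¹ᵁ Z.basicOpen a), hU₁.image_of_isOpenImmersion W'.ι, ?_⟩
  intro x hx
  refine ⟨⟨x, hF x hx⟩, ?_, rfl⟩
  apply ha2
  exact Finset.mem_image.mpr ⟨⟨x, hx⟩, Finset.mem_attach _ _, rfl⟩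

end Groth.Agent.Lib.Helper34.AffImg
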