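import Mathlib
import Groth.Agent.Lib.Helper34.AffImgC
import Groth.Agent.Lib.Helper34.AffImgD

/-!
# Affine opens containing images (S7660), part E: the reduced case (helper34)
-/

set_option autoImplicit false
universe u
open CategoryTheory CategoryTheory.Limits AlgebraicGeometry TopologicalSpace Opposite

namespace Groth.Agent.Lib.Helper34.AffImg

theorem exists_open_le_of_finset {X : Scheme.{u}} {ι : Type*} (x : X) (s : Finset ι)
    (F : ι → X.Opens) (h : ∀ i ∈ s, x ∈ F i) : ∃ Q : X.Opens, x ∈ Q ∧ ∀ i ∈ s, Q ≤ F i := by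
  classical
  induction s using Finset.induction_on with
  | empty => exact ⟨⊤, trivial, fun i hi => absurd hi (Finset.notMem_empty i)⟩
  | insert a s _ ih =>
    obtain ⟨Q, hxQ, hQ⟩ := ih (fun i hi => h i (Finset.mem_insert_of_mem hi))
    refine ⟨Q ⊓ F a, ⟨hxQ, h a (Finset.mem_insert_self a s)⟩, ?_⟩
    intro i hi
    rcases Finset.mem_insert.mp hi with rfl | hi
    · exact inf_le_right
    · exact inf_le_left.trans (hQ i hi)

theorem exists_affineOpen_of_reduced {T X : Scheme.{u}} (f : T ⟶ X) [IsAffine T]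
    [QuasiSeparatedSpace X] [IsReduced X]
    (G : Set X) (hGfin : G.Finite) (hGmin : ∀ ξ ∈ G, IsMinPt ξ)
    (hGdense : ∀ x : X, ∃ ξ ∈ G, ξ ⤳ x)
    (hinj : ∀ η η' : T, IsMinPt η → IsMinPt η' → f η = f η' → η = η')
    (s : Finset T) (hsurj : ∀ t ∈ s, Function.Surjective (f.stalkMap t))
    (hgen : ∀ t ∈ s, ∀ y : X, y ⤳ f t → ∃ t' : T, t' ⤳ t ∧ f t' = y) :
    ∃ U : X.Opens, IsAffineOpen U ∧ ∀ t ∈ s, f t ∈ U := by
  classical
  -- Step 1: affine neighbourhoods and basic opens of `T`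
  have h1 : ∀ t : T, ∃ (V : X.Opens) (g : Γ(T, ⊤)), IsAffineOpen V ∧ f t ∈ V ∧
      t ∈ T.basicOpen g ∧ T.basicOpen g ≤ f ⁻¹ᵁ V := by
    intro t
    obtain ⟨_, ⟨V, hV, rfl⟩, hxV, -⟩ :=
      X.isBasis_affineOpens.exists_subset_of_mem_open (Set.mem_univ (f t)) isOpen_univ
    obtain ⟨g, hg1, hg2⟩ := (isAffineOpen_top T).exists_basicOpen_le (V := f ⁻¹ᵁ V) ⟨t, hxV⟩ trivial
    exact ⟨V, g, hV, hxV, hg2, hg1⟩
  choose V g hV hfV htg hgV using h1
  -- Step 2: spread out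
  choose W b N hsN hNW hb using fun t : T =>
    exists_spread f G hGfin hGmin hGdense hinj s hsurj hgen (g t)
  -- Step 3: separation
  have h3 : ∀ t k : T, ∃ M : X.Opens, k ∈ s → (f k ∈ M ∧ M ⊓ X.basicOpen (b t) ≤ V t) := by
    intro t k
    by_cases hk : k ∈ s
    · obtain ⟨M, hM1, hM2⟩ := exists_nhd_inf_basicOpen_le (b t) (f k) (hNW t (hsN t k hk)) (V t) (by
        intro y hy hyb
        obtain ⟨z, hz, rfl⟩ := hgen k hk y hy
        have hzN : z ∈ N t := hz.mem_open (N t).isOpen (hsN t k hk)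
        exact hgV t ((hb t z hzN).mp hyb))
      exact ⟨M, fun _ => ⟨hM1, hM2⟩⟩
    · exact ⟨⊤, fun h => absurd h hk⟩
  choose M hM using h3
  -- Step 4: small affine neighbourhoods
  have h4 : ∀ k : T, ∃ P : X.Opens, k ∈ s → (IsAffineOpen P ∧ f k ∈ P ∧ ∀ t ∈ s, P ≤ W t ⊓ M t k) := by
    intro k
    by_cases hk : k ∈ s
    · obtain ⟨Q, hkQ, hQ⟩ := exists_open_le_of_finset (f k) s (fun t => W t ⊓ M t k)
        (fun t _ => ⟨hNW t (hsN t k hk), (hM t k hk).1⟩)
      obtain ⟨_, ⟨P, hP, rfl⟩, hkP, hPQ⟩ :=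
        X.isBasis_affineOpens.exists_subset_of_mem_open hkQ Q.isOpen
      exact ⟨P, fun _ => ⟨hP, hkP, fun t ht => (show P ≤ Q from hPQ).trans (hQ t ht)⟩⟩
    · exact ⟨⊤, fun h => absurd h hk⟩
  choose P hP using h4
  -- Step 5: the quasi-compact open `W₂`
  let W₂ : X.Opens := ⨆ k : {k // k ∈ s}, P k.1
  have hW₂c : IsCompact (W₂ : Set X) := by
    rw [Opens.coe_iSup]
    exact isCompact_iUnion fun k => (hP k.1 k.2).1.isCompact
  have hW₂W : ∀ t ∈ s, W₂ ≤ W t := fun t ht =>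
    iSup_le fun k => ((hP k.1 k.2).2.2 t ht).trans inf_le_left
  have hfW₂ : ∀ k ∈ s, f k ∈ W₂ := fun k hk =>
    Opens.mem_iSup.mpr ⟨⟨k, hk⟩, (hP k hk).2.1⟩
  -- Step 6: restrictions
  let c : ∀ t : {t // t ∈ s}, Γ(X, W₂) := fun t =>
    X.presheaf.map (homOfLE (hW₂W t.1 t.2)).op (b t.1)
  have hc : ∀ t : {t // t ∈ s}, X.basicOpen (c t) = W₂ ⊓ X.basicOpen (b t.1) :=
    fun t => X.basicOpen_res _ _
  have hcV : ∀ t : {t // t ∈ s}, X.basicOpen (c t) ≤ V t.1 := by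
    intro t y hy
    rw [hc t] at hy
    obtain ⟨k, hk⟩ := Opens.mem_iSup.mp hy.1
    have h1 : y ∈ M t.1 k.1 := (((hP k.1 k.2).2.2 t.1 t.2) hk).2
    exact (hM t.1 k.1 k.2).2 ⟨h1, hy.2⟩
  have hfc : ∀ t : {t // t ∈ s}, f t.1 ∈ X.basicOpen (c t) := by
    intro t
    rw [hc t]
    exact ⟨hfW₂ t.1 t.2, (hb t.1 t.1 (hsN t.1 t.1 t.2)).mpr (htg t.1)⟩
  let W' : X.Opens := ⨆ t : {t // t ∈ s}, X.basicOpen (c t)
  have hW'c : IsCompact (W' : Set X) := by
    rw [Opens.coe_iSup]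
    exact isCompact_iUnion fun t => isCompact_basicOpen X hW₂c (c t)
  have hW'W₂ : W' ≤ W₂ := iSup_le fun t => X.basicOpen_le _
  have hcW' : ∀ t : {t // t ∈ s}, X.basicOpen (c t) ≤ W' := fun t => le_iSup (fun t => X.basicOpen (c t)) t
  let d : ∀ t : {t // t ∈ s}, Γ(X, W') := fun t => X.presheaf.map (homOfLE hW'W₂).op (c t)
  have hd : ∀ t : {t // t ∈ s}, X.basicOpen (d t) = X.basicOpen (c t) := by
    intro t
    rw [X.basicOpen_res]
    exact inf_eq_right.mpr (hcW' t)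
  have hF : ∀ x ∈ s.image f, x ∈ W' := by
    intro x hx
    obtain ⟨t, ht, rfl⟩ := Finset.mem_image.mp hx
    exact hcW' ⟨t, ht⟩ (hfc ⟨t, ht⟩)
  suffices H : ∀ x ∈ W', ∃ r : Γ(X, W'), IsAffineOpen (X.basicOpen r) ∧ x ∈ X.basicOpen r by
    obtain ⟨U, hU, hU'⟩ := exists_affineOpen_of_basicOpen_cover W' hW'c H (s.image f) hF
    exact ⟨U, hU, fun t ht => hU' _ (Finset.mem_image_of_mem f ht)⟩
  · intro x hx
    obtain ⟨t, ht⟩ := Opens.mem_iSup.mp hx
    have hxV : x ∈ V t.1 := hcV t ht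
    obtain ⟨β, hβ1, hβ2⟩ := (hV t.1).exists_basicOpen_le (V := X.basicOpen (c t)) ⟨x, ht⟩ hxV
    have hle : X.basicOpen (d t) ≤ V t.1 := (hd t).le.trans (hcV t)
    obtain ⟨n, y, hy⟩ := exists_eq_pow_mul_of_isCompact_of_isQuasiSeparated X W' hW'c
      (.of_quasiSeparatedSpace _) (d t) (X.presheaf.map (homOfLE hle).op β)
    dsimp only [TopCat.Presheaf.restrictOpenCommRingCat_apply] at hy
    refine ⟨y * d t, ?_, ?_⟩
    all_goals
      have e1 : X.basicOpen (y * d t) = X.basicOpen β := by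
        have q1 : X.basicOpen (y * d t) = X.basicOpen (d t) ⊓ X.basicOpen y := by
          rw [X.basicOpen_mul, inf_comm]
        have q2 : X.basicOpen (X.presheaf.map (homOfLE (X.basicOpen_le (d t))).op y) =
            X.basicOpen (d t) ⊓ X.basicOpen y := X.basicOpen_res _ _
        have hu : IsUnit ((X.presheaf.map (homOfLE (X.basicOpen_le (d t))).op (d t)) ^ n) :=
          (RingedSpace.isUnit_res_basicOpen _ (d t)).pow n
        have q3 : X.basicOpen (X.presheaf.map (homOfLE (X.basicOpen_le (d t))).op y) =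
            X.basicOpen (((X.presheaf.map (homOfLE (X.basicOpen_le (d t))).op (d t)) ^ n) *
              X.presheaf.map (homOfLE hle).op β) := congrArg _ hy
        have q4 := X.basicOpen_mul ((X.presheaf.map (homOfLE (X.basicOpen_le (d t))).op (d t)) ^ n)
          (X.presheaf.map (homOfLE hle).op β)
        have q5 := X.basicOpen_of_isUnit hu
        have q6 : X.basicOpen (X.presheaf.map (homOfLE hle).op β) =
            X.basicOpen (d t) ⊓ X.basicOpen β := X.basicOpen_res _ _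
        rw [q1, ← q2, q3, q4, q5, q6, ← inf_assoc, inf_idem, inf_eq_right]
        exact hβ1.trans (hd t).ge
    · rw [e1]; exact (hV t.1).basicOpen β
    · rw [e1]; exact hβ2

end Groth.Agent.Lib.Helper34.AffImg
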