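import Mathlib
import Groth.Agent.Lib.Helper34.AffImgE
import Groth.Agent.Lib.Helper7.AffineAvoid
import Groth.Agent.Lib.Helper51.InsepRed

/-!
# Affine opens containing images (S7660), part F: reduction to the reduced case (helper34)
-/

set_option autoImplicit false
universe u
open CategoryTheory CategoryTheory.Limits AlgebraicGeometry TopologicalSpace Opposite

namespace Groth.Agent.Lib.Helper34.AffImg

theorem exists_specializes_of_isIso_stalkMap {T X : Scheme.{u}} (f : T ⟶ X) (t : T)
    (h : IsIso (f.stalkMap t)) (y : X) (hy : y ⤳ f t) : ∃ t' : T, t' ⤳ t ∧ f t' = y := by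
  have hy' : y ∈ Set.range (X.fromSpecStalk (f t)) := by
    rw [Scheme.range_fromSpecStalk]; exact hy
  obtain ⟨z, rfl⟩ := hy'
  have hsurj : Function.Surjective (Spec.map (f.stalkMap t)) :=
    (ConcreteCategory.bijective_of_isIso (Spec.map (f.stalkMap t)).base).2
  obtain ⟨z', rfl⟩ := hsurj z
  refine ⟨T.fromSpecStalk t z', ?_, ?_⟩
  · have : T.fromSpecStalk t z' ∈ Set.range (T.fromSpecStalk t) := ⟨z', rfl⟩
    rw [Scheme.range_fromSpecStalk] at this
    exact this
  · have := Scheme.SpecMap_stalkMap_fromSpecStalk f (x := t)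
    exact (congr($this z')).symm

theorem stalkMap_surjective_of_comp_eq {A B C D : Scheme.{u}} (p : A ⟶ B) (q : B ⟶ C)
    (p' : A ⟶ D) (q' : D ⟶ C) (e : p ≫ q = p' ≫ q') (a : A)
    (h1 : Function.Surjective (q.stalkMap (p a))) (h2 : Function.Surjective (p.stalkMap a)) :
    Function.Surjective (p'.stalkMap a) := by
  have h3 : Function.Surjective ((p ≫ q).stalkMap a) := by
    rw [Scheme.Hom.stalkMap_comp]
    exact h2.comp h1
  have key : ∀ φ : A ⟶ C, φ = p' ≫ q' → Function.Surjective (φ.stalkMap a) →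
      Function.Surjective (p'.stalkMap a) := by
    rintro _ rfl h
    rw [Scheme.Hom.stalkMap_comp] at h
    exact Function.Surjective.of_comp h
  exact key _ e h3

theorem exists_affineOpen_containing_images {T X : Scheme.{u}} (f : T ⟶ X)
    [IsAffine T] [QuasiSeparatedSpace X] (hX : (irreducibleComponents (X : Type u)).Finite)
    (hinj : ∀ η η' : T, closure ({η} : Set T) ∈ irreducibleComponents (T : Type u) →
      closure ({η'} : Set T) ∈ irreducibleComponents (T : Type u) → f η = f η' → η = η')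
    (s : Finset T) (hs : ∀ t ∈ s, IsIso (f.stalkMap t)) :
    ∃ U : X.Opens, IsAffineOpen U ∧ ∀ t ∈ s, f t ∈ U := by
  classical
  let ιT := T.nilradical.subschemeι
  let ιX := X.nilradical.subschemeι
  haveI : IsReduced T.nilradical.subscheme := Helper51.isReduced_nilradical_subscheme T
  haveI : IsReduced X.nilradical.subscheme := Helper51.isReduced_nilradical_subscheme X
  obtain ⟨fr, hfr⟩ := Helper51.exists_lift_nilradical (ιT ≫ f)
  have hpt : ∀ z, ιX (fr z) = f (ιT z) := fun z => congr($hfr z)
  haveI : IsAffine T.nilradical.subscheme := isAffine_of_isAffineHom ιT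
  haveI : QuasiSeparatedSpace X.nilradical.subscheme := quasiSeparatedSpace_of_quasiSeparated ιX
  have hιTs : Function.Surjective ιT := Helper51.surjective_nilradical_subschemeι T
  have hιXs : Function.Surjective ιX := Helper51.surjective_nilradical_subschemeι X
  have hιTi : Function.Injective ιT := ιT.isEmbedding.injective
  have hιXi : Function.Injective ιX := ιX.isEmbedding.injective
  have hιTind : Topology.IsInducing ιT := ιT.isEmbedding.isInducing
  have hιXind : Topology.IsInducing ιX := ιX.isEmbedding.isInducing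
  -- generic points
  let G₀ : Set X := {ξ | closure ({ξ} : Set X) ∈ irreducibleComponents (X : Type u)}
  have hG₀ : G₀.Finite := by
    apply hX.preimage
    intro ξ _ ξ' _ h
    exact (inseparable_iff_closure_eq.mpr h).eq
  let G : Set X.nilradical.subscheme := ιX ⁻¹' G₀
  have hG : G.Finite := hG₀.preimage hιXi.injOn
  have hGmin : ∀ ξ ∈ G, IsMinPt ξ := fun ξ hξ =>
    (isMinPt_of_mem_irreducibleComponents hξ).of_isInducing_map hιXind hιXi
  have hGdense : ∀ x : X.nilradical.subscheme, ∃ ξ ∈ G, ξ ⤳ x := by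
    intro x
    obtain ⟨η, hη, hmin⟩ := exists_isMinPt_specializes (ιX x)
    obtain ⟨ξ, rfl⟩ := hιXs η
    exact ⟨ξ, mem_irreducibleComponents_of_isMinPt hmin, hιXind.specializes_iff.mp hη⟩
  have hinj' : ∀ η η' : T.nilradical.subscheme, IsMinPt η → IsMinPt η' → fr η = fr η' → η = η' := by
    intro η η' h1 h2 e
    apply hιTi
    apply hinj _ _ (mem_irreducibleComponents_of_isMinPt (h1.of_isInducing hιTind hιTs))
      (mem_irreducibleComponents_of_isMinPt (h2.of_isInducing hιTind hιTs))
    rw [← hpt, ← hpt, e]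
  let sr : Finset T.nilradical.subscheme := s.preimage ιT hιTi.injOn
  have hsr : ∀ t, t ∈ sr ↔ ιT t ∈ s := fun t => Finset.mem_preimage
  have hsurj : ∀ t ∈ sr, Function.Surjective (fr.stalkMap t) := by
    intro t ht
    haveI := hs _ ((hsr t).mp ht)
    exact stalkMap_surjective_of_comp_eq ιT f fr ιX hfr.symm t
      (ConcreteCategory.bijective_of_isIso (f.stalkMap (ιT t))).2 (ιT.stalkMap_surjective t)
  have hgen : ∀ t ∈ sr, ∀ y : X.nilradical.subscheme, y ⤳ fr t → ∃ t', t' ⤳ t ∧ fr t' = y := by
    intro t ht y hy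
    have h1 : ιX y ⤳ f (ιT t) := by
      rw [← hpt]; exact hy.map ιX.continuous
    obtain ⟨t'', ht'', e⟩ := exists_specializes_of_isIso_stalkMap f (ιT t) (hs _ ((hsr t).mp ht)) _ h1
    obtain ⟨t', rfl⟩ := hιTs t''
    refine ⟨t', hιTind.specializes_iff.mp ht'', hιXi ?_⟩
    rw [hpt, e]
  obtain ⟨U, hU, hU'⟩ := exists_affineOpen_of_reduced fr G hG hGmin hGdense hinj' sr hsurj hgen
  obtain ⟨U₂, hU₂, hU₂'⟩ := Helper7.AffineAvoid.exists_affineOpen_of_good
    (↑(s.image f) : Set X) X.nilradical (fun x => by rw [Scheme.support_nilradical]; trivial)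
    ⟨U, hU, by
      intro z hz
      obtain ⟨t, ht, e⟩ := Finset.mem_image.mp (Finset.mem_coe.mp hz)
      obtain ⟨t', rfl⟩ := hιTs t
      have : fr t' = z := hιXi (by rw [hpt]; exact e)
      rw [← this]
      exact hU' t' ((hsr t').mpr ht)⟩
  exact ⟨U₂, hU₂, fun t ht => hU₂' _ (Finset.mem_coe.mpr (Finset.mem_image_of_mem f ht))⟩

end Groth.Agent.Lib.Helper34.AffImg
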