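import Mathlib

/-!
# Artin–Schreier: a Galois extension of degree `p` in characteristic `p` is generated by a root of
`X^p - X + α`
-/

set_option autoImplicit false

namespace Groth.Agent.Lib.Helper34.ArtinSchreier

open Function

variable {F E : Type*} [Field F] [Field E] [Algebra F E]

/-- additive Hilbert 90 for the element `1`, cyclic of prime order `p` in characteristic `p` -/
theorem exists_smul_eq_add_one [IsGalois F E] [FiniteDimensional F E] (p : ℕ) [hp : Fact p.Prime]
    [CharP E p] (hcard : Nat.card Gal(E/F) = p) (σ : Gal(E/F)) (hσ : σ ≠ 1) :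
    ∃ x : E, σ x = x + 1 := by
  classical
  have hσp : σ ^ p = 1 := by rw [← hcard]; exact pow_card_eq_one'
  have hord : orderOf σ = p := orderOf_eq_prime hσp hσ
  have hcard' : Fintype.card Gal(E/F) = p := by rw [← Nat.card_eq_fintype_card, hcard]
  -- the group is {σ^i : i < p}
  have hinj : Set.InjOn (fun i : ℕ => σ ^ i) (Finset.range p : Set ℕ) := by
    intro i hi j hj hij
    have hi' : i ∈ Set.Iio (orderOf σ) := by rw [hord]; exact Finset.mem_range.mp hi
    have hj' : j ∈ Set.Iio (orderOf σ) := by rw [hord]; exact Finset.mem_range.mp hj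
    exact pow_injOn_Iio_orderOf hi' hj' hij
  have huniv : (Finset.range p).image (fun i : ℕ => σ ^ i) = Finset.univ := by
    apply Finset.eq_univ_of_card
    rw [Finset.card_image_of_injOn hinj, Finset.card_range, hcard']
  obtain ⟨θ, hθ⟩ := Algebra.trace_surjective F E 1
  have htr : ∑ i ∈ Finset.range p, (σ ^ i) θ = 1 := by
    have h1 := trace_eq_sum_automorphisms (K := F) θ
    rw [hθ, map_one, ← huniv, Finset.sum_image hinj] at h1
    exact h1.symm
  obtain ⟨g, hg⟩ : ∃ g : ℕ → E, g = fun i => (σ ^ i) θ := ⟨_, rfl⟩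
  have hgsucc : ∀ i, σ (g i) = g (i + 1) := by
    intro i
    rw [hg]
    change σ ((σ ^ i) θ) = (σ ^ (i + 1)) θ
    rw [pow_succ', AlgEquiv.mul_apply]
  have hgp : g p = g 0 := by
    rw [hg]
    change (σ ^ p) θ = (σ ^ 0) θ
    rw [hσp, pow_zero]
  have htr' : ∑ i ∈ Finset.range p, g i = 1 := by rw [hg]; exact htr
  have hp0 : (p : E) = 0 := CharP.cast_eq_zero E p
  obtain ⟨b, hb⟩ : ∃ b : E, b = ∑ i ∈ Finset.range p, (i : E) * g i := ⟨_, rfl⟩
  have hσb : σ b = ∑ i ∈ Finset.range p, (i : E) * g (i + 1) := by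
    rw [hb, map_sum]
    apply Finset.sum_congr rfl
    intro i _
    rw [map_mul, map_natCast, hgsucc]
  have htel : ∑ i ∈ Finset.range p, (((i + 1 : ℕ) : E) * g (i + 1) - (i : E) * g i) = 0 := by
    rw [Finset.sum_range_sub (fun i => (i : E) * g i) p, hp0, zero_mul, Nat.cast_zero, zero_mul,
      sub_zero]
  have hshift : ∑ i ∈ Finset.range p, g (i + 1) = 1 := by
    have h1 : ∑ i ∈ Finset.range p, (g (i + 1) - g i) = g p - g 0 :=
      Finset.sum_range_sub g p
    rw [Finset.sum_sub_distrib, htr', hgp, sub_self] at h1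
    exact sub_eq_zero.mp h1
  have hkey : b - σ b = 1 := by
    have h2 : ∑ i ∈ Finset.range p, (((i + 1 : ℕ) : E) * g (i + 1) - (i : E) * g i) =
        σ b + ∑ i ∈ Finset.range p, g (i + 1) - b := by
      rw [hσb, hb, ← Finset.sum_add_distrib, ← Finset.sum_sub_distrib]
      apply Finset.sum_congr rfl
      intro i _
      push_cast
      ring
    rw [htel, hshift] at h2
    linear_combination h2
  refine ⟨-b, ?_⟩
  rw [map_neg]
  linear_combination hkey

/-- Artin–Schreier generator of a Galois extension of degree `p` in characteristic `p`. -/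
theorem exists_artinSchreier [IsGalois F E] (p : ℕ) [hp : Fact p.Prime] [CharP F p]
    (hdeg : Module.finrank F E = p) :
    ∃ x : E, ∃ α : F, x ^ p - x + algebraMap F E α = 0 ∧ IntermediateField.adjoin F {x} = ⊤ := by
  classical
  have : FiniteDimensional F E :=
    Module.finite_of_finrank_pos (by rw [hdeg]; exact hp.out.pos)
  have : CharP E p := charP_of_injective_algebraMap (algebraMap F E).injective p
  have hcard : Nat.card Gal(E/F) = p := by rw [IsGalois.card_aut_eq_finrank, hdeg]
  -- a nontrivial element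
  have hnt : ∃ σ : Gal(E/F), σ ≠ 1 := by
    by_contra hcon
    push Not at hcon
    have : Subsingleton Gal(E/F) := ⟨fun a b => by rw [hcon a, hcon b]⟩
    have h1 : Nat.card Gal(E/F) = 1 := Nat.card_unique
    rw [hcard] at h1
    exact hp.out.one_lt.ne' h1
  obtain ⟨σ, hσ⟩ := hnt
  have hgen : Subgroup.zpowers σ = ⊤ := zpowers_eq_top_of_prime_card hcard hσ
  obtain ⟨x, hx⟩ := exists_smul_eq_add_one p hcard σ hσ
  -- fixed by σ implies in F
  have hfix : ∀ y : E, σ y = y → y ∈ Set.range (algebraMap F E) := by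
    intro y hy
    have h1 : ∀ τ : Gal(E/F), τ y = y := by
      intro τ
      have hτ : τ ∈ Subgroup.zpowers σ := by rw [hgen]; exact Subgroup.mem_top _
      have hstab : σ ∈ MulAction.stabilizer Gal(E/F) y := by
        rw [MulAction.mem_stabilizer_iff]; exact hy
      have hle : Subgroup.zpowers σ ≤ MulAction.stabilizer Gal(E/F) y :=
        (Subgroup.zpowers_le).mpr hstab
      exact MulAction.mem_stabilizer_iff.mp (hle hτ)
    have h2 := (IsGalois.mem_bot_iff_fixed (F := F) y).mpr h1
    exact IntermediateField.mem_bot.mp h2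
  have hfx : σ (x ^ p - x) = x ^ p - x := by
    rw [map_sub, map_pow, hx, add_pow_char, one_pow]
    ring
  obtain ⟨β, hβ⟩ := hfix _ hfx
  refine ⟨x, -β, ?_, ?_⟩
  · rw [map_neg, hβ]; ring
  · have : IsSimpleOrder (IntermediateField F E) :=
      IntermediateField.isSimpleOrder_of_finrank_prime F E (hdeg ▸ hp.out)
    rcases eq_bot_or_eq_top (IntermediateField.adjoin F {x}) with h | h
    · exfalso
      have hxmem : x ∈ IntermediateField.adjoin F {x} :=
        IntermediateField.mem_adjoin_simple_self F x
      rw [h, IntermediateField.mem_bot] at hxmem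
      obtain ⟨c, rfl⟩ := hxmem
      rw [AlgEquiv.commutes] at hx
      have : (1 : E) = 0 := by linear_combination -hx
      exact one_ne_zero this
    · exact h

end Groth.Agent.Lib.Helper34.ArtinSchreier
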