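import Mathlib

/-!
# Ring-level preliminaries for "finitely many codimension ≤ 1 points lie in an affine open"
-/

set_option autoImplicit false
universe u

namespace Groth.Agent.Lib.Helper34.Codim

/-- The range of `R → K` (for `K` the fraction field of `R`) has fraction field `K`. -/
theorem isFractionRing_range (R K : Type*) [CommRing R] [Field K] [Algebra R K]
    [IsFractionRing R K] : IsFractionRing (algebraMap R K).range K := by
  refine IsFractionRing.of_field (R := (algebraMap R K).range) (K := K) fun z => ?_
  obtain ⟨x, y, -, rfl⟩ := IsFractionRing.div_surjective (A := R) z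
  exact ⟨⟨algebraMap R K x, x, rfl⟩, ⟨algebraMap R K y, y, rfl⟩, rfl⟩

/-- The ring isomorphism from `R` onto its range in its fraction field. -/
noncomputable def rangeEquiv (R K : Type*) [CommRing R] [Field K] [Algebra R K]
    [IsFractionRing R K] : R ≃+* (algebraMap R K).range :=
  RingEquiv.ofBijective (algebraMap R K).rangeRestrict
    ⟨fun a b hab => IsFractionRing.injective R K (congrArg Subtype.val hab),
      (algebraMap R K).rangeRestrict_surjective⟩

theorem coe_rangeEquiv (R K : Type*) [CommRing R] [Field K] [Algebra R K]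
    [IsFractionRing R K] (x : R) : ((rangeEquiv R K x : (algebraMap R K).range) : K) =
      algebraMap R K x := by
  simp [rangeEquiv]

/-- In a local domain of Krull dimension `≤ 1`, every prime is `⊥` or the maximal ideal. -/
theorem eq_bot_or_eq_maximalIdeal {R : Type*} [CommRing R] [IsDomain R] [IsLocalRing R]
    (h : ringKrullDim R ≤ 1) (p : Ideal R) [hp : p.IsPrime] :
    p = ⊥ ∨ p = IsLocalRing.maximalIdeal R := by
  by_cases hb : p = ⊥
  · exact Or.inl hb
  right
  have : Ring.KrullDimLE 1 R := (Ring.krullDimLE_iff).2 (by simpa using h)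
  exact IsLocalRing.eq_maximalIdeal (hp.isMaximal_of_ne_bot hb)

/-- If `A ≤ R` are subrings of a field `K`, `K = Frac A`, and every prime of `R` is zero, then
`R = K`. -/
theorem eq_top_of_forall_prime_eq_bot {K : Type*} [Field K] (A R : Subring K) (hAR : A ≤ R)
    [IsFractionRing A K] (h : ∀ q : Ideal R, q.IsPrime → q = ⊥) : R = ⊤ := by
  have hfield : IsField R := by
    by_contra hnf
    obtain ⟨p, hp0, hp⟩ := Ring.not_isField_iff_exists_prime.1 hnf
    exact hp0 (h p hp)
  rw [eq_top_iff]
  intro z _
  obtain ⟨x, y, hy, rfl⟩ := IsFractionRing.div_surjective (A := A) z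
  have hy0 : (y : K) ≠ 0 := by
    intro e
    have : y = 0 := Subtype.ext e
    exact nonZeroDivisors.ne_zero hy this
  have hyR : (⟨(y : K), hAR y.2⟩ : R) ≠ 0 := fun e => hy0 (congrArg Subtype.val e)
  obtain ⟨w, hw⟩ := hfield.mul_inv_cancel hyR
  have hw' : (y : K) * (w : K) = 1 := congrArg Subtype.val hw
  have : (w : K) = (y : K)⁻¹ := eq_inv_of_mul_eq_one_right hw'
  have hx : (x : K) ∈ R := hAR x.2
  change (x : K) / (y : K) ∈ R
  rw [div_eq_mul_inv, ← this]
  exact R.mul_mem hx w.2

/-- If `A ≤ R` are subrings of a field `K = Frac A` and `q` is an ideal of `R` whose contraction to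
`A` is zero, then `q = ⊥`. -/
theorem eq_bot_of_comap_eq_bot {K : Type*} [Field K] (A R : Subring K) (hAR : A ≤ R)
    [IsFractionRing A K] (q : Ideal R) (h : q.comap (Subring.inclusion hAR) = ⊥) : q = ⊥ := by
  rw [eq_bot_iff]
  intro z hz
  rw [Ideal.mem_bot]
  by_contra hz0
  obtain ⟨x, y, hy, hxy⟩ := IsFractionRing.div_surjective (A := A) (z : K)
  have hy0 : (y : K) ≠ 0 := by
    intro e
    have : y = 0 := Subtype.ext e
    exact nonZeroDivisors.ne_zero hy this
  have hxz : (Subring.inclusion hAR x : R) = z * Subring.inclusion hAR y := by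
    apply Subtype.ext
    change (x : K) = (z : K) * (y : K)
    rw [← hxy]
    change (x : K) = (x : K) / (y : K) * (y : K)
    field_simp
  have hxq : x ∈ q.comap (Subring.inclusion hAR) := by
    rw [Ideal.mem_comap, hxz]
    exact q.mul_mem_right _ hz
  rw [h, Ideal.mem_bot] at hxq
  apply hz0
  apply Subtype.ext
  rw [← hxy, hxq]
  simp

end Groth.Agent.Lib.Helper34.Codim
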