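import Mathlib
import Groth.Agent.Lib.Helper34.CodimA

/-!
# Local rings of an integral scheme as subrings of the function field
-/

set_option autoImplicit false
universe u
open CategoryTheory CategoryTheory.Limits AlgebraicGeometry TopologicalSpace

namespace Groth.Agent.Lib.Helper34.Codim

variable (X : Scheme.{u}) [IsIntegral X]

/-- The local ring at `x` as a subring of the function field. -/
noncomputable def stalkSubring (x : X) : Subring X.functionField :=
  (algebraMap (X.presheaf.stalk x) X.functionField).range

noncomputable def stalkEquiv (x : X) : X.presheaf.stalk x ≃+* stalkSubring X x :=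
  rangeEquiv (X.presheaf.stalk x) X.functionField

instance (x : X) : IsFractionRing (stalkSubring X x) X.functionField :=
  isFractionRing_range (X.presheaf.stalk x) X.functionField

instance (x : X) : IsLocalRing (stalkSubring X x) :=
  (stalkEquiv X x).isLocalRing

theorem stalkSubring_subtype_comp (x : X) :
    (stalkSubring X x).subtype.comp (stalkEquiv X x).toRingHom =
      (X.presheaf.stalkSpecializes ((genericPoint_spec X).specializes trivial)).hom := by
  ext a
  exact coe_rangeEquiv (X.presheaf.stalk x) X.functionField a

/-- The canonical morphism `Spec A_x ⟶ X`. -/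
noncomputable def stalkSubringHom (x : X) : Spec (CommRingCat.of (stalkSubring X x)) ⟶ X :=
  Spec.map (CommRingCat.ofHom (stalkEquiv X x).toRingHom) ≫ X.fromSpecStalk x

/-- The canonical morphism `Spec K ⟶ X`. -/
noncomputable def genericHom : Spec (CommRingCat.of X.functionField) ⟶ X :=
  X.fromSpecStalk (genericPoint X)

theorem SpecMap_subtype_stalkSubringHom (x : X) :
    Spec.map (CommRingCat.ofHom (stalkSubring X x).subtype) ≫ stalkSubringHom X x =
      genericHom X := by
  have h : genericPoint X ⤳ x := (genericPoint_spec X).specializes trivial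
  rw [stalkSubringHom, ← Category.assoc, ← Spec.map_comp, ← CommRingCat.ofHom_comp,
    stalkSubring_subtype_comp, CommRingCat.ofHom_hom]
  exact Scheme.SpecMap_stalkSpecializes_fromSpecStalk h

theorem fromSpecStalk_of_asIdeal_eq_bot (x : X) (p : Spec (X.presheaf.stalk x))
    (hp : p.asIdeal = ⊥) : X.fromSpecStalk x p = genericPoint X := by
  have h : genericPoint X ⤳ x := (genericPoint_spec X).specializes trivial
  have e1 := Scheme.SpecMap_stalkSpecializes_fromSpecStalk h
  have e2 : Spec.map (X.presheaf.stalkSpecializes h) (IsLocalRing.closedPoint X.functionField) =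
      p := by
    apply PrimeSpectrum.ext
    rw [hp]
    change Ideal.comap (X.presheaf.stalkSpecializes h).hom
      (IsLocalRing.maximalIdeal X.functionField) = ⊥
    rw [IsLocalRing.maximalIdeal_eq_bot]
    exact Ideal.comap_bot_of_injective _ (IsFractionRing.injective (X.presheaf.stalk x)
      X.functionField)
  rw [← e2, ← Scheme.Hom.comp_apply, e1]
  exact Scheme.fromSpecStalk_closedPoint

theorem fromSpecStalk_of_asIdeal_eq_max (x : X) (p : Spec (X.presheaf.stalk x))
    (hp : p.asIdeal = IsLocalRing.maximalIdeal (X.presheaf.stalk x)) :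
    X.fromSpecStalk x p = x := by
  have : p = IsLocalRing.closedPoint (X.presheaf.stalk x) := PrimeSpectrum.ext hp
  rw [this]
  exact Scheme.fromSpecStalk_closedPoint

theorem ne_genericPoint_of_dim_eq_one (x : X) (h : ringKrullDim (X.presheaf.stalk x) = 1) :
    x ≠ genericPoint X := by
  rintro rfl
  have h0 : ringKrullDim X.functionField = 0 := ringKrullDim_eq_zero_of_field _
  rw [h0] at h
  exact zero_ne_one h

theorem dim_eq_one_of_ne_genericPoint (x : X) (h : ringKrullDim (X.presheaf.stalk x) ≤ 1)
    (hx : x ≠ genericPoint X) : ringKrullDim (X.presheaf.stalk x) = 1 := by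
  by_contra hne
  apply hx
  have h0 : ringKrullDim (X.presheaf.stalk x) ≤ 0 := by
    generalize ringKrullDim (X.presheaf.stalk x) = d at h hne
    cases d with
    | bot => exact bot_le
    | coe e =>
      norm_cast at *
      by_contra h0
      exact hne (le_antisymm h (Order.one_le_iff_ne_zero.2 (fun e0 => h0 (e0 ▸ le_refl _))))
  have : Ring.KrullDimLE 0 (X.presheaf.stalk x) := (Ring.krullDimLE_iff).2 (by simpa using h0)
  have hmax : (⊥ : Ideal (X.presheaf.stalk x)).IsMaximal := Ideal.IsPrime.isMaximal' Ideal.isPrime_bot
  have hb : IsLocalRing.maximalIdeal (X.presheaf.stalk x) = ⊥ :=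
    (IsLocalRing.eq_maximalIdeal hmax).symm
  have h1 := fromSpecStalk_of_asIdeal_eq_bot X x (IsLocalRing.closedPoint (X.presheaf.stalk x)) hb
  rw [Scheme.fromSpecStalk_closedPoint] at h1
  exact h1

end Groth.Agent.Lib.Helper34.Codim
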