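import Mathlib
import Groth.Agent.Lib.Helper34.CodimB

/-!
# Two distinct codimension one local rings of an integral separated scheme generate the
function field
-/

set_option autoImplicit false
universe u
open CategoryTheory CategoryTheory.Limits AlgebraicGeometry TopologicalSpace

namespace Groth.Agent.Lib.Helper34.Codim

theorem isDominant_SpecMap_of_injective {R R' : Type u} [CommRing R] [CommRing R'] (f : R →+* R')
    (hf : Function.Injective f) : IsDominant (Spec.map (CommRingCat.ofHom f)) := by
  rw [isDominant_iff]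
  change DenseRange (PrimeSpectrum.comap f)
  rw [PrimeSpectrum.denseRange_comap_iff_ker_le_nilRadical,
    (RingHom.injective_iff_ker_eq_bot f).1 hf]
  exact bot_le

variable (X : Scheme.{u}) [IsIntegral X]

theorem stalkSubringHom_apply_cases (x : X) (hx : ringKrullDim (X.presheaf.stalk x) ≤ 1)
    (p' : Spec (CommRingCat.of (stalkSubring X x))) :
    (p'.asIdeal = ⊥ ∧ stalkSubringHom X x p' = genericPoint X) ∨ stalkSubringHom X x p' = x := by
  obtain ⟨p, hp⟩ : ∃ p, p = Spec.map (CommRingCat.ofHom (stalkEquiv X x).toRingHom) p' := ⟨_, rfl⟩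
  have happ : stalkSubringHom X x p' = X.fromSpecStalk x p := by
    rw [hp, stalkSubringHom, Scheme.Hom.comp_apply]
  have hpi : p.asIdeal = Ideal.comap (stalkEquiv X x).toRingHom p'.asIdeal := by
    rw [hp]; rfl
  haveI : p.asIdeal.IsPrime := p.isPrime
  rcases eq_bot_or_eq_maximalIdeal hx p.asIdeal with h | h
  · left
    refine ⟨?_, ?_⟩
    · rw [eq_bot_iff]
      intro a ha
      have h1 : (stalkEquiv X x).symm a ∈ p.asIdeal := by
        rw [hpi, Ideal.mem_comap]
        change (stalkEquiv X x) ((stalkEquiv X x).symm a) ∈ p'.asIdeal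
        rwa [RingEquiv.apply_symm_apply]
      rw [h, Ideal.mem_bot] at h1
      rw [Ideal.mem_bot]
      have := congrArg (stalkEquiv X x) h1
      rwa [RingEquiv.apply_symm_apply, map_zero] at this
    · rw [happ]
      exact fromSpecStalk_of_asIdeal_eq_bot X x p h
  · right
    rw [happ]
    exact fromSpecStalk_of_asIdeal_eq_max X x p h

theorem stalkSubring_sup_eq_top [X.IsSeparated] (x y : X) (hxy : x ≠ y)
    (hx : ringKrullDim (X.presheaf.stalk x) = 1) (hy : ringKrullDim (X.presheaf.stalk y) = 1) :
    stalkSubring X x ⊔ stalkSubring X y = ⊤ := by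
  obtain ⟨R, hR⟩ : ∃ R, R = stalkSubring X x ⊔ stalkSubring X y := ⟨_, rfl⟩
  rw [← hR]
  have hxR : stalkSubring X x ≤ R := hR ▸ le_sup_left
  have hyR : stalkSubring X y ≤ R := hR ▸ le_sup_right
  have hψ : Spec.map (CommRingCat.ofHom (Subring.inclusion hxR)) ≫ stalkSubringHom X x =
      Spec.map (CommRingCat.ofHom (Subring.inclusion hyR)) ≫ stalkSubringHom X y := by
    haveI : IsReduced (Spec (CommRingCat.of R)) := inferInstance
    haveI : IsDominant (Spec.map (CommRingCat.ofHom R.subtype)) :=
      isDominant_SpecMap_of_injective _ Subtype.val_injective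
    apply ext_of_isDominant (Spec.map (CommRingCat.ofHom R.subtype))
    rw [← Category.assoc, ← Category.assoc, ← Spec.map_comp, ← Spec.map_comp,
      ← CommRingCat.ofHom_comp, ← CommRingCat.ofHom_comp]
    have e1 : R.subtype.comp (Subring.inclusion hxR) = (stalkSubring X x).subtype := rfl
    have e2 : R.subtype.comp (Subring.inclusion hyR) = (stalkSubring X y).subtype := rfl
    rw [e1, e2, SpecMap_subtype_stalkSubringHom, SpecMap_subtype_stalkSubringHom]
  apply eq_top_of_forall_prime_eq_bot (stalkSubring X x) R hxR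
  intro q hq
  apply eq_bot_of_comap_eq_bot (stalkSubring X x) R hxR q
  let Q : Spec (CommRingCat.of R) := ⟨q, hq⟩
  have hpt : stalkSubringHom X x (Spec.map (CommRingCat.ofHom (Subring.inclusion hxR)) Q) =
      stalkSubringHom X y (Spec.map (CommRingCat.ofHom (Subring.inclusion hyR)) Q) := by
    rw [← Scheme.Hom.comp_apply, ← Scheme.Hom.comp_apply, hψ]
  rcases stalkSubringHom_apply_cases X x hx.le
      (Spec.map (CommRingCat.ofHom (Subring.inclusion hxR)) Q) with ⟨h1, -⟩ | h1
  · exact h1
  · exfalso
    rcases stalkSubringHom_apply_cases X y hy.le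
      (Spec.map (CommRingCat.ofHom (Subring.inclusion hyR)) Q) with ⟨-, h2⟩ | h2
    · rw [h1, h2] at hpt
      exact ne_genericPoint_of_dim_eq_one X x hx hpt
    · rw [h1, h2] at hpt
      exact hxy hpt

end Groth.Agent.Lib.Helper34.Codim
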