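import Mathlib
import Groth.Agent.Lib.Helper34.CodimC

/-!
# Gluing compatibility and the stalk isomorphism for `Spec A_x ⟶ X`
-/

set_option autoImplicit false
universe u
open CategoryTheory CategoryTheory.Limits AlgebraicGeometry TopologicalSpace

namespace Groth.Agent.Lib.Helper34.Codim

/-- Two morphisms from spectra of subrings `B, C ⊆ K` to a separated scheme that agree on `Spec K`
agree on the overlap of `Spec B` and `Spec C` inside `Spec D` (`D ≤ B, C`, open immersions). -/
theorem pullback_compat {X : Scheme.{u}} [X.IsSeparated] {K : Type u} [Field K]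
    {B C D : Subring K} (hB : D ≤ B) (hC : D ≤ C)
    [IsOpenImmersion (Spec.map (CommRingCat.ofHom (Subring.inclusion hB)))]
    [IsOpenImmersion (Spec.map (CommRingCat.ofHom (Subring.inclusion hC)))]
    (φB : Spec (CommRingCat.of B) ⟶ X) (φC : Spec (CommRingCat.of C) ⟶ X)
    (h : Spec.map (CommRingCat.ofHom B.subtype) ≫ φB = Spec.map (CommRingCat.ofHom C.subtype) ≫ φC) :
    pullback.fst (Spec.map (CommRingCat.ofHom (Subring.inclusion hB)))
        (Spec.map (CommRingCat.ofHom (Subring.inclusion hC))) ≫ φB =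
      pullback.snd (Spec.map (CommRingCat.ofHom (Subring.inclusion hB)))
        (Spec.map (CommRingCat.ofHom (Subring.inclusion hC))) ≫ φC := by
  obtain ⟨jB, hjB⟩ : ∃ j, j = Spec.map (CommRingCat.ofHom (Subring.inclusion hB)) := ⟨_, rfl⟩
  obtain ⟨jC, hjC⟩ : ∃ j, j = Spec.map (CommRingCat.ofHom (Subring.inclusion hC)) := ⟨_, rfl⟩
  rw [← hjB, ← hjC]
  haveI : IsOpenImmersion jB := hjB ▸ inferInstance
  haveI : IsOpenImmersion jC := hjC ▸ inferInstance
  have hcond : Spec.map (CommRingCat.ofHom B.subtype) ≫ jB =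
      Spec.map (CommRingCat.ofHom C.subtype) ≫ jC := by
    rw [hjB, hjC, ← Spec.map_comp, ← Spec.map_comp, ← CommRingCat.ofHom_comp,
      ← CommRingCat.ofHom_comp]
    rfl
  let ι : Spec (CommRingCat.of K) ⟶ pullback jB jC :=
    pullback.lift (Spec.map (CommRingCat.ofHom B.subtype)) (Spec.map (CommRingCat.ofHom C.subtype))
      hcond
  haveI : IsDominant (ι ≫ (pullback.fst jB jC ≫ jB)) := by
    rw [pullback.lift_fst_assoc, hjB, ← Spec.map_comp, ← CommRingCat.ofHom_comp]
    exact isDominant_SpecMap_of_injective _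
      (show Function.Injective (B.subtype.comp (Subring.inclusion hB)) from
        fun a b hab => Subtype.ext hab)
  haveI : IsDominant ι := IsDominant.of_comp_of_isOpenImmersion ι (pullback.fst jB jC ≫ jB)
  haveI : IsReduced (Spec (CommRingCat.of D)) := inferInstance
  haveI : IsReduced (pullback jB jC) := isReduced_of_isOpenImmersion (pullback.fst jB jC ≫ jB)
  apply ext_of_isDominant ι
  rw [pullback.lift_fst_assoc, pullback.lift_snd_assoc]
  exact h

variable (X : Scheme.{u}) [IsIntegral X]

theorem isIso_aux {R : CommRingCat.{u}} [IsLocalRing R]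
    (a b : Σ x, { f : X.presheaf.stalk x ⟶ R // IsLocalHom f.hom }) (hab : a = b)
    (h : IsIso b.2.1) : IsIso a.2.1 := by
  subst hab; exact h

theorem stalkSubringHom_closedPoint (x : X) :
    stalkSubringHom X x (IsLocalRing.closedPoint (stalkSubring X x)) = x := by
  have h : Spec.map (CommRingCat.ofHom (stalkEquiv X x).toRingHom)
      (IsLocalRing.closedPoint (stalkSubring X x)) =
        IsLocalRing.closedPoint (X.presheaf.stalk x) := by
    haveI : IsLocalHom (stalkEquiv X x).toRingHom :=
      ⟨fun a ha => (inferInstance : IsLocalHom (stalkEquiv X x)).map_nonunit a ha⟩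
    exact IsLocalRing.comap_closedPoint (stalkEquiv X x).toRingHom
  rw [stalkSubringHom, Scheme.Hom.comp_apply, h]
  exact Scheme.fromSpecStalk_closedPoint

theorem isIso_stalkMap_stalkSubringHom (x : X) :
    IsIso ((stalkSubringHom X x).stalkMap (IsLocalRing.closedPoint (stalkSubring X x))) := by
  obtain ⟨f, hf⟩ : ∃ f : X.presheaf.stalk x ⟶ CommRingCat.of (stalkSubring X x),
      f = CommRingCat.ofHom (stalkEquiv X x).toRingHom := ⟨_, rfl⟩
  haveI : IsIso f := by
    rw [hf]
    exact (inferInstance : IsIso (stalkEquiv X x).toCommRingCatIso.hom)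
  haveI : IsLocalHom f.hom := isLocalHom_of_isIso f
  have key := (SpecToEquivOfLocalRing X (CommRingCat.of (stalkSubring X x))).apply_symm_apply
    ⟨x, f, inferInstance⟩
  have h1 : IsIso (Scheme.stalkClosedPointTo (Spec.map f ≫ X.fromSpecStalk x)) :=
    isIso_aux X _ _ key (inferInstance : IsIso f)
  have h2 : Spec.map f ≫ X.fromSpecStalk x = stalkSubringHom X x := by
    rw [hf]; rfl
  rw [h2] at h1
  have h3 : Scheme.stalkClosedPointTo (stalkSubringHom X x) =
      (stalkSubringHom X x).stalkMap (IsLocalRing.closedPoint (stalkSubring X x)) ≫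
        (stalkClosedPointIso (CommRingCat.of (stalkSubring X x))).hom := rfl
  rw [h3] at h1
  exact IsIso.of_isIso_comp_right _ (stalkClosedPointIso (CommRingCat.of (stalkSubring X x))).hom

/-- If `j ≫ f = φ` with `j` an open immersion and `φ` a stalk isomorphism at `c`, then `f` is a
stalk isomorphism at `j c`. -/
theorem isIso_stalkMap_of_comp_eq {T' T Y : Scheme.{u}} (j : T' ⟶ T) [IsOpenImmersion j]
    (f : T ⟶ Y) (φ : T' ⟶ Y) (h : j ≫ f = φ) (c : T') (hφ : IsIso (φ.stalkMap c)) :
    IsIso (f.stalkMap (j c)) := by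
  subst h
  rw [Scheme.Hom.stalkMap_comp] at hφ
  exact @IsIso.of_isIso_comp_right _ _ _ _ _ (f.stalkMap (j c)) (j.stalkMap c) inferInstance hφ

end Groth.Agent.Lib.Helper34.Codim
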