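import Mathlib
import Groth.Agent.Lib.Helper34.CodimD
import Groth.Agent.Lib.Helper34.AffImgF
import Groth.Agent.S7665

/-!
# Finitely many codimension one points of an integral separated scheme lie in an affine open
-/

set_option autoImplicit false
universe u
open CategoryTheory CategoryTheory.Limits AlgebraicGeometry TopologicalSpace

namespace Groth.Agent.Lib.Helper34.Codim

variable (X : Scheme.{u}) [IsIntegral X] [X.IsSeparated]

theorem finite_maximalSpectrum_of_isLocalRing (R : Type*) [CommRing R] [IsLocalRing R] :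
    Finite (MaximalSpectrum R) := by
  haveI : Subsingleton (MaximalSpectrum R) :=
    ⟨fun a b => MaximalSpectrum.ext
      ((IsLocalRing.eq_maximalIdeal a.isMaximal).trans (IsLocalRing.eq_maximalIdeal b.isMaximal).symm)⟩
  exact Finite.of_subsingleton

theorem exists_affineOpen_of_fin {r : ℕ} (hr : 1 ≤ r) (x : Fin r → X)
    (hinj : Function.Injective x)
    (hN : ∀ i, IsNoetherianRing (X.presheaf.stalk (x i)))
    (hd : ∀ i, ringKrullDim (X.presheaf.stalk (x i)) = 1) :
    ∃ U : X.Opens, IsAffineOpen U ∧ ∀ i, x i ∈ U := by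
  classical
  obtain ⟨A, hA⟩ : ∃ A : Fin r → Subring X.functionField, A = fun i => stalkSubring X (x i) :=
    ⟨_, rfl⟩
  haveI : ∀ i, IsLocalRing (A i) := fun i => by rw [hA]; infer_instance
  haveI : ∀ i, IsNoetherianRing (A i) := fun i => by
    rw [hA]
    haveI := hN i
    exact isNoetherianRing_of_ringEquiv _ (stalkEquiv X (x i))
  haveI : ∀ i, IsFractionRing (A i) X.functionField := fun i => by rw [hA]; infer_instance
  have hdim : ∀ i, ringKrullDim (A i) = 1 := fun i => by
    rw [hA, ← hd i]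
    exact (ringKrullDim_eq_of_ringEquiv (stalkEquiv X (x i))).symm
  have hsl : ∀ i, Finite (MaximalSpectrum (A i)) := fun i =>
    finite_maximalSpectrum_of_isLocalRing _
  have hgen : ∀ i j, i ≠ j → A i ⊔ A j = ⊤ := fun i j hij => by
    rw [hA]
    exact stalkSubring_sup_eq_top X _ _ (fun e => hij (hinj e)) (hd i) (hd j)
  obtain ⟨-, -, -, -, hoi, hcov, -⟩ :=
    Groth.Agent.S7665.result X.functionField r hr A hdim hsl hgen
  obtain ⟨φ, hφ⟩ : ∃ φ : ∀ i, Spec (CommRingCat.of (A i)) ⟶ X,
      (∀ i, Spec.map (CommRingCat.ofHom (A i).subtype) ≫ φ i = genericHom X) ∧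
      (∀ i, φ i (IsLocalRing.closedPoint (A i)) = x i) ∧
      (∀ i, IsIso ((φ i).stalkMap (IsLocalRing.closedPoint (A i)))) := by
    subst hA
    exact ⟨fun i => stalkSubringHom X (x i),
      fun i => SpecMap_subtype_stalkSubringHom X (x i),
      fun i => stalkSubringHom_closedPoint X (x i),
      fun i => isIso_stalkMap_stalkSubringHom X (x i)⟩
  obtain ⟨hφ1, hφ2, hφ3⟩ := hφ
  haveI : ∀ i, IsOpenImmersion (Spec.map (CommRingCat.ofHom (Subring.inclusion (iInf_le A i)))) :=
    hoi
  have hcompat0 : ∀ i k,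
      pullback.fst (Spec.map (CommRingCat.ofHom (Subring.inclusion (iInf_le A i))))
          (Spec.map (CommRingCat.ofHom (Subring.inclusion (iInf_le A k)))) ≫ φ i =
        pullback.snd (Spec.map (CommRingCat.ofHom (Subring.inclusion (iInf_le A i))))
          (Spec.map (CommRingCat.ofHom (Subring.inclusion (iInf_le A k)))) ≫ φ k :=
    fun i k => pullback_compat (iInf_le A i) (iInf_le A k) (φ i) (φ k)
      ((hφ1 i).trans (hφ1 k).symm)
  obtain ⟨j, hj⟩ : ∃ j : ∀ i, Spec (CommRingCat.of (A i)) ⟶ Spec (CommRingCat.of ↥(⨅ i, A i)),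
      j = fun i => Spec.map (CommRingCat.ofHom (Subring.inclusion (iInf_le A i))) := ⟨_, rfl⟩
  have hoi' : ∀ i, IsOpenImmersion (j i) := by rw [hj]; exact hoi
  have hcov' : ∀ t, ∃ i y, j i y = t := by
    intro t
    have ht : t ∈ ⋃ i, Set.range
        (Spec.map (CommRingCat.ofHom (Subring.inclusion (iInf_le A i)))).base := by
      rw [hcov]; exact Set.mem_univ t
    obtain ⟨i, y, hy⟩ := Set.mem_iUnion.1 ht
    rw [hj]
    exact ⟨i, y, hy⟩
  have hcompat : ∀ i k, pullback.fst (j i) (j k) ≫ φ i = pullback.snd (j i) (j k) ≫ φ k := by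
    rw [hj]; exact hcompat0
  let 𝒰 : (Spec (CommRingCat.of ↥(⨅ i, A i))).OpenCover :=
    Scheme.Cover.mkOfCovers (Fin r) (fun i => Spec (CommRingCat.of (A i))) j hcov' hoi'
  obtain ⟨f, hf⟩ : ∃ f : Spec (CommRingCat.of ↥(⨅ i, A i)) ⟶ X, ∀ i, j i ≫ f = φ i :=
    ⟨𝒰.glueMorphisms φ hcompat, fun i => 𝒰.ι_glueMorphisms φ hcompat i⟩
  -- apply the affine-image lemma
  have hXfin : (irreducibleComponents (X : Type u)).Finite := by
    rw [irreducibleComponents_eq_singleton]; exact Set.finite_singleton _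
  have hTinj : ∀ η η' : Spec (CommRingCat.of ↥(⨅ i, A i)),
      closure ({η} : Set (Spec (CommRingCat.of ↥(⨅ i, A i)))) ∈
        irreducibleComponents (Spec (CommRingCat.of ↥(⨅ i, A i)) : Type u) →
      closure ({η'} : Set (Spec (CommRingCat.of ↥(⨅ i, A i)))) ∈
        irreducibleComponents (Spec (CommRingCat.of ↥(⨅ i, A i)) : Type u) →
      f η = f η' → η = η' := by
    intro η η' h1 h2 _
    haveI : IrreducibleSpace (Spec (CommRingCat.of ↥(⨅ i, A i))) :=
      (inferInstance : IrreducibleSpace (PrimeSpectrum ↥(⨅ i, A i)))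
    rw [irreducibleComponents_eq_singleton, Set.mem_singleton_iff] at h1 h2
    have g1 : IsGenericPoint η Set.univ := h1
    have g2 : IsGenericPoint η' Set.univ := h2
    exact g1.eq g2
  obtain ⟨U, hU, hUs⟩ := AffImg.exists_affineOpen_containing_images f hXfin hTinj
    ((Finset.univ : Finset (Fin r)).image (fun i : Fin r => (j i) (IsLocalRing.closedPoint (A i))))
    (by
      intro t ht
      obtain ⟨i, -, rfl⟩ := Finset.mem_image.1 ht
      haveI := hoi' i
      exact isIso_stalkMap_of_comp_eq (j i) f (φ i) (hf i) _ (hφ3 i))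
  refine ⟨U, hU, fun i => ?_⟩
  have h1 : f ((j i) (IsLocalRing.closedPoint (A i))) ∈ U :=
    hUs _ (Finset.mem_image.2 ⟨i, Finset.mem_univ i, rfl⟩)
  have h2 : (j i ≫ f) (IsLocalRing.closedPoint (A i)) ∈ U := h1
  have e : (j i ≫ f) (IsLocalRing.closedPoint (A i)) = x i := by
    rw [hf i]; exact hφ2 i
  rw [e] at h2
  exact h2

end Groth.Agent.Lib.Helper34.Codim
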