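import Mathlib
import Groth.Agent.Lib.Helper34.CodimE

/-!
# The integral case, for a finite set of points with Noetherian local rings of dimension `≤ 1`
-/

set_option autoImplicit false
universe u
open CategoryTheory CategoryTheory.Limits AlgebraicGeometry TopologicalSpace

namespace Groth.Agent.Lib.Helper34.Codim

theorem exists_affineOpen_of_isIntegral (X : Scheme.{u}) [IsIntegral X] [X.IsSeparated]
    (s : Finset X)
    (hs : ∀ x ∈ s, IsNoetherianRing (X.presheaf.stalk x) ∧ ringKrullDim (X.presheaf.stalk x) ≤ 1) :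
    ∃ U : X.Opens, IsAffineOpen U ∧ ∀ x ∈ s, x ∈ U := by
  classical
  obtain ⟨s₁, hs₁⟩ : ∃ s₁ : Finset X, s₁ = s.filter (fun x => x ≠ genericPoint X) := ⟨_, rfl⟩
  have hmem : ∀ x, x ∈ s₁ ↔ x ∈ s ∧ x ≠ genericPoint X := by
    intro x; rw [hs₁, Finset.mem_filter]
  -- the generic point lies in every nonempty open
  have hgenmem : ∀ U : X.Opens, (∃ y, y ∈ U) → genericPoint X ∈ U := by
    rintro U ⟨y, hy⟩
    exact ((genericPoint_spec X).mem_open_set_iff U.isOpen).2 ⟨y, trivial, hy⟩
  by_cases hr : s₁.card = 0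
  · -- all points of `s` are generic
    obtain ⟨_, ⟨U, hU, rfl⟩, hxU, -⟩ := X.isBasis_affineOpens.exists_subset_of_mem_open
      (Set.mem_univ (genericPoint X)) isOpen_univ
    refine ⟨U, hU, fun x hx => ?_⟩
    by_cases hxg : x = genericPoint X
    · rw [hxg]; exact hxU
    · have : x ∈ s₁ := (hmem x).2 ⟨hx, hxg⟩
      rw [Finset.card_eq_zero] at hr
      rw [hr] at this
      exact absurd this (Finset.notMem_empty x)
  · have hr1 : 1 ≤ s₁.card := Nat.one_le_iff_ne_zero.2 hr
    let x : Fin s₁.card → X := fun i => (s₁.equivFin.symm i : X)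
    have hxmem : ∀ i, x i ∈ s₁ := fun i => (s₁.equivFin.symm i).2
    have hxinj : Function.Injective x := fun a b hab =>
      s₁.equivFin.symm.injective (Subtype.ext hab)
    obtain ⟨U, hU, hUx⟩ := exists_affineOpen_of_fin X hr1 x hxinj
      (fun i => (hs _ ((hmem _).1 (hxmem i)).1).1)
      (fun i => dim_eq_one_of_ne_genericPoint X _ (hs _ ((hmem _).1 (hxmem i)).1).2
        ((hmem _).1 (hxmem i)).2)
    refine ⟨U, hU, fun y hy => ?_⟩
    by_cases hyg : y = genericPoint X
    · rw [hyg]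
      exact hgenmem U ⟨x ⟨0, hr1⟩, hUx _⟩
    · have hy1 : y ∈ s₁ := (hmem y).2 ⟨hy, hyg⟩
      have : x (s₁.equivFin ⟨y, hy1⟩) = y := by
        change ((s₁.equivFin.symm (s₁.equivFin ⟨y, hy1⟩) : s₁) : X) = y
        rw [Equiv.symm_apply_apply]
      rw [← this]
      exact hUx _

end Groth.Agent.Lib.Helper34.Codim
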