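import Mathlib
import Groth.Agent.Lib.Helper34.CodimF
import Groth.Agent.Lib.Helper21.IntegralSub
import Groth.Agent.S7662

/-!
# Finitely many points of codimension `≤ 1` on a separated scheme lie in a common affine open
-/

set_option autoImplicit false
universe u
open CategoryTheory CategoryTheory.Limits AlgebraicGeometry TopologicalSpace

namespace Groth.Agent.Lib.Helper34.Codim

theorem stalk_cond_of_isPreimmersion {W Y : Scheme.{u}} (i : W ⟶ Y) [IsPreimmersion i] (w : W)
    (h : IsNoetherianRing (Y.presheaf.stalk (i w)) ∧ ringKrullDim (Y.presheaf.stalk (i w)) ≤ 1) :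
    IsNoetherianRing (W.presheaf.stalk w) ∧ ringKrullDim (W.presheaf.stalk w) ≤ 1 := by
  have hsurj : Function.Surjective (i.stalkMap w).hom := i.stalkMap_surjective w
  haveI := h.1
  exact ⟨isNoetherianRing_of_surjective _ _ (i.stalkMap w).hom hsurj,
    (ringKrullDim_le_of_surjective (i.stalkMap w).hom hsurj).trans h.2⟩

theorem isSeparated_of_isPreimmersion {W Y : Scheme.{u}} (i : W ⟶ Y) [Mono i] [Y.IsSeparated] :
    W.IsSeparated := by
  constructor
  rw [← terminal.comp_from i]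
  infer_instance

theorem exists_affineOpen_of_finite_components (Y : Scheme.{u}) [Y.IsSeparated]
    (hY : (irreducibleComponents (Y : Type u)).Finite) (s : Finset Y)
    (hs : ∀ x ∈ s, IsNoetherianRing (Y.presheaf.stalk x) ∧ ringKrullDim (Y.presheaf.stalk x) ≤ 1) :
    ∃ U : Y.Opens, IsAffineOpen U ∧ ∀ x ∈ s, x ∈ U := by
  classical
  apply Groth.Agent.S7662.result Y hY s
  intro Z hZ
  have hZc : IsClosed Z := isClosed_of_mem_irreducibleComponents Z hZ
  obtain ⟨I, hI⟩ : ∃ I : Y.IdealSheafData,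
      I = Scheme.IdealSheafData.vanishingIdeal (⟨Z, hZc⟩ : Closeds Y) := ⟨_, rfl⟩
  change ∃ V : (Scheme.IdealSheafData.vanishingIdeal (⟨Z, hZc⟩ : Closeds Y)).subscheme.Opens,
    IsAffineOpen V ∧ ∀ t ∈ s, t ∈ Z →
      t ∈ (Scheme.IdealSheafData.vanishingIdeal (⟨Z, hZc⟩ : Closeds Y)).subschemeι.base '' (V : Set _)
  rw [← hI]
  haveI : IsIntegral I.subscheme := by
    rw [hI]
    exact Groth.Agent.Lib.Helper21.IntegralSub.isIntegral_vanishingIdeal_subscheme Z hZc hZ.1
  haveI : I.subscheme.IsSeparated := isSeparated_of_isPreimmersion I.subschemeι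
  have hrange : Set.range I.subschemeι = Z := by
    rw [hI]
    exact Groth.Agent.Lib.Helper21.ProperOver.range_subschemeι_vanishingIdeal Z hZc
  have hinj : Function.Injective I.subschemeι := I.subschemeι.isEmbedding.injective
  obtain ⟨V, hV, hVs⟩ := exists_affineOpen_of_isIntegral I.subscheme
    (s.preimage I.subschemeι hinj.injOn)
    (fun w hw => stalk_cond_of_isPreimmersion I.subschemeι w (hs _ (Finset.mem_preimage.1 hw)))
  refine ⟨V, hV, fun t ht htZ => ?_⟩
  rw [← hrange] at htZ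
  obtain ⟨w, rfl⟩ := htZ
  exact ⟨w, hVs w (Finset.mem_preimage.2 ht), rfl⟩

theorem exists_affineOpen_containing (X : Scheme.{u}) [X.IsSeparated]
    (hirr : ∀ U : X.Opens, IsCompact (U : Set X) → (irreducibleComponents (U : Set X)).Finite)
    (s : Finset X)
    (hs : ∀ x ∈ s, IsNoetherianRing (X.presheaf.stalk x) ∧ ringKrullDim (X.presheaf.stalk x) ≤ 1) :
    ∃ U : X.Opens, IsAffineOpen U ∧ ∀ x ∈ s, x ∈ U := by
  classical
  -- a quasi-compact open containing `s`
  have haff : ∀ x : X, ∃ W : X.Opens, IsAffineOpen W ∧ x ∈ W := by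
    intro x
    obtain ⟨_, ⟨W, hW, rfl⟩, hxW, -⟩ := X.isBasis_affineOpens.exists_subset_of_mem_open
      (Set.mem_univ x) isOpen_univ
    exact ⟨W, hW, hxW⟩
  choose W hW hxW using haff
  obtain ⟨U₀, hU₀⟩ : ∃ U₀ : X.Opens, U₀ = ⨆ x ∈ s, W x := ⟨_, rfl⟩
  have hc : IsCompact (U₀ : Set X) := by
    rw [hU₀]
    simp only [Opens.coe_iSup]
    exact s.isCompact_biUnion (fun x _ => (hW x).isCompact)
  have hsU : ∀ x ∈ s, x ∈ U₀ := by
    intro x hx
    rw [hU₀]
    simp only [Opens.mem_iSup]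
    exact ⟨x, hx, hxW x⟩
  haveI : (U₀ : Scheme.{u}).IsSeparated := isSeparated_of_isPreimmersion U₀.ι
  have hfin : (irreducibleComponents ((U₀ : Scheme.{u}) : Type u)).Finite := hirr U₀ hc
  have hinj : Function.Injective U₀.ι := U₀.ι.isEmbedding.injective
  obtain ⟨V, hV, hVs⟩ := exists_affineOpen_of_finite_components U₀ hfin
    (s.preimage U₀.ι hinj.injOn)
    (fun w hw => stalk_cond_of_isPreimmersion U₀.ι w (hs _ (Finset.mem_preimage.1 hw)))
  refine ⟨U₀.ι ''ᵁ V, hV.image_of_isOpenImmersion U₀.ι, fun x hx => ?_⟩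
  have hxV : (⟨x, hsU x hx⟩ : U₀) ∈ V := hVs _ (Finset.mem_preimage.2 hx)
  exact ⟨⟨x, hsU x hx⟩, hxV, rfl⟩

end Groth.Agent.Lib.Helper34.Codim
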