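import Mathlib.RingTheory.PowerSeries.Derivative
import Mathlib.RingTheory.PowerSeries.Inverse
import Mathlib.RingTheory.PowerSeries.Basic
import Mathlib.Analysis.Complex.Basic

/-!
# Formal logarithmic derivatives of power series (helper34)

`LD F S` means `X · F' = F · S`, i.e. `S = X F'/F`.
-/

set_option autoImplicit false

namespace Groth.Agent.Lib.Helper34.FunFldZetaLogAlg

open PowerSeries

section ring

variable {R : Type*} [CommRing R]

/-- `S` is the logarithmic derivative `X F' / F` of `F`. -/
def LD (F S : R⟦X⟧) : Prop := X * derivative R F = F * S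

lemma LD.mul {F G S T : R⟦X⟧} (h1 : LD F S) (h2 : LD G T) : LD (F * G) (S + T) := by
  unfold LD at *
  rw [Derivation.leibniz, smul_eq_mul, smul_eq_mul]
  calc X * (F * derivative R G + G * derivative R F)
      = F * (X * derivative R G) + G * (X * derivative R F) := by ring
    _ = F * (G * T) + G * (F * S) := by rw [h1, h2]
    _ = F * G * (S + T) := by ring

lemma LD_one : LD (1 : R⟦X⟧) 0 := by
  unfold LD
  rw [derivative_one, mul_zero, mul_zero]

lemma LD_prod {ι : Type*} (s : Finset ι) (F S : ι → R⟦X⟧) (h : ∀ i ∈ s, LD (F i) (S i)) :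
    LD (∏ i ∈ s, F i) (∑ i ∈ s, S i) := by
  classical
  induction s using Finset.induction_on with
  | empty => simpa using LD_one
  | insert i s hi ih =>
    rw [Finset.prod_insert hi, Finset.sum_insert hi]
    exact (h i (Finset.mem_insert_self i s)).mul
      (ih (fun j hj => h j (Finset.mem_insert_of_mem hj)))

/-- The series `∑_{r ≥ 1} β^r X^r`. -/
noncomputable def geom (β : R) : R⟦X⟧ := PowerSeries.mk fun r => if r = 0 then 0 else β ^ r

lemma coeff_geom (β : R) (r : ℕ) : coeff r (geom β) = if r = 0 then 0 else β ^ r := by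
  rw [geom, coeff_mk]

lemma one_sub_mul_geom (β : R) : (1 - C β * X) * geom β = C β * X := by
  ext n
  rw [sub_mul, one_mul, map_sub, coeff_geom, mul_assoc]
  rcases n with _ | n
  · simp
  · rw [coeff_C_mul, coeff_succ_X_mul, coeff_geom, coeff_C_mul, if_neg (Nat.succ_ne_zero n)]
    rcases n with _ | n
    · simp
    · rw [if_neg (Nat.succ_ne_zero n), coeff_X, if_neg (by omega)]
      ring

lemma LD_one_sub (β : R) : LD (1 - C β * X) (-geom β) := by
  unfold LD
  rw [mul_neg, one_sub_mul_geom, map_sub, derivative_one, Derivation.leibniz, derivative_C,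
    derivative_X, smul_eq_mul, smul_eq_mul]
  ring

/-- Cancellation: from `LD (F D) S` and `LD D T` with `D` regular, `LD F (S - T)`. -/
lemma LD.cancel [IsDomain R] {F D S T : R⟦X⟧} (hD0 : D ≠ 0) (h1 : LD (F * D) S) (h2 : LD D T) :
    LD F (S - T) := by
  unfold LD at *
  rw [Derivation.leibniz, smul_eq_mul, smul_eq_mul] at h1
  have h3 : D * (X * derivative R F) = D * (F * (S - T)) := by
    calc D * (X * derivative R F)
        = X * (F * derivative R D + D * derivative R F) - F * (X * derivative R D) := by ring
      _ = F * D * S - F * (D * T) := by rw [h1, h2]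
      _ = D * (F * (S - T)) := by ring
  exact mul_left_cancel₀ hD0 h3

end ring

section map

variable {R S : Type*} [CommRing R] [CommRing S]

lemma derivative_map (f : R →+* S) (F : R⟦X⟧) :
    derivative S (PowerSeries.map f F) = PowerSeries.map f (derivative R F) := by
  ext n
  rw [coeff_derivative, coeff_map, coeff_map, coeff_derivative, map_mul, map_add, map_natCast,
    map_one]

lemma LD.map (f : R →+* S) {F T : R⟦X⟧} (h : LD F T) :
    LD (PowerSeries.map f F) (PowerSeries.map f T) := by
  unfold LD at *
  rw [derivative_map, ← PowerSeries.map_X f, ← _root_.map_mul, h, _root_.map_mul]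

end map

section field

variable {R : Type*} [Field R] [CharZero R]

/-- Uniqueness: two series with the same logarithmic derivative and constant term `1` agree. -/
theorem LD.unique {F G S : R⟦X⟧} (hF : LD F S) (hG : LD G S) (hF0 : constantCoeff F = 1)
    (hG0 : constantCoeff G = 1) : F = G := by
  unfold LD at *
  have hFne : constantCoeff F ≠ 0 := by rw [hF0]; exact one_ne_zero
  have hFF : F * F⁻¹ = 1 := PowerSeries.mul_inv_cancel F hFne
  -- `H = G F⁻¹` has zero derivative
  have hH : X * derivative R (G * F⁻¹) = 0 := by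
    rw [Derivation.leibniz, smul_eq_mul, smul_eq_mul, derivative_inv']
    calc X * (G * (-F⁻¹ ^ 2 * derivative R F) + F⁻¹ * derivative R G)
        = -(G * F⁻¹ ^ 2 * (X * derivative R F)) + F⁻¹ * (X * derivative R G) := by ring
      _ = -(G * F⁻¹ ^ 2 * (F * S)) + F⁻¹ * (G * S) := by rw [hF, hG]
      _ = (1 - F * F⁻¹) * (F⁻¹ * G * S) := by ring
      _ = 0 := by rw [hFF, sub_self, zero_mul]
  have hH' : derivative R (G * F⁻¹) = 0 := by
    rcases mul_eq_zero.1 hH with h | h
    · exact absurd h X_ne_zero
    · exact h
  have hconst : G * F⁻¹ = 1 := by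
    apply derivative.ext
    · rw [hH', derivative_one]
    · rw [map_mul, hG0, one_mul, map_one]
      have := congrArg constantCoeff hFF
      rw [map_mul, hF0, one_mul, map_one] at this
      exact this
  calc F = F * (G * F⁻¹) := by rw [hconst, mul_one]
    _ = G * (F * F⁻¹) := by ring
    _ = G := by rw [hFF, mul_one]

end field

end Groth.Agent.Lib.Helper34.FunFldZetaLogAlg
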