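import Groth.Agent.Lib.Helper34.FunFldZetaSchmidt
import Groth.Agent.S11037
import Mathlib.RingTheory.PowerSeries.Trunc

/-!
# The numerator of the zeta function is a polynomial (helper34)
-/

set_option autoImplicit false

namespace Groth.Agent.Lib.Helper34.FunFldZetaPoly

open FunFld Groth.Agent.Lib.Helper88.FF Groth.Agent.Lib.Helper91.FunFldFin
  Groth.Agent.Lib.Helper34.FunFldZetaSchmidt

variable (k K : Type*) [Field k] [Field K] [Algebra k K]

theorem coeff_zetaZ (n : ℕ) : PowerSeries.coeff n (zetaZ k K) = (effDivCount k K n : ℤ) := by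
  unfold zetaZ
  rw [PowerSeries.coeff_mk]

theorem numerZ_eq : numerZ k K = zetaZ k K -
    PowerSeries.C (1 + (Nat.card k : ℤ)) * (PowerSeries.X * zetaZ k K) +
    PowerSeries.C (Nat.card k : ℤ) * (PowerSeries.X ^ 2 * zetaZ k K) := by
  unfold numerZ
  rw [map_add, map_one]
  ring

theorem coeff_numerZ_add_two (m : ℕ) : PowerSeries.coeff (m + 2) (numerZ k K) =
    (effDivCount k K (m + 2) : ℤ) - (1 + (Nat.card k : ℤ)) * (effDivCount k K (m + 1) : ℤ) +
      (Nat.card k : ℤ) * (effDivCount k K m : ℤ) := by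
  rw [numerZ_eq, map_add, map_sub, PowerSeries.coeff_C_mul, PowerSeries.coeff_C_mul,
    PowerSeries.coeff_X_pow_mul, show m + 2 = (m + 1) + 1 from rfl, PowerSeries.coeff_succ_X_mul,
    coeff_zetaZ, coeff_zetaZ, coeff_zetaZ]

theorem coeff_numerZ_one : PowerSeries.coeff 1 (numerZ k K) =
    (effDivCount k K 1 : ℤ) - (1 + (Nat.card k : ℤ)) * (effDivCount k K 0 : ℤ) := by
  rw [numerZ_eq, map_add, map_sub, PowerSeries.coeff_C_mul, PowerSeries.coeff_C_mul,
    show (1 : ℕ) = 0 + 1 from rfl, PowerSeries.coeff_succ_X_mul,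
    coeff_zetaZ, coeff_zetaZ]
  have : PowerSeries.coeff (0 + 1) (PowerSeries.X ^ 2 * zetaZ k K) = 0 := by
    rw [PowerSeries.coeff_mul]
    apply Finset.sum_eq_zero
    intro x hx
    rw [PowerSeries.coeff_X_pow, if_neg, zero_mul]
    have := Finset.mem_antidiagonal.1 hx
    omega
  rw [this, mul_zero, add_zero]

theorem coeff_numerZ_zero : PowerSeries.coeff 0 (numerZ k K) = (effDivCount k K 0 : ℤ) := by
  rw [numerZ_eq, map_add, map_sub, PowerSeries.coeff_C_mul, PowerSeries.coeff_C_mul,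
    PowerSeries.coeff_zero_X_mul, coeff_zetaZ]
  have : PowerSeries.coeff 0 (PowerSeries.X ^ 2 * zetaZ k K) = 0 := by
    rw [PowerSeries.coeff_mul]
    apply Finset.sum_eq_zero
    intro x hx
    rw [PowerSeries.coeff_X_pow, if_neg, zero_mul]
    have := Finset.mem_antidiagonal.1 hx
    omega
  rw [this, mul_zero, mul_zero, sub_zero, add_zero]

variable {k K}

/-- The formula of S11037 with the divisor of degree `n` supplied by F. K. Schmidt. -/
theorem effDivCount_formula [Finite k] (hK : IsFunctionField k K) (n : ℕ)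
    (hn : 2 * genus k K ≤ n + 1) :
    ((Nat.card k : ℤ) - 1) * (effDivCount k K n : ℤ) =
      (classNum k K : ℤ) * ((Nat.card k : ℤ) ^ (n + 1 - genus k K) - 1) :=
  ((Groth.Agent.S11037.result k K hK).2 n hn).1 (deg_surjective hK n)

theorem card_sub_one_ne_zero [Finite k] : ((Nat.card k : ℤ) - 1) ≠ 0 := by
  have hq : 1 < Nat.card k := Finite.one_lt_card
  have : (1 : ℤ) < (Nat.card k : ℤ) := by exact_mod_cast hq
  omega

theorem coeff_numerZ_eq_zero [Finite k] (hK : IsFunctionField k K) (n : ℕ)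
    (hn : 2 * genus k K < n) : PowerSeries.coeff n (numerZ k K) = 0 := by
  by_cases hn1 : n = 1
  · subst hn1
    have hg : genus k K = 0 := by omega
    rw [coeff_numerZ_one]
    apply mul_left_cancel₀ (card_sub_one_ne_zero (k := k))
    rw [mul_zero, mul_sub, mul_left_comm _ (1 + (Nat.card k : ℤ)),
      effDivCount_formula hK 1 (by omega), effDivCount_formula hK 0 (by omega), hg]
    ring
  obtain ⟨m, rfl⟩ : ∃ m, n = m + 2 := ⟨n - 2, by omega⟩
  rw [coeff_numerZ_add_two]
  apply mul_left_cancel₀ (card_sub_one_ne_zero (k := k))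
  rw [mul_zero, mul_add, mul_sub, mul_left_comm _ (1 + (Nat.card k : ℤ)),
    mul_left_comm _ (Nat.card k : ℤ), effDivCount_formula hK (m + 2) (by omega),
    effDivCount_formula hK (m + 1) (by omega), effDivCount_formula hK m (by omega)]
  have e1 : m + 2 + 1 - genus k K = (m + 1 - genus k K) + 2 := by omega
  have e2 : m + 1 + 1 - genus k K = (m + 1 - genus k K) + 1 := by omega
  rw [e1, e2]
  ring

theorem exists_poly_of_coeff_eq_zero (φ : PowerSeries ℤ) (N : ℕ)
    (h : ∀ n, N ≤ n → PowerSeries.coeff n φ = 0) : ∃ p : Polynomial ℤ, (p : PowerSeries ℤ) = φ := by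
  refine ⟨PowerSeries.trunc N φ, ?_⟩
  ext n
  rw [Polynomial.coeff_coe, PowerSeries.coeff_trunc]
  split_ifs with hn
  · rfl
  · exact (h n (not_lt.1 hn)).symm

theorem exists_poly_numerZ [Finite k] (hK : IsFunctionField k K) :
    ∃ p : Polynomial ℤ, (p : PowerSeries ℤ) = numerZ k K :=
  exists_poly_of_coeff_eq_zero _ (2 * genus k K + 1) (fun n hn => coeff_numerZ_eq_zero hK n hn)

end Groth.Agent.Lib.Helper34.FunFldZetaPoly
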