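import Groth.Agent.Lib.Helper91.FunFldFin
import Groth.Agent.Lib.Helper34.FunFldZetaLogAlg
import Groth.Agent.Lib.Helper34.FunFldZetaPoly

/-!
# The logarithmic derivative of the zeta series: `n a(n) = ∑_{r=1}^n N_r a(n-r)` (helper34)
-/

set_option autoImplicit false

namespace Groth.Agent.Lib.Helper34.FunFldZetaLog

open FunFld WithZero Groth.Agent.Lib.Helper88.FF Groth.Agent.Lib.Helper91.FunFldFin

variable {k K : Type*} [Field k] [Field K] [Algebra k K]

section defs

variable [Finite k] (hK : IsFunctionField k K)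

/-- Places of degree at most `m`. -/
noncomputable def Pl (m : ℕ) : Finset (Place k K) := (finite_places_deg_le hK m).toFinset

lemma mem_Pl {m : ℕ} {P : Place k K} : P ∈ Pl hK m ↔ P.deg ≤ m := by
  rw [Pl, Set.Finite.mem_toFinset]
  rfl

/-- Effective divisors of degree `m`. -/
noncomputable def E (m : ℕ) : Finset (Divisor k K) := (finite_effective hK m).toFinset

lemma mem_E {m : ℕ} {D : Divisor k K} : D ∈ E hK m ↔ 0 ≤ D ∧ D.deg = (m : ℤ) := by
  rw [E, Set.Finite.mem_toFinset]
  rfl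

lemma card_E (m : ℕ) : (E hK m).card = effDivCount k K m := by
  rw [effDivCount, E]
  have : Nat.card {D : Divisor k K // 0 ≤ D ∧ D.deg = (m : ℤ)} =
      Nat.card ↥{D : Divisor k K | 0 ≤ D ∧ D.deg = (m : ℤ)} := rfl
  rw [this, Nat.card_coe_set_eq, Set.ncard_eq_toFinset_card _ (finite_effective hK m)]

/-- `N_r = ∑_{deg P ∣ r} deg P`. -/
noncomputable def Nr (r : ℕ) : ℕ := ∑ P ∈ (Pl hK r).filter (fun P => P.deg ∣ r), P.deg

lemma Nr_zero : Nr hK 0 = 0 := by
  rw [Nr]
  apply Finset.sum_eq_zero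
  intro P hP
  have := (mem_Pl hK).1 (Finset.mem_filter.1 hP).1
  omega

lemma Nr_eq {r m : ℕ} (hr : 1 ≤ r) (hrm : r ≤ m) :
    Nr hK r = ∑ P ∈ (Pl hK m).filter (fun P => P.deg ∣ r), P.deg := by
  rw [Nr]
  apply Finset.sum_congr _ (fun _ _ => rfl)
  ext P
  rw [Finset.mem_filter, Finset.mem_filter, mem_Pl, mem_Pl]
  constructor
  · rintro ⟨h1, h2⟩
    exact ⟨h1.trans hrm, h2⟩
  · rintro ⟨_, h2⟩
    exact ⟨Nat.le_of_dvd hr h2, h2⟩

end defs

section counting

variable [Finite k] (hK : IsFunctionField k K)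

lemma coeff_mul_deg_le {D : Divisor k K} (hD : 0 ≤ D) (P : Place k K) :
    D P * (P.deg : ℤ) ≤ D.deg := by
  classical
  have h1 : (Finsupp.single P (D P) : Divisor k K) ≤ D := by
    intro Q
    rw [Finsupp.single_apply]
    split_ifs with h
    · subst h
      exact le_rfl
    · exact hD Q
  have := deg_mono h1
  rwa [deg_single] at this

include hK in
lemma coeff_le {m : ℕ} {D : Divisor k K} (hD : D ∈ E hK m) (P : Place k K) : D P ≤ (m : ℤ) := by
  obtain ⟨h0, hdeg⟩ := (mem_E hK).1 hD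
  have h1 := coeff_mul_deg_le h0 P
  rw [hdeg] at h1
  have hpos : (1 : ℤ) ≤ P.deg := by exact_mod_cast deg_pos hK P
  have h2 : 0 ≤ D P := h0 P
  nlinarith

lemma deg_eq_sum {m : ℕ} {D : Divisor k K} (hD : D ∈ E hK m) :
    D.deg = ∑ P ∈ Pl hK m, D P * (P.deg : ℤ) := by
  obtain ⟨h0, hdeg⟩ := (mem_E hK).1 hD
  unfold Divisor.deg
  apply Finsupp.sum_of_support_subset _ _ _ (fun P _ => by simp)
  intro P hP
  rw [mem_Pl]
  have hne : D P ≠ 0 := Finsupp.mem_support_iff.1 hP
  have h2 : 0 ≤ D P := h0 P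
  have h3 : 1 ≤ D P := by omega
  have h1 := coeff_mul_deg_le h0 P
  rw [hdeg] at h1
  have : (P.deg : ℤ) ≤ m := by nlinarith
  exact_mod_cast this

/-- Shifting by `j P`: effective divisors of degree `m` with coefficient at least `j` at `P`. -/
lemma card_filter_le (m : ℕ) (P : Place k K) (j : ℕ) :
    ((E hK m).filter (fun D => (j : ℤ) ≤ D P)).card =
      if j * P.deg ≤ m then (E hK (m - j * P.deg)).card else 0 := by
  classical
  split_ifs with hjm
  · apply Finset.card_bij (fun D _ => D - Finsupp.single P (j : ℤ))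
    · intro D hD
      rw [Finset.mem_filter, mem_E] at hD
      obtain ⟨⟨h0, hdeg⟩, hj⟩ := hD
      rw [mem_E]
      refine ⟨?_, ?_⟩
      · intro Q
        rw [Finsupp.sub_apply, Finsupp.single_apply]
        simp only [Finsupp.coe_zero, Pi.zero_apply]
        split_ifs with hQ
        · subst hQ
          omega
        · have := h0 Q
          simp only [Finsupp.coe_zero, Pi.zero_apply] at this
          omega
      · rw [deg_sub, deg_single, hdeg]
        push_cast [hjm]
        ring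
    · intro D₁ _ D₂ _ h
      exact sub_left_injective h
    · intro D' hD'
      rw [mem_E] at hD'
      obtain ⟨h0, hdeg⟩ := hD'
      refine ⟨D' + Finsupp.single P (j : ℤ), ?_, add_sub_cancel_right _ _⟩
      rw [Finset.mem_filter, mem_E]
      refine ⟨⟨?_, ?_⟩, ?_⟩
      · intro Q
        have h1 := h0 Q
        rw [Finsupp.add_apply, Finsupp.single_apply]
        simp only [Finsupp.coe_zero, Pi.zero_apply] at h1 ⊢
        split_ifs <;> omega
      · rw [deg_add, deg_single, hdeg]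
        push_cast [hjm]
        ring
      · have h1 := h0 P
        rw [Finsupp.add_apply, Finsupp.single_apply, if_pos rfl]
        simp only [Finsupp.coe_zero, Pi.zero_apply] at h1
        omega
  · rw [Finset.card_eq_zero, Finset.filter_eq_empty_iff]
    intro D hD hj
    obtain ⟨h0, hdeg⟩ := (mem_E hK).1 hD
    have h1 := coeff_mul_deg_le h0 P
    rw [hdeg] at h1
    apply hjm
    have h2 : (j : ℤ) * (P.deg : ℤ) ≤ D P * (P.deg : ℤ) :=
      mul_le_mul_of_nonneg_right hj (Int.natCast_nonneg _)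
    have : ((j * P.deg : ℕ) : ℤ) ≤ m := by
      push_cast
      linarith
    exact_mod_cast this

lemma coeff_eq_card {t : ℤ} {m : ℕ} (h0 : 0 ≤ t) (hm : t ≤ m) :
    t = (((Finset.Icc 1 m).filter (fun j : ℕ => (j : ℤ) ≤ t)).card : ℤ) := by
  have h1 : (Finset.Icc 1 m).filter (fun j : ℕ => (j : ℤ) ≤ t) = Finset.Icc 1 t.toNat := by
    ext j
    rw [Finset.mem_filter, Finset.mem_Icc, Finset.mem_Icc]
    omega
  rw [h1, Nat.card_Icc]
  omega

/-- `∑_D D(P) = ∑_{j ≥ 1} a(m - j deg P)`. -/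
lemma sum_coeff (m : ℕ) (P : Place k K) :
    ∑ D ∈ E hK m, D P =
      ∑ j ∈ Finset.Icc 1 m, if j * P.deg ≤ m then ((E hK (m - j * P.deg)).card : ℤ) else 0 := by
  classical
  have h1 : ∀ D ∈ E hK m, D P =
      ∑ j ∈ Finset.Icc 1 m, if (j : ℤ) ≤ D P then (1 : ℤ) else 0 := by
    intro D hD
    have h0 : 0 ≤ D P := ((mem_E hK).1 hD).1 P
    rw [← Finset.sum_filter, Finset.sum_const, nsmul_eq_mul, mul_one]
    exact coeff_eq_card h0 (coeff_le hK hD P)
  rw [Finset.sum_congr rfl h1, Finset.sum_comm]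
  apply Finset.sum_congr rfl
  intro j _
  rw [← Finset.sum_filter, Finset.sum_const, nsmul_eq_mul, mul_one, card_filter_le hK m P j]
  split_ifs <;> simp

lemma sum_reindex (m d : ℕ) (hd : 1 ≤ d) (f : ℕ → ℤ) :
    ∑ j ∈ Finset.Icc 1 m, (if j * d ≤ m then f (j * d) else 0) =
      ∑ r ∈ Finset.Icc 1 m, (if d ∣ r then f r else 0) := by
  rw [← Finset.sum_filter, ← Finset.sum_filter]
  apply Finset.sum_nbij' (fun j => j * d) (fun r => r / d)
  · intro j hj
    rw [Finset.mem_filter, Finset.mem_Icc] at hj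
    rw [Finset.mem_filter, Finset.mem_Icc]
    exact ⟨⟨Nat.one_le_iff_ne_zero.2 (Nat.mul_ne_zero (by omega) (by omega)), hj.2⟩,
      Dvd.intro_left j rfl⟩
  · intro r hr
    rw [Finset.mem_filter, Finset.mem_Icc] at hr
    rw [Finset.mem_filter, Finset.mem_Icc]
    obtain ⟨⟨h1, h2⟩, h3⟩ := hr
    have h4 : r / d * d = r := Nat.div_mul_cancel h3
    refine ⟨⟨?_, (Nat.div_le_self r d).trans h2⟩, by rw [h4]; exact h2⟩
    rcases Nat.eq_zero_or_pos (r / d) with h0 | h0
    · rw [h0, zero_mul] at h4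
      omega
    · exact h0
  · intro j _
    exact Nat.mul_div_cancel j (by omega)
  · intro r hr
    rw [Finset.mem_filter] at hr
    exact Nat.div_mul_cancel hr.2
  · intro j _
    rfl

/-- **The recursion** `m a(m) = ∑_{r=1}^m N_r a(m-r)`. -/
theorem recursion (m : ℕ) : (m : ℤ) * (effDivCount k K m : ℤ) =
    ∑ r ∈ Finset.Icc 1 m, (Nr hK r : ℤ) * (effDivCount k K (m - r) : ℤ) := by
  classical
  have h1 : (m : ℤ) * (effDivCount k K m : ℤ) = ∑ D ∈ E hK m, D.deg := by
    rw [Finset.sum_congr rfl (fun D hD => ((mem_E hK).1 hD).2), Finset.sum_const, nsmul_eq_mul,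
      card_E, mul_comm]
  rw [h1, Finset.sum_congr rfl (fun D hD => deg_eq_sum hK hD), Finset.sum_comm]
  have h2 : ∀ P ∈ Pl hK m, ∑ D ∈ E hK m, D P * (P.deg : ℤ) =
      ∑ r ∈ Finset.Icc 1 m,
        if P.deg ∣ r then (P.deg : ℤ) * (effDivCount k K (m - r) : ℤ) else 0 := by
    intro P _
    rw [← Finset.sum_mul, sum_coeff hK m P]
    have h3 := sum_reindex m P.deg (deg_pos hK P) (fun r => ((E hK (m - r)).card : ℤ))
    beta_reduce at h3
    rw [h3, Finset.sum_mul]
    apply Finset.sum_congr rfl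
    intro r _
    split_ifs
    · rw [card_E, mul_comm]
    · rw [zero_mul]
  rw [Finset.sum_congr rfl h2, Finset.sum_comm]
  apply Finset.sum_congr rfl
  intro r hr
  rw [Finset.mem_Icc] at hr
  rw [Nr_eq hK hr.1 hr.2, ← Finset.sum_filter]
  push_cast
  rw [Finset.sum_mul]

lemma sum_Icc_one (m : ℕ) (g : ℕ → ℤ) :
    ∑ r ∈ Finset.Icc 1 m, g r = ∑ r ∈ Finset.range m, g (r + 1) := by
  apply Finset.sum_nbij' (fun r => r - 1) (fun r => r + 1)
  · intro r hr
    rw [Finset.mem_Icc] at hr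
    rw [Finset.mem_range]
    omega
  · intro r hr
    rw [Finset.mem_range] at hr
    rw [Finset.mem_Icc]
    omega
  · intro r hr
    rw [Finset.mem_Icc] at hr
    omega
  · intro r _
    omega
  · intro r hr
    rw [Finset.mem_Icc] at hr
    have : r - 1 + 1 = r := by omega
    rw [this]

open Groth.Agent.Lib.Helper34.FunFldZetaLogAlg in
/-- The zeta series has logarithmic derivative `∑ N_r X^r`. -/
theorem LD_zetaZ : LD (zetaZ k K) (PowerSeries.mk fun r => (Nr hK r : ℤ)) := by
  unfold LD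
  ext n
  rcases n with _ | n
  · rw [PowerSeries.coeff_zero_X_mul, PowerSeries.coeff_mul, Finset.Nat.antidiagonal_zero,
      Finset.sum_singleton, PowerSeries.coeff_mk, Nr_zero, Nat.cast_zero, mul_zero]
  · rw [PowerSeries.coeff_succ_X_mul, PowerSeries.coeff_derivative, mul_comm (zetaZ k K),
      PowerSeries.coeff_mul, Finset.Nat.sum_antidiagonal_eq_sum_range_succ_mk,
      Finset.sum_range_succ']
    simp only [PowerSeries.coeff_mk, Nr_zero, Nat.cast_zero, zero_mul, add_zero]
    have h := recursion hK (n + 1)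
    rw [sum_Icc_one] at h
    rw [Groth.Agent.Lib.Helper34.FunFldZetaPoly.coeff_zetaZ]
    push_cast at h ⊢
    rw [mul_comm, h]
    apply Finset.sum_congr rfl
    intro r _
    rw [Groth.Agent.Lib.Helper34.FunFldZetaPoly.coeff_zetaZ]

end counting

end Groth.Agent.Lib.Helper34.FunFldZetaLog
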