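import Groth.Agent.Lib.Helper34.FunFldZetaOne
import Mathlib.Algebra.BigOperators.Field

/-!
# The functional equation of the zeta numerator (helper34)
-/

set_option autoImplicit false

namespace Groth.Agent.Lib.Helper34.FunFldZetaFE

open FunFld Groth.Agent.Lib.Helper88.FF Groth.Agent.Lib.Helper91.FunFldFin
  Groth.Agent.Lib.Helper34.FunFldZetaSchmidt Groth.Agent.Lib.Helper34.FunFldZetaPoly
  Groth.Agent.Lib.Helper44.FFExt

variable {k K : Type*} [Field k] [Field K] [Algebra k K]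

theorem ell_eq_of_sub_mem_prinDivs (hK : IsFunctionField k K) {D D' : Divisor k K}
    (h : D - D' ∈ prinDivs k K) : ell D = ell D' := by
  obtain ⟨x, hx0, hx⟩ := (mem_prinDivs_iff hK _).1 h
  have : D = D' + FunFld.div k x := by rw [hx]; abel
  rw [this, ell_add_div hK hx0]

/-- A representative divisor of a class of degree zero. -/
noncomputable def rep (c : Pic0 k K) : Divisor k K :=
  ((QuotientAddGroup.mk_surjective c).choose : (FunFld.degHom k K).ker).1

theorem rep_mem (c : Pic0 k K) : rep c ∈ (FunFld.degHom k K).ker :=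
  ((QuotientAddGroup.mk_surjective c).choose : (FunFld.degHom k K).ker).2

theorem rep_deg (c : Pic0 k K) : (rep c).deg = 0 := mem_ker_degHom.1 (rep_mem c)

theorem mk_rep (c : Pic0 k K) :
    (QuotientAddGroup.mk ⟨rep c, rep_mem c⟩ : Pic0 k K) = c :=
  (QuotientAddGroup.mk_surjective c).choose_spec

section

variable [Fintype (Pic0 k K)]

/-- `b(n) = ∑_c q ^ ℓ(c + n D₁)`. -/
noncomputable def bsum (D₁ : Divisor k K) (n : ℤ) : ℕ :=
  ∑ c : Pic0 k K, Nat.card k ^ ell (rep c + n • D₁)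

theorem deg_rep_add (D₁ : Divisor k K) (hD₁ : D₁.deg = 1) (c : Pic0 k K) (n : ℤ) :
    (rep c + n • D₁).deg = n := by
  rw [deg_add, rep_deg, deg_zsmul, hD₁, mul_one, zero_add]

theorem bsum_neg (hK : IsFunctionField k K) (D₁ : Divisor k K) (hD₁ : D₁.deg = 1) (n : ℤ)
    (hn : n < 0) : bsum D₁ n = Fintype.card (Pic0 k K) := by
  unfold bsum
  have : ∀ c : Pic0 k K, Nat.card k ^ ell (rep c + n • D₁) = 1 := by
    intro c
    rw [ell_eq_zero_of_deg_neg hK (by rw [deg_rep_add D₁ hD₁]; exact hn), pow_zero]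
  simp_rw [this]
  rw [Finset.sum_const, Finset.card_univ, smul_eq_mul, mul_one]

theorem card_Eff_add [Finite k] (hK : IsFunctionField k K) (D₁ : Divisor k K) (hD₁ : D₁.deg = 1)
    (n : ℕ) : (Nat.card k - 1) * Nat.card (Eff k K n) + Fintype.card (Pic0 k K) =
      bsum D₁ (n : ℤ) := by
  classical
  have h₁ : ((n : ℤ) • D₁).deg = (n : ℤ) := by rw [deg_zsmul, hD₁, mul_one]
  have := finite_Eff hK n
  have hq : 1 < Nat.card k := Finite.one_lt_card
  have hfib : ∀ c : Pic0 k K, (Nat.card k - 1) *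
      Nat.card {E : Eff k K n // toPic ((n : ℤ) • D₁) h₁ E = c} + 1 =
      Nat.card k ^ ell (rep c + (n : ℤ) • D₁) := by
    intro c
    have e1 : {E : Eff k K n // toPic ((n : ℤ) • D₁) h₁ E = c} ≃
        {E : Eff k K n // toPic ((n : ℤ) • D₁) h₁ E =
          QuotientAddGroup.mk ⟨rep c, rep_mem c⟩} :=
      Equiv.subtypeEquivRight (fun E => by rw [mk_rep c])
    rw [Nat.card_congr e1, Nat.card_congr (fibreEquiv hK _ h₁ (rep c) (rep_mem c)),
      card_linSys hK]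
    have : 1 ≤ Nat.card k ^ ell (rep c + (n : ℤ) • D₁) := Nat.one_le_pow _ _ (by omega)
    omega
  unfold bsum
  rw [← Nat.card_congr (Equiv.sigmaFiberEquiv (toPic ((n : ℤ) • D₁) h₁)), Nat.card_sigma,
    Finset.mul_sum]
  simp_rw [← hfib]
  rw [Finset.sum_add_distrib, Finset.sum_const, Finset.card_univ, smul_eq_mul, mul_one]


theorem bsum_symm [Finite k] (hK : IsFunctionField k K) (D₁ : Divisor k K) (hD₁ : D₁.deg = 1)
    (n : ℤ) : (bsum D₁ n : ℚ) =
      (Nat.card k : ℚ) ^ (n + 1 - (genus k K : ℤ)) * (bsum D₁ (2 * (genus k K : ℤ) - 2 - n) : ℚ) := by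
  classical
  obtain ⟨W, hW⟩ := exists_isCanonical hK
  have hWdeg := ((isCanonical_iff hK W).1 hW).2
  have hq : 1 < Nat.card k := Finite.one_lt_card
  have hq0 : (Nat.card k : ℚ) ≠ 0 := by
    have : Nat.card k ≠ 0 := by omega
    exact_mod_cast this
  have hW' : W - (2 * (genus k K : ℤ) - 2) • D₁ ∈ (FunFld.degHom k K).ker := by
    rw [mem_ker_degHom, deg_sub, deg_zsmul, hD₁, hWdeg]
    ring
  let w₀ : Pic0 k K := QuotientAddGroup.mk ⟨_, hW'⟩
  let σ : Pic0 k K ≃ Pic0 k K := Equiv.subLeft w₀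
  have hterm : ∀ c : Pic0 k K, ((Nat.card k ^ ell (rep c + n • D₁) : ℕ) : ℚ) =
      (Nat.card k : ℚ) ^ (n + 1 - (genus k K : ℤ)) *
        ((Nat.card k ^ ell (rep (σ c) + (2 * (genus k K : ℤ) - 2 - n) • D₁) : ℕ) : ℚ) := by
    intro c
    have hrr := riemann_roch hK hW (rep c + n • D₁)
    rw [deg_rep_add D₁ hD₁] at hrr
    have hlin : ell (W - (rep c + n • D₁)) =
        ell (rep (σ c) + (2 * (genus k K : ℤ) - 2 - n) • D₁) := by
      apply ell_eq_of_sub_mem_prinDivs hK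
      have hX : W - (rep c + n • D₁) - (rep (σ c) + (2 * (genus k K : ℤ) - 2 - n) • D₁) =
          (W - (2 * (genus k K : ℤ) - 2) • D₁) - rep c - rep (σ c) := by
        rw [sub_smul (2 * (genus k K : ℤ) - 2) n D₁]
        abel
      rw [hX]
      have hmem : (W - (2 * (genus k K : ℤ) - 2) • D₁) - rep c - rep (σ c) ∈
          (FunFld.degHom k K).ker :=
        AddSubgroup.sub_mem _ (AddSubgroup.sub_mem _ hW' (rep_mem c)) (rep_mem (σ c))
      have hmk : (QuotientAddGroup.mk ⟨_, hmem⟩ : Pic0 k K) = 0 := by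
        have e : (⟨_, hmem⟩ : (FunFld.degHom k K).ker) =
            ⟨_, hW'⟩ - ⟨rep c, rep_mem c⟩ - ⟨rep (σ c), rep_mem (σ c)⟩ := rfl
        rw [e, QuotientAddGroup.mk_sub, QuotientAddGroup.mk_sub, mk_rep, mk_rep]
        show w₀ - c - (w₀ - c) = 0
        rw [sub_self]
      have := (QuotientAddGroup.eq_zero_iff _).1 hmk
      rwa [AddSubgroup.mem_addSubgroupOf] at this
    rw [← hlin]
    push_cast
    rw [← zpow_natCast, ← zpow_natCast, ← zpow_add₀ hq0, hrr]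
  unfold bsum
  push_cast
  rw [Finset.mul_sum]
  rw [← Equiv.sum_comp σ (fun c => (Nat.card k : ℚ) ^ (n + 1 - (genus k K : ℤ)) *
    (Nat.card k : ℚ) ^ ell (rep c + (2 * (genus k K : ℤ) - 2 - n) • D₁))]
  apply Finset.sum_congr rfl
  intro c _
  have := hterm c
  push_cast at this
  exact this


variable (k K) in
/-- The number of effective divisors of degree `n : ℤ` (zero for negative `n`). -/
noncomputable def aZ (n : ℤ) : ℤ := if 0 ≤ n then (effDivCount k K n.toNat : ℤ) else 0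

theorem aZ_formula [Finite k] (hK : IsFunctionField k K) (D₁ : Divisor k K) (hD₁ : D₁.deg = 1)
    (n : ℤ) : ((Nat.card k : ℤ) - 1) * aZ k K n =
      (bsum D₁ n : ℤ) - (Fintype.card (Pic0 k K) : ℤ) := by
  have hq : 1 < Nat.card k := Finite.one_lt_card
  unfold aZ
  split_ifs with hn
  · have h := card_Eff_add hK D₁ hD₁ n.toNat
    rw [Int.toNat_of_nonneg hn] at h
    have h' : (((Nat.card k - 1) * Nat.card (Eff k K n.toNat) + Fintype.card (Pic0 k K) : ℕ) : ℤ) =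
        (bsum D₁ n : ℤ) := by exact_mod_cast h
    rw [← h']
    push_cast [Nat.cast_sub hq.le]
    show _ * (Nat.card (Eff k K n.toNat) : ℤ) = _
    ring
  · rw [bsum_neg hK D₁ hD₁ n (not_le.1 hn)]
    ring

theorem coeff_numerZ_eq_aZ (j : ℕ) : PowerSeries.coeff j (numerZ k K) =
    aZ k K j - (1 + (Nat.card k : ℤ)) * aZ k K ((j : ℤ) - 1) +
      (Nat.card k : ℤ) * aZ k K ((j : ℤ) - 2) := by
  rcases j with _ | _ | m
  · rw [coeff_numerZ_zero]
    unfold aZ
    simp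
  · rw [coeff_numerZ_one]
    unfold aZ
    simp
  · rw [coeff_numerZ_add_two]
    unfold aZ
    have e1 : ((m + 1 + 1 : ℕ) : ℤ) - 1 = ((m + 1 : ℕ) : ℤ) := by push_cast; ring
    have e2 : ((m + 1 + 1 : ℕ) : ℤ) - 2 = ((m : ℕ) : ℤ) := by push_cast; ring
    rw [e1, e2]
    simp only [Int.natCast_nonneg, if_true, Int.toNat_natCast]

theorem coeff_numerZ_mul [Finite k] (hK : IsFunctionField k K) (D₁ : Divisor k K)
    (hD₁ : D₁.deg = 1) (j : ℕ) :
    ((Nat.card k : ℤ) - 1) * PowerSeries.coeff j (numerZ k K) =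
      (bsum D₁ j : ℤ) - (1 + (Nat.card k : ℤ)) * (bsum D₁ ((j : ℤ) - 1) : ℤ) +
        (Nat.card k : ℤ) * (bsum D₁ ((j : ℤ) - 2) : ℤ) := by
  rw [coeff_numerZ_eq_aZ]
  have h0 := aZ_formula hK D₁ hD₁ j
  have h1 := aZ_formula hK D₁ hD₁ ((j : ℤ) - 1)
  have h2 := aZ_formula hK D₁ hD₁ ((j : ℤ) - 2)
  linear_combination h0 - (1 + (Nat.card k : ℤ)) * h1 + (Nat.card k : ℤ) * h2

theorem functional_eq [Finite k] (hK : IsFunctionField k K) (i : ℕ) (hi : i ≤ 2 * genus k K) :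
    ((PowerSeries.coeff (2 * genus k K - i) (numerZ k K) : ℤ) : ℚ) =
      (Nat.card k : ℚ) ^ ((genus k K : ℤ) - i) *
        ((PowerSeries.coeff i (numerZ k K) : ℤ) : ℚ) := by
  obtain ⟨D₁, hD₁⟩ := deg_surjective hK 1
  have hq : 1 < Nat.card k := Finite.one_lt_card
  have hq0 : (Nat.card k : ℚ) ≠ 0 := by
    have : Nat.card k ≠ 0 := by omega
    exact_mod_cast this
  have hq1 : ((Nat.card k : ℚ) - 1) ≠ 0 := by
    have : (1 : ℚ) < (Nat.card k : ℚ) := by exact_mod_cast hq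
    linarith
  have hA := coeff_numerZ_mul hK D₁ hD₁ (2 * genus k K - i)
  have hB := coeff_numerZ_mul hK D₁ hD₁ i
  have hcast : ((2 * genus k K - i : ℕ) : ℤ) = 2 * (genus k K : ℤ) - i := by
    rw [Nat.cast_sub hi]; push_cast; ring
  rw [hcast] at hA
  have s0 := bsum_symm hK D₁ hD₁ (2 * (genus k K : ℤ) - i)
  have s1 := bsum_symm hK D₁ hD₁ (2 * (genus k K : ℤ) - i - 1)
  have s2 := bsum_symm hK D₁ hD₁ (2 * (genus k K : ℤ) - i - 2)
  have e0 : 2 * (genus k K : ℤ) - 2 - (2 * (genus k K : ℤ) - i) = (i : ℤ) - 2 := by ring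
  have e1 : 2 * (genus k K : ℤ) - 2 - (2 * (genus k K : ℤ) - i - 1) = (i : ℤ) - 1 := by ring
  have e2 : 2 * (genus k K : ℤ) - 2 - (2 * (genus k K : ℤ) - i - 2) = (i : ℤ) := by ring
  have f0 : 2 * (genus k K : ℤ) - i + 1 - (genus k K : ℤ) = ((genus k K : ℤ) - i) + 1 := by ring
  have f1 : 2 * (genus k K : ℤ) - i - 1 + 1 - (genus k K : ℤ) = ((genus k K : ℤ) - i) := by ring
  have f2 : 2 * (genus k K : ℤ) - i - 2 + 1 - (genus k K : ℤ) = ((genus k K : ℤ) - i) - 1 := by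
    ring
  rw [e0, f0, zpow_add_one₀ hq0] at s0
  rw [e1, f1] at s1
  rw [e2, f2, zpow_sub_one₀ hq0] at s2
  have hA' : ((Nat.card k : ℚ) - 1) *
      ((PowerSeries.coeff (2 * genus k K - i) (numerZ k K) : ℤ) : ℚ) =
      (bsum D₁ (2 * (genus k K : ℤ) - i) : ℚ) -
        (1 + (Nat.card k : ℚ)) * (bsum D₁ (2 * (genus k K : ℤ) - i - 1) : ℚ) +
        (Nat.card k : ℚ) * (bsum D₁ (2 * (genus k K : ℤ) - i - 2) : ℚ) := by
    exact_mod_cast hA
  have hB' : ((Nat.card k : ℚ) - 1) * ((PowerSeries.coeff i (numerZ k K) : ℤ) : ℚ) =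
      (bsum D₁ i : ℚ) - (1 + (Nat.card k : ℚ)) * (bsum D₁ ((i : ℤ) - 1) : ℚ) +
        (Nat.card k : ℚ) * (bsum D₁ ((i : ℤ) - 2) : ℚ) := by
    exact_mod_cast hB
  apply mul_left_cancel₀ hq1
  have s2' : (Nat.card k : ℚ) * (bsum D₁ (2 * (genus k K : ℤ) - i - 2) : ℚ) =
      (Nat.card k : ℚ) ^ ((genus k K : ℤ) - i) * (bsum D₁ i : ℚ) := by
    rw [s2]
    field_simp
  linear_combination hA' + s0 - (1 + (Nat.card k : ℚ)) * s1 + s2' -
    (Nat.card k : ℚ) ^ ((genus k K : ℤ) - i) * hB'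


end

theorem effDivCount_zero (hK : IsFunctionField k K) : effDivCount k K 0 = 1 := by
  unfold effDivCount
  rw [Nat.card_eq_one_iff_unique]
  constructor
  · constructor
    rintro ⟨D, hD0, hD⟩ ⟨D', hD'0, hD'⟩
    apply Subtype.ext
    show D = D'
    rw [eq_zero_of_nonneg_of_deg_eq_zero hK hD0 (by exact_mod_cast hD),
      eq_zero_of_nonneg_of_deg_eq_zero hK hD'0 (by exact_mod_cast hD')]
  · exact ⟨⟨0, le_rfl, by rw [deg_zero]; rfl⟩⟩

theorem coeff_numerZ_two_genus_ne_zero [Finite k] (hK : IsFunctionField k K) :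
    PowerSeries.coeff (2 * genus k K) (numerZ k K) ≠ 0 := by
  have := finite_Pic0 hK
  let _ := Fintype.ofFinite (Pic0 k K)
  have h := functional_eq hK 0 (Nat.zero_le _)
  rw [Nat.sub_zero, coeff_numerZ_zero, effDivCount_zero hK] at h
  have hq : 1 < Nat.card k := Finite.one_lt_card
  have hq0 : (Nat.card k : ℚ) ≠ 0 := by
    have : Nat.card k ≠ 0 := by omega
    exact_mod_cast this
  intro h0
  rw [h0] at h
  have h1 : (Nat.card k : ℚ) ^ ((genus k K : ℤ) - ((0 : ℕ) : ℤ)) ≠ 0 := zpow_ne_zero _ hq0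
  apply h1
  have : (((1 : ℕ) : ℤ) : ℚ) = 1 := by norm_num
  rw [this, mul_one] at h
  rw [← h]
  norm_num

theorem functional_eq' [Finite k] (hK : IsFunctionField k K) (i : ℕ) (hi : i ≤ 2 * genus k K) :
    ((PowerSeries.coeff (2 * genus k K - i) (numerZ k K) : ℤ) : ℚ) =
      (Nat.card k : ℚ) ^ ((genus k K : ℤ) - i) *
        ((PowerSeries.coeff i (numerZ k K) : ℤ) : ℚ) := by
  have := finite_Pic0 hK
  let _ := Fintype.ofFinite (Pic0 k K)
  exact functional_eq hK i hi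

end Groth.Agent.Lib.Helper34.FunFldZetaFE
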