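import Groth.Agent.Lib.Helper34.FunFldZetaLog
import Groth.Agent.Lib.Helper34.FunFldZetaFE

/-!
# The explicit formula `N_r = 1 + q^r - ∑ αᵢ^r` and its converse (helper34)
-/

set_option autoImplicit false

namespace Groth.Agent.Lib.Helper34.FunFldZetaLog2

open FunFld PowerSeries Groth.Agent.Lib.Helper34.FunFldZetaLogAlg
  Groth.Agent.Lib.Helper34.FunFldZetaLog

section alg

variable {ι : Type*}

/-- The polynomial `∏ (1 - βᵢ X)` as a power series. -/
lemma coe_prod (s : Finset ι) (β : ι → ℂ) :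
    ((∏ i ∈ s, (1 - Polynomial.C (β i) * Polynomial.X) : Polynomial ℂ) : PowerSeries ℂ) =
      ∏ i ∈ s, (1 - C (β i) * X) := by
  rw [← Polynomial.coeToPowerSeries.ringHom_apply, map_prod]
  apply Finset.prod_congr rfl
  intro i _
  rw [Polynomial.coeToPowerSeries.ringHom_apply, Polynomial.coe_sub, Polynomial.coe_one,
    Polynomial.coe_mul, Polynomial.coe_C, Polynomial.coe_X]

lemma LD_prod_one_sub (s : Finset ι) (β : ι → ℂ) :
    LD (∏ i ∈ s, (1 - C (β i) * X)) (-(∑ i ∈ s, geom (β i))) := by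
  have := LD_prod s (fun i => 1 - C (β i) * X) (fun i => -geom (β i))
    (fun i _ => LD_one_sub (β i))
  rwa [Finset.sum_neg_distrib] at this

lemma LD_denom (q : ℂ) : LD ((1 - X) * (1 - C q * X)) (-geom (1 : ℂ) + -geom q) := by
  have h1 := LD_one_sub (1 : ℂ)
  rw [map_one, one_mul] at h1
  exact h1.mul (LD_one_sub q)

lemma constantCoeff_one_sub (β : ℂ) : constantCoeff (1 - C β * X) = 1 := by
  rw [map_sub, map_one, map_mul, constantCoeff_X, mul_zero, sub_zero]

lemma constantCoeff_denom (q : ℂ) : constantCoeff ((1 - X) * (1 - C q * X)) = 1 := by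
  rw [map_mul, constantCoeff_one_sub, mul_one, map_sub, map_one, constantCoeff_X, sub_zero]

lemma constantCoeff_prod (s : Finset ι) (β : ι → ℂ) :
    constantCoeff (∏ i ∈ s, (1 - C (β i) * X)) = 1 := by
  rw [map_prod]
  exact Finset.prod_eq_one (fun i _ => constantCoeff_one_sub (β i))

/-- From the factorisation of the numerator, the logarithmic derivative. -/
theorem explicit (s : Finset ι) (β : ι → ℂ) (q : ℂ) {Z N : ℂ⟦X⟧} (hZ : LD Z N) (hZ0 : Z ≠ 0)
    (hL : (1 - X) * (1 - C q * X) * Z = ∏ i ∈ s, (1 - C (β i) * X)) :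
    N = geom 1 + geom q - ∑ i ∈ s, geom (β i) := by
  have hD0 : (1 - X) * (1 - C q * X) ≠ (0 : ℂ⟦X⟧) := by
    intro h
    have := constantCoeff_denom q
    rw [h, map_zero] at this
    exact zero_ne_one this
  have h1 : LD (Z * ((1 - X) * (1 - C q * X))) (-(∑ i ∈ s, geom (β i))) := by
    rw [mul_comm, hL]
    exact LD_prod_one_sub s β
  have h2 := h1.cancel hD0 (LD_denom q)
  unfold LD at hZ h2
  have h3 : Z * N = Z * (-(∑ i ∈ s, geom (β i)) - (-geom (1 : ℂ) + -geom q)) := by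
    rw [← hZ, ← h2]
  rw [mul_left_cancel₀ hZ0 h3]
  ring

/-- Conversely, from the logarithmic derivative, the factorisation of the numerator. -/
theorem numer_of_LD (s : Finset ι) (β : ι → ℂ) (q : ℂ) {Z N : ℂ⟦X⟧} (hZ : LD Z N)
    (hZ0 : constantCoeff Z = 1) (hN : N = geom 1 + geom q - ∑ i ∈ s, geom (β i)) :
    (1 - X) * (1 - C q * X) * Z = ∏ i ∈ s, (1 - C (β i) * X) := by
  have h1 : LD ((1 - X) * (1 - C q * X) * Z) (-(∑ i ∈ s, geom (β i))) := by
    have := (LD_denom q).mul hZ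
    rw [hN] at this
    have he : -geom (1 : ℂ) + -geom q + (geom 1 + geom q - ∑ i ∈ s, geom (β i)) =
        -(∑ i ∈ s, geom (β i)) := by ring
    rwa [he] at this
  apply LD.unique h1 (LD_prod_one_sub s β)
  · rw [map_mul, constantCoeff_denom, hZ0, mul_one]
  · exact constantCoeff_prod s β

lemma coeff_rhs (s : Finset ι) (β : ι → ℂ) (q : ℂ) {r : ℕ} (hr : 1 ≤ r) :
    coeff r (geom 1 + geom q - ∑ i ∈ s, geom (β i)) = 1 + q ^ r - ∑ i ∈ s, β i ^ r := by
  have hr0 : r ≠ 0 := by omega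
  rw [map_sub, map_add, map_sum, coeff_geom, coeff_geom, if_neg hr0, if_neg hr0, one_pow]
  congr 1
  apply Finset.sum_congr rfl
  intro i _
  rw [coeff_geom, if_neg hr0]

end alg

section zeta

variable {k K : Type*} [Field k] [Field K] [Algebra k K] [Finite k]

lemma map_numerZ : PowerSeries.map (Int.castRingHom ℂ) (numerZ k K) =
    (1 - X) * (1 - C ((Nat.card k : ℂ)) * X) * PowerSeries.map (Int.castRingHom ℂ) (zetaZ k K) := by
  unfold numerZ
  rw [map_mul, map_mul, map_sub, map_sub, map_one, map_mul, PowerSeries.map_X, PowerSeries.map_C]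
  simp

lemma constantCoeff_map_zetaZ (hK : IsFunctionField k K) :
    constantCoeff (PowerSeries.map (Int.castRingHom ℂ) (zetaZ k K)) = 1 := by
  rw [← coeff_zero_eq_constantCoeff_apply, coeff_map,
    Groth.Agent.Lib.Helper34.FunFldZetaPoly.coeff_zetaZ,
    Groth.Agent.Lib.Helper34.FunFldZetaFE.effDivCount_zero hK]
  simp

/-- **Explicit formula**: `N_r = 1 + q^r - ∑ αᵢ^r`. -/
theorem Nr_formula (hK : IsFunctionField k K) {ι : Type*} (s : Finset ι) (α : ι → ℂ)
    (hα : PowerSeries.map (Int.castRingHom ℂ) (numerZ k K) =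
      ((∏ i ∈ s, (1 - Polynomial.C (α i) * Polynomial.X) : Polynomial ℂ) : PowerSeries ℂ))
    {r : ℕ} (hr : 1 ≤ r) :
    (Nr hK r : ℂ) = 1 + (Nat.card k : ℂ) ^ r - ∑ i ∈ s, α i ^ r := by
  have hZ := (LD_zetaZ hK).map (Int.castRingHom ℂ)
  have hZ0 : PowerSeries.map (Int.castRingHom ℂ) (zetaZ k K) ≠ 0 := by
    intro h
    have := constantCoeff_map_zetaZ hK
    rw [h, map_zero] at this
    exact zero_ne_one this
  rw [map_numerZ, coe_prod] at hα
  have h := explicit s α (Nat.card k : ℂ) hZ hZ0 hα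
  have h2 := congrArg (coeff r) h
  rw [coeff_rhs s α _ hr, coeff_map, coeff_mk] at h2
  rw [← h2]
  simp

/-- Converse: the numerator is determined by the numbers `N_r`. -/
theorem numerZ_of_Nr (hK : IsFunctionField k K) {ι : Type*} (s : Finset ι) (β : ι → ℂ)
    (hN : ∀ r : ℕ, 1 ≤ r → (Nr hK r : ℂ) = 1 + (Nat.card k : ℂ) ^ r - ∑ i ∈ s, β i ^ r) :
    PowerSeries.map (Int.castRingHom ℂ) (numerZ k K) =
      ((∏ i ∈ s, (1 - Polynomial.C (β i) * Polynomial.X) : Polynomial ℂ) : PowerSeries ℂ) := by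
  have hZ := (LD_zetaZ hK).map (Int.castRingHom ℂ)
  rw [map_numerZ, coe_prod]
  apply numer_of_LD s β (Nat.card k : ℂ) hZ (constantCoeff_map_zetaZ hK)
  ext r
  rcases Nat.eq_zero_or_pos r with h0 | hpos
  · subst h0
    rw [coeff_map, coeff_mk, Nr_zero, map_sub, map_add, map_sum, coeff_geom, coeff_geom, if_pos rfl,
      if_pos rfl]
    simp [coeff_geom]
  · rw [coeff_rhs s β _ hpos, coeff_map, coeff_mk, ← hN r hpos]
    simp

end zeta

end Groth.Agent.Lib.Helper34.FunFldZetaLog2
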