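import Groth.Agent.Lib.Helper34.FunFldConstFin
import Groth.Agent.Lib.Helper34.FunFldZetaLog2

/-!
# The zeta function of a constant field extension (helper34)

If `L_K(t) = ∏ (1 - αᵢ t)` then `L_{K'}(t) = ∏ (1 - αᵢⁿ t)` for the constant field extension
`K'/k'` of degree `n` of `K/k`.
-/

set_option autoImplicit false

namespace Groth.Agent.Lib.Helper34.FunFldConstZeta

open FunFld Groth.Agent.Lib.Helper34.FunFldZetaLog Groth.Agent.Lib.Helper34.FunFldZetaLog2
  Groth.Agent.Lib.Helper34.FunFldConstFin Groth.Agent.Lib.Helper91.FunFldFin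

section one

variable {k K : Type*} [Field k] [Field K] [Algebra k K] [Finite k]

/-- `N_1` is the number of places of degree one. -/
theorem Nr_one (hK : IsFunctionField k K) :
    Nr hK 1 = Nat.card {P : Place k K // P.deg = 1} := by
  classical
  rw [Nat.subtype_card ((Pl hK 1).filter (fun P => P.deg ∣ 1))]
  · rw [Nr, Finset.card_eq_sum_ones]
    apply Finset.sum_congr rfl
    intro P hP
    exact Nat.dvd_one.1 (Finset.mem_filter.1 hP).2
  · intro P
    rw [Finset.mem_filter, mem_Pl, Nat.dvd_one]
    constructor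
    · exact fun h => h.2
    · exact fun h => ⟨h.le, h⟩

end one

section constExt

variable {k k' K K' : Type*} [Field k] [Field k'] [Field K] [Field K']
  [Algebra k k'] [Algebra k K] [Algebra K K'] [Algebra k' K'] [Finite k] [Finite k']

/-- The numbers `N_m` of a constant field extension. -/
theorem Nr_constExt_formula (hK : IsFunctionField k K) (hK' : IsFunctionField k' K')
    (hce : IsConstExt k K k' K') {ι : Type*} (s : Finset ι) (α : ι → ℂ)
    (hα : PowerSeries.map (Int.castRingHom ℂ) (numerZ k K) =
      ((∏ i ∈ s, (1 - Polynomial.C (α i) * Polynomial.X) : Polynomial ℂ) : PowerSeries ℂ))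
    {m : ℕ} (hm : 1 ≤ m) :
    (Nr hK' m : ℂ) = 1 + (Nat.card k' : ℂ) ^ m - ∑ i ∈ s, (α i ^ Module.finrank k k') ^ m := by
  classical
  obtain ⟨hcompat, -, hrank⟩ := hce
  letI : Algebra k K' := ((algebraMap K K').comp (algebraMap k K)).toAlgebra
  haveI : IsScalarTower k K K' := IsScalarTower.of_algebraMap_eq (fun _ => rfl)
  haveI : IsScalarTower k k' K' := IsScalarTower.of_algebraMap_eq (fun c => hcompat c)
  haveI : FiniteDimensional k k' := Module.Finite.of_finite
  have hn : 0 < Module.finrank k k' := Module.finrank_pos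
  haveI : FiniteDimensional K K' := Module.finite_of_finrank_pos (by rw [hrank]; exact hn)
  have hcard : (Nat.card k' : ℂ) = (Nat.card k : ℂ) ^ Module.finrank k k' := by
    rw [Module.natCard_eq_pow_finrank (K := k) (V := k')]
    push_cast
    rfl
  rw [Nr_constExt hrank hK hK' m, Nr_formula hK s α hα (Nat.mul_pos hm hn), hcard, pow_mul']
  congr 1
  apply Finset.sum_congr rfl
  intro i _
  rw [pow_mul']

/-- **Zeta function of a constant field extension.** -/
theorem numerZ_constExt (hK : IsFunctionField k K) (hK' : IsFunctionField k' K')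
    (hce : IsConstExt k K k' K') {ι : Type*} (s : Finset ι) (α : ι → ℂ)
    (hα : PowerSeries.map (Int.castRingHom ℂ) (numerZ k K) =
      ((∏ i ∈ s, (1 - Polynomial.C (α i) * Polynomial.X) : Polynomial ℂ) : PowerSeries ℂ)) :
    PowerSeries.map (Int.castRingHom ℂ) (numerZ k' K') =
      ((∏ i ∈ s, (1 - Polynomial.C (α i ^ Module.finrank k k') * Polynomial.X) : Polynomial ℂ) :
        PowerSeries ℂ) :=
  numerZ_of_Nr hK' s (fun i => α i ^ Module.finrank k k')
    (fun _ hr => Nr_constExt_formula hK hK' hce s α hα hr)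

/-- The number of places of degree one of a constant field extension. -/
theorem card_deg_one_constExt (hK : IsFunctionField k K) (hK' : IsFunctionField k' K')
    (hce : IsConstExt k K k' K') {ι : Type*} (s : Finset ι) (α : ι → ℂ)
    (hα : PowerSeries.map (Int.castRingHom ℂ) (numerZ k K) =
      ((∏ i ∈ s, (1 - Polynomial.C (α i) * Polynomial.X) : Polynomial ℂ) : PowerSeries ℂ)) :
    (Nat.card {P : Place k' K' // P.deg = 1} : ℂ) =
      1 + (Nat.card k : ℂ) ^ Module.finrank k k' - ∑ i ∈ s, α i ^ Module.finrank k k' := by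
  haveI : FiniteDimensional k k' := Module.Finite.of_finite
  have hcard : (Nat.card k' : ℂ) = (Nat.card k : ℂ) ^ Module.finrank k k' := by
    rw [Module.natCard_eq_pow_finrank (K := k) (V := k')]
    push_cast
    rfl
  rw [← Nr_one hK', Nr_constExt_formula hK hK' hce s α hα le_rfl, hcard, pow_one]
  congr 1
  apply Finset.sum_congr rfl
  intro i _
  rw [pow_one]

end constExt

end Groth.Agent.Lib.Helper34.FunFldConstZeta
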