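import Groth.Agent.Lib.Helper88.FunFldApprox
import Groth.Agent.Lib.Helper88.RelQuot

/-!
# Local dimension count at finitely many places (helper34)

For a finite set `S` of places (any field `L` over `k`, residue fields finite over `k`), the
`k`-spaces `box S a = {z | ∀ Q ∈ S, v_Q z ≤ exp (a Q)}` satisfy
`dim box S a / box S (a - c) = ∑_{Q ∈ S} c Q · deg Q`.
-/

set_option autoImplicit false

namespace Groth.Agent.Lib.Helper34.FunFldBox

open FunFld WithZero Groth.Agent.Lib.Helper88 Groth.Agent.Lib.Helper88.FF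

variable {k L : Type*} [Field k] [Field L] [Algebra k L]

/-- The `k`-subspace of elements with `v_Q z ≤ exp (a Q)` for all `Q ∈ S`. -/
def box (S : Finset (Place k L)) (a : Place k L → ℤ) : Submodule k L := ⨅ Q ∈ S, ball Q (a Q)

lemma mem_box {S : Finset (Place k L)} {a : Place k L → ℤ} {z : L} :
    z ∈ box S a ↔ ∀ Q ∈ S, Q.1 z ≤ exp (a Q) := by
  simp only [box, Submodule.mem_iInf]
  rfl

lemma box_mono (S : Finset (Place k L)) {a b : Place k L → ℤ} (h : ∀ Q ∈ S, a Q ≤ b Q) :
    box S a ≤ box S b := by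
  intro z hz
  rw [mem_box] at hz ⊢
  intro Q hQ
  exact (hz Q hQ).trans (exp_le_exp.2 (h Q hQ))

/-- **Local dimension count.** -/
theorem finrank_box_quot (S : Finset (Place k L))
    (hfin : ∀ Q ∈ S, Module.Finite k (IsLocalRing.ResidueField Q.O)) (a : Place k L → ℤ) :
    ∀ (n : ℕ) (c : Place k L → ℕ), ∑ Q ∈ S, c Q = n →
      FiniteDimensional k (RelQuot (box S (fun Q => a Q - c Q)) (box S a)) ∧
      Module.finrank k (RelQuot (box S (fun Q => a Q - c Q)) (box S a)) =
        ∑ Q ∈ S, c Q * Q.deg := by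
  classical
  intro n
  induction n with
  | zero =>
    intro c hc
    have hc0 : ∀ Q ∈ S, c Q = 0 := fun Q hQ => (Finset.sum_eq_zero_iff.1 hc) Q hQ
    have heq : box S (fun Q => a Q - c Q) = box S a := by
      ext z
      rw [mem_box, mem_box]
      constructor
      · intro h Q hQ
        have := h Q hQ
        rwa [hc0 Q hQ, Nat.cast_zero, sub_zero] at this
      · intro h Q hQ
        rw [hc0 Q hQ, Nat.cast_zero, sub_zero]
        exact h Q hQ
    have : Subsingleton (RelQuot (box S (fun Q => a Q - c Q)) (box S a)) := by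
      apply Submodule.Quotient.subsingleton_iff.2
      rw [eq_top_iff]
      intro z _
      show (z : L) ∈ box S (fun Q => a Q - c Q)
      rw [heq]
      exact z.2
    refine ⟨inferInstance, ?_⟩
    rw [Module.finrank_zero_of_subsingleton]
    symm
    apply Finset.sum_eq_zero
    intro Q hQ
    rw [hc0 Q hQ, zero_mul]
  | succ n ih =>
    intro c hc
    -- a place with positive `c`
    have hex : ∃ Q₀ ∈ S, 0 < c Q₀ := by
      by_contra hcon
      push Not at hcon
      have : ∑ Q ∈ S, c Q = 0 := Finset.sum_eq_zero fun Q hQ => Nat.le_zero.1 (hcon Q hQ)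
      omega
    obtain ⟨Q₀, hQ₀, hpos⟩ := hex
    obtain ⟨c', hc'def⟩ : ∃ c' : Place k L → ℕ, c' = Function.update c Q₀ (c Q₀ - 1) := ⟨_, rfl⟩
    have hc'Q₀ : c' Q₀ = c Q₀ - 1 := by rw [hc'def, Function.update_self]
    have hc'ne : ∀ Q, Q ≠ Q₀ → c' Q = c Q := fun Q hQ => by
      rw [hc'def, Function.update_of_ne hQ]
    have hsum : ∀ f : Place k L → ℕ, ∑ Q ∈ S, c Q * f Q = f Q₀ + ∑ Q ∈ S, c' Q * f Q := by
      intro f
      rw [← Finset.add_sum_erase S _ hQ₀, ← Finset.add_sum_erase S (fun Q => c' Q * f Q) hQ₀]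
      have h1 : ∑ Q ∈ S.erase Q₀, c Q * f Q = ∑ Q ∈ S.erase Q₀, c' Q * f Q := by
        apply Finset.sum_congr rfl
        intro Q hQ
        rw [hc'ne Q (Finset.ne_of_mem_erase hQ)]
      rw [h1, hc'Q₀, ← add_assoc]
      congr 1
      have : c Q₀ = (c Q₀ - 1) + 1 := by omega
      conv_lhs => rw [this, add_mul, one_mul]
      ring
    have hsum' : ∑ Q ∈ S, c' Q = n := by
      have := hsum (fun _ => 1)
      simp only [mul_one] at this
      omega
    obtain ⟨ih1, ih2⟩ := ih c' hsum'
    -- the three spaces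
    have hAB : box S (fun Q => a Q - c Q) ≤ box S (fun Q => a Q - c' Q) := by
      apply box_mono
      intro Q _
      by_cases hQ : Q = Q₀
      · subst hQ
        rw [hc'Q₀]
        have : ((c Q - 1 : ℕ) : ℤ) ≤ c Q := by exact_mod_cast Nat.sub_le _ _
        linarith
      · rw [hc'ne Q hQ]
    have hBC : box S (fun Q => a Q - c' Q) ≤ box S a := by
      apply box_mono
      intro Q _
      have : (0 : ℤ) ≤ c' Q := Int.natCast_nonneg _
      linarith
    -- the residue map at `Q₀`
    obtain ⟨t, ht⟩ := exists_uniformizer Q₀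
    have hincl : box S (fun Q => a Q - c' Q) ≤ ball Q₀ (a Q₀ - c' Q₀) := by
      intro z hz
      rw [mem_box] at hz
      exact hz Q₀ hQ₀
    let ψ : box S (fun Q => a Q - c' Q) →ₗ[k] IsLocalRing.ResidueField Q₀.O :=
      (resAt Q₀ ht (a Q₀ - c' Q₀)).comp (Submodule.inclusion hincl)
    have hlevel : a Q₀ - (c' Q₀ : ℤ) - 1 = a Q₀ - c Q₀ := by
      rw [hc'Q₀]
      have : ((c Q₀ - 1 : ℕ) : ℤ) = (c Q₀ : ℤ) - 1 := by
        rw [Nat.cast_sub hpos]
        simp
      rw [this]
      ring
    have hker : ∀ z : box S (fun Q => a Q - c' Q), ψ z = 0 ↔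
        (z : L) ∈ box S (fun Q => a Q - c Q) := by
      intro z
      show resAt Q₀ ht (a Q₀ - c' Q₀) (Submodule.inclusion hincl z) = 0 ↔ _
      rw [resAt_eq_zero_iff, hlevel]
      show Q₀.1 (z : L) ≤ exp (a Q₀ - c Q₀) ↔ _
      rw [mem_box]
      constructor
      · intro h Q hQ
        by_cases hQQ : Q = Q₀
        · subst hQQ
          exact h
        · have := (mem_box.1 z.2) Q hQ
          rwa [hc'ne Q hQQ] at this
      · intro h
        exact h Q₀ hQ₀
    have hsurj : Function.Surjective ψ := by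
      intro r
      obtain ⟨u, hu⟩ := resAt_surjective Q₀ ht (a Q₀ - c' Q₀) r
      -- approximate `u` at `Q₀` and `0` elsewhere
      obtain ⟨N, hN⟩ : ∃ N : ℤ, ∀ Q ∈ S, -N ≤ a Q - c Q := by
        obtain ⟨m, hm⟩ := Finset.exists_le (S.image fun Q => -(a Q - c Q))
        refine ⟨m, fun Q hQ => ?_⟩
        have := hm _ (Finset.mem_image_of_mem _ hQ)
        linarith
      obtain ⟨z, hz⟩ := weak_approx S (fun Q => if Q = Q₀ then (u : L) else 0) N
      have hzQ₀ : Q₀.1 (z - u) ≤ exp (a Q₀ - c Q₀) := by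
        have := hz Q₀ hQ₀
        rw [if_pos rfl] at this
        exact this.trans (exp_le_exp.2 (hN Q₀ hQ₀))
      have hzmem : z ∈ box S (fun Q => a Q - c' Q) := by
        rw [mem_box]
        intro Q hQ
        by_cases hQQ : Q = Q₀
        · subst hQQ
          have e : z = (z - u) + u := by ring
          rw [e]
          refine (Valuation.map_add _ _ _).trans (max_le ?_ u.2)
          refine hzQ₀.trans (exp_le_exp.2 ?_)
          rw [← hlevel]
          linarith
        · have := hz Q hQ
          rw [if_neg hQQ, sub_zero] at this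
          rw [hc'ne Q hQQ]
          exact this.trans (exp_le_exp.2 (hN Q hQ))
      refine ⟨⟨z, hzmem⟩, ?_⟩
      rw [← hu]
      show resAt Q₀ ht (a Q₀ - c' Q₀) (Submodule.inclusion hincl ⟨z, hzmem⟩) = _
      rw [← sub_eq_zero, ← map_sub, resAt_eq_zero_iff, hlevel]
      exact hzQ₀
    have e := relQuotEquivOfSurjective ψ hsurj hker
    haveI := hfin Q₀ hQ₀
    haveI hfd1 : FiniteDimensional k
        (RelQuot (box S (fun Q => a Q - c Q)) (box S (fun Q => a Q - c' Q))) :=
      Module.Finite.equiv e.symm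
    have hrank1 : Module.finrank k
        (RelQuot (box S (fun Q => a Q - c Q)) (box S (fun Q => a Q - c' Q))) = Q₀.deg :=
      e.finrank_eq
    haveI := ih1
    haveI hfd : FiniteDimensional k (RelQuot (box S (fun Q => a Q - c Q)) (box S a)) :=
      relQuot_tower_finite hAB hBC
    refine ⟨hfd, ?_⟩
    rw [relQuot_tower_finrank hAB hBC, hrank1, ih2]
    exact (hsum (fun Q => Q.deg)).symm

end Groth.Agent.Lib.Helper34.FunFldBox
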