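/-
Function fields of one variable over an algebraically closed constant field:
finiteness of the integral closure of a finitely generated subalgebra with fraction field `K`,
in the form of a conductor element (via Riemann's theorem).
Author: helper34
-/
import Groth.Agent.Lib.Helper91.FunFldAC
import Groth.Agent.Lib.Helper88.FunFldStrong
import Groth.Agent.Lib.Helper68.FunFldRes2
import Mathlib.Tactic.Ring
import Mathlib.Tactic.FieldSimp
import Mathlib.Tactic.Linarith

set_option autoImplicit false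

namespace Groth.Agent.Lib.Helper34.FunFldCond

open FunFld WithZero Groth.Agent.Lib.Helper88.FF

variable {k K : Type*} [Field k] [Field K] [Algebra k K]

/-- discreteness of the value group -/
theorem eq_exp_of_le_of_not_le {x : ℤᵐ⁰} {a : ℤ}
    (h1 : x ≤ exp a) (h2 : ¬ x ≤ exp (a - 1)) : x = exp a := by
  have hx : x ≠ 0 := by
    rintro rfl
    exact h2 (by simp)
  rw [← exp_log hx] at h1 h2 ⊢
  rw [exp_le_exp] at h1 h2
  congr 1
  omega

/-- For a divisor of degree `≥ 2g` and a place `Q`, some `f ∈ L(F)` has exact value `exp (F Q)`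
at `Q`. -/
theorem exists_exact [IsAlgClosed k] (hK : IsFunctionField k K) (F : Divisor k K) (Q : Place k K)
    (hdeg : 2 * (genus k K : ℤ) ≤ F.deg) : ∃ f ∈ L F, Q.1 f = exp (F Q) := by
  classical
  have hQ := Groth.Agent.Lib.Helper91.FunFldAC.deg_eq_one hK Q
  have h1 := ell_eq_of_le_deg hK (D := F) (by omega)
  have hdeg' : (F - Finsupp.single Q 1).deg = F.deg - 1 := by
    rw [deg_sub, deg_single, hQ]; simp
  have h2 := ell_eq_of_le_deg hK (D := F - Finsupp.single Q 1) (by rw [hdeg']; omega)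
  rw [hdeg'] at h2
  have hle : L (F - Finsupp.single Q 1) ≤ L F :=
    L_mono (sub_le_self _ (Finsupp.single_nonneg.2 zero_le_one))
  have hnot : ¬ L F ≤ L (F - Finsupp.single Q 1) := by
    intro h'
    have := finiteDimensional_L hK (F - Finsupp.single Q 1)
    have h3 := Submodule.finrank_mono h'
    unfold ell at h1 h2
    omega
  obtain ⟨f, hf, hf'⟩ := SetLike.not_le_iff_exists.mp hnot
  refine ⟨f, hf, ?_⟩
  have hf'' : ¬ ∀ Q' : Place k K, Q'.1 f ≤ exp ((F - Finsupp.single Q 1 : Divisor k K) Q') := hf'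
  rw [not_forall] at hf''
  obtain ⟨Q', hQ'⟩ := hf''
  have hQQ : Q' = Q := by
    by_contra hne
    apply hQ'
    rw [Finsupp.sub_apply, Finsupp.single_apply, if_neg (Ne.symm hne), sub_zero]
    exact hf Q'
  subst hQQ
  rw [Finsupp.sub_apply, Finsupp.single_eq_same] at hQ'
  exact eq_exp_of_le_of_not_le (hf Q') hQ'

/-- Subtracting a constant multiple lowers the value. -/
theorem exists_sub_smul_lt [IsAlgClosed k] (hK : IsFunctionField k K) (Q : Place k K) {z g : K}
    (hg : g ≠ 0) (h : Q.1 z ≤ Q.1 g) : ∃ c : k, Q.1 (z - c • g) < Q.1 g := by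
  have hpos : 0 < Q.1 g := zero_lt_iff.2 ((Valuation.ne_zero_iff _).2 hg)
  have h1 : Q.1 (z / g) ≤ 1 := by
    rw [map_div₀]
    exact (div_le_one₀ hpos).2 h
  obtain ⟨c, hc⟩ := Groth.Agent.Lib.Helper68.FunFldRes.exists_const hK Q h1
  refine ⟨c, ?_⟩
  have e : z - c • g = (z / g - algebraMap k K c) * g := by
    rw [Algebra.smul_def]; field_simp
  rw [e, map_mul]
  calc Q.1 (z / g - algebraMap k K c) * Q.1 g < 1 * Q.1 g := by
        exact mul_lt_mul_of_pos_right hc hpos
    _ = Q.1 g := one_mul _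

/-- The pole divisor of `x`. -/
noncomputable def poleDiv (x : K) : Divisor k K := (-(FunFld.div k x)) ⊔ 0

lemma poleDiv_nonneg (x : K) : (0 : Divisor k K) ≤ poleDiv x := le_sup_right

lemma poleDiv_apply (hK : IsFunctionField k K) (x : K) (Q : Place k K) :
    poleDiv (k := k) x Q = max (-Q.ord x) 0 := by
  rw [poleDiv, Finsupp.sup_apply, Finsupp.neg_apply, div_apply hK, Finsupp.zero_apply]

lemma mem_L_poleDiv (hK : IsFunctionField k K) (x : K) : x ∈ L (poleDiv (k := k) x) := by
  intro Q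
  by_cases hx : x = 0
  · simp [hx]
  rw [poleDiv_apply hK, val_eq_exp_neg_ord Q hx, exp_le_exp]
  exact le_max_left _ _

lemma val_eq_exp_poleDiv (hK : IsFunctionField k K) {x : K} {Q : Place k K} (h : 1 < Q.1 x) :
    Q.1 x = exp (poleDiv (k := k) x Q) ∧ 1 ≤ poleDiv (k := k) x Q := by
  have hx : x ≠ 0 := by
    rintro rfl
    simp at h
  have hord := (one_lt_val_iff Q hx).1 h
  rw [poleDiv_apply hK]
  have : max (-Q.ord x) 0 = -Q.ord x := max_eq_left (by omega)
  rw [this]
  exact ⟨val_eq_exp_neg_ord Q hx, by omega⟩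

open scoped Classical in
lemma sum_single_apply (T : Finset (Place k K)) (Q : Place k K) :
    (∑ Q' ∈ T, (Finsupp.single Q' (1 : ℤ) : Divisor k K)) Q = if Q ∈ T then 1 else 0 := by
  rw [Finsupp.finsetSum_apply]
  simp only [Finsupp.single_apply]
  rw [Finset.sum_ite_eq' T Q]

/-- Auxiliary: raising the pole order at one place `Q ∈ T` using a generator with a pole at `Q`. -/
theorem exists_raise [IsAlgClosed k] (hK : IsFunctionField k K) (T : Finset (Place k K))
    (m : ℕ) (Q : Place k K) (hQ : Q ∈ T) (x : K) (hx : 1 < Q.1 x)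
    (hm : 2 * (genus k K : ℤ) + (poleDiv (k := k) x).deg ≤ m) :
    ∃ f ∈ L (m • ∑ Q' ∈ T, (Finsupp.single Q' (1 : ℤ) : Divisor k K)),
      x * f ∈ L (m • (∑ Q' ∈ T, (Finsupp.single Q' (1 : ℤ) : Divisor k K)) + Finsupp.single Q 1) ∧
      Q.1 (x * f) = exp ((m : ℤ) + 1) := by
  classical
  obtain ⟨hval, hE1⟩ := val_eq_exp_poleDiv hK hx
  have hE0 := poleDiv_nonneg (k := k) x
  have hxL := mem_L_poleDiv hK x
  generalize poleDiv (k := k) x = E at hval hE1 hE0 hxL hm
  set D : Divisor k K := ∑ Q' ∈ T, Finsupp.single Q' 1 with hD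
  have hDapp : ∀ Q', D Q' = if Q' ∈ T then 1 else 0 := fun Q' => sum_single_apply T Q'
  have hQdeg := Groth.Agent.Lib.Helper91.FunFldAC.deg_eq_one hK Q
  have hDdeg : (1 : ℤ) ≤ D.deg := by
    have h1 : (Finsupp.single Q 1 : Divisor k K) ≤ D := by
      intro Q'
      rw [hDapp, Finsupp.single_apply]
      by_cases h : Q = Q'
      · subst h
        rw [if_pos rfl, if_pos hQ]
      · rw [if_neg h]
        split_ifs <;> norm_num
    have h2 := deg_mono h1
    rw [deg_single, hQdeg] at h2
    simpa using h2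
  have hFdeg : 2 * (genus k K : ℤ) ≤ (m • D + Finsupp.single Q 1 - E).deg := by
    rw [deg_sub, deg_add, deg_nsmul, deg_single, hQdeg]
    generalize E.deg = e at hm
    generalize D.deg = d at hDdeg
    have hm0 : (0 : ℤ) ≤ m := Int.natCast_nonneg m
    push_cast
    nlinarith
  obtain ⟨f, hf, hfQ⟩ := exists_exact hK _ Q hFdeg
  have hfL : f ∈ L (m • D) := by
    refine L_mono ?_ hf
    intro Q'
    rw [Finsupp.sub_apply, Finsupp.add_apply, Finsupp.single_apply]
    by_cases h : Q = Q'
    · subst h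
      rw [if_pos rfl]
      omega
    · rw [if_neg h]
      have := hE0 Q'
      rw [Finsupp.zero_apply] at this
      omega
  refine ⟨f, hfL, ?_, ?_⟩
  · have h1 := mul_mem_L hxL hf
    have e : E + (m • D + Finsupp.single Q 1 - E) = m • D + Finsupp.single Q 1 := by abel
    rwa [e] at h1
  · rw [map_mul, hval, hfQ, ← exp_add]
    congr 1
    rw [Finsupp.sub_apply, Finsupp.add_apply, Finsupp.smul_apply, hDapp, if_pos hQ,
      Finsupp.single_eq_same]
    simp

/-- The key step: for `m` large, `L((m+1) D_T) ⊆ A · L(m D_T)`, where every place of `T` is a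
pole of some generator of `A`. -/
theorem step [IsAlgClosed k] (hK : IsFunctionField k K) {ι : Type*} (r : ι → K)
    (T : Finset (Place k K)) (hT : ∀ Q ∈ T, ∃ i, 1 < Q.1 (r i)) :
    ∃ m₀ : ℕ, ∀ m : ℕ, m₀ ≤ m →
      L ((m + 1) • ∑ Q ∈ T, (Finsupp.single Q (1 : ℤ) : Divisor k K)) ≤
        (Algebra.adjoin k (Set.range r)).toSubmodule *
          L (m • ∑ Q ∈ T, (Finsupp.single Q (1 : ℤ) : Divisor k K)) := by
  classical
  choose i hi using hT
  -- a uniform bound
  obtain ⟨N, hN⟩ : ∃ N : ℕ, ∀ Q (hQ : Q ∈ T), (poleDiv (k := k) (r (i Q hQ))).deg ≤ N := by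
    refine ⟨∑ Q ∈ T.attach, ((poleDiv (k := k) (r (i Q.1 Q.2))).deg).toNat, fun Q hQ => ?_⟩
    generalize hd : (fun Q : {x // x ∈ T} => ((poleDiv (k := k) (r (i Q.1 Q.2))).deg)) = d
    have hd' : ∀ Q : {x // x ∈ T}, (poleDiv (k := k) (r (i Q.1 Q.2))).deg = d Q := fun Q => by
      rw [← hd]
    simp only [hd']
    rw [hd' ⟨Q, hQ⟩]
    have h1 : (d ⟨Q, hQ⟩).toNat ≤ ∑ Q ∈ T.attach, (d Q).toNat :=
      Finset.single_le_sum (f := fun Q : {x // x ∈ T} => (d Q).toNat)
        (fun _ _ => Nat.zero_le _) (Finset.mem_attach T ⟨Q, hQ⟩)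
    have h2 := Int.self_le_toNat (d ⟨Q, hQ⟩)
    have h3 : ((d ⟨Q, hQ⟩).toNat : ℤ) ≤ ((∑ Q ∈ T.attach, (d Q).toNat : ℕ) : ℤ) := by
      exact_mod_cast h1
    exact h2.trans h3
  set D : Divisor k K := ∑ Q ∈ T, Finsupp.single Q 1 with hD
  have hDapp : ∀ Q, D Q = if Q ∈ T then 1 else 0 := fun Q => sum_single_apply T Q
  refine ⟨2 * genus k K + N, fun m hm => ?_⟩
  set M := (Algebra.adjoin k (Set.range r)).toSubmodule * L (m • D) with hM
  have hg : ∀ Q (_ : Q ∈ T), ∃ g ∈ M, g ∈ L (m • D + Finsupp.single Q 1) ∧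
      Q.1 g = exp ((m : ℤ) + 1) := by
    intro Q hQ
    have hm' : 2 * (genus k K : ℤ) + (poleDiv (k := k) (r (i Q hQ))).deg ≤ m := by
      have h1 := hN Q hQ
      have h2 : ((2 * genus k K + N : ℕ) : ℤ) ≤ m := by exact_mod_cast hm
      push_cast at h2
      linarith
    obtain ⟨f, hfL, hxf, hval⟩ := exists_raise hK T m Q hQ (r (i Q hQ)) (hi Q hQ) hm'
    exact ⟨r (i Q hQ) * f, Submodule.mul_mem_mul (Algebra.subset_adjoin ⟨_, rfl⟩) hfL, hxf, hval⟩
  have key : ∀ U : Finset (Place k K), U ⊆ T →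
      ∀ z ∈ L (m • D + ∑ Q ∈ U, (Finsupp.single Q (1 : ℤ) : Divisor k K)), z ∈ M := by
    intro U
    induction U using Finset.induction_on with
    | empty =>
      intro _ z hz
      rw [Finset.sum_empty, add_zero] at hz
      have h1 : (1 : K) ∈ (Algebra.adjoin k (Set.range r)).toSubmodule :=
        Subalgebra.one_mem (Algebra.adjoin k (Set.range r))
      have := Submodule.mul_mem_mul h1 hz
      rwa [one_mul] at this
    | insert Q U hQU ih =>
      intro hsub z hz
      have hQT : Q ∈ T := hsub (Finset.mem_insert_self _ _)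
      have hUT : U ⊆ T := fun x hx => hsub (Finset.mem_insert_of_mem hx)
      obtain ⟨g, hgM, hgL, hgQ⟩ := hg Q hQT
      have hg0 : g ≠ 0 := by
        rintro rfl
        rw [map_zero] at hgQ
        exact exp_ne_zero hgQ.symm
      have hGQ : (m • D + ∑ Q' ∈ insert Q U, (Finsupp.single Q' (1 : ℤ) : Divisor k K)) Q =
          (m : ℤ) + 1 := by
        rw [Finsupp.add_apply, Finsupp.smul_apply, hDapp, if_pos hQT, sum_single_apply,
          if_pos (Finset.mem_insert_self _ _)]
        simp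
      have hzQ : Q.1 z ≤ Q.1 g := by
        rw [hgQ, ← hGQ]
        exact hz Q
      obtain ⟨c, hc⟩ := exists_sub_smul_lt hK Q hg0 hzQ
      have hgL' : g ∈ L (m • D + ∑ Q' ∈ insert Q U, (Finsupp.single Q' (1 : ℤ) : Divisor k K)) := by
        refine L_mono ?_ hgL
        intro Q'
        rw [Finsupp.add_apply, Finsupp.add_apply, sum_single_apply, Finsupp.single_apply]
        by_cases h : Q = Q'
        · subst h
          rw [if_pos rfl, if_pos (Finset.mem_insert_self _ _)]
        · rw [if_neg h]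
          split_ifs <;> omega
      have hmem : z - c • g ∈
          L (m • D + ∑ Q' ∈ insert Q U, (Finsupp.single Q' (1 : ℤ) : Divisor k K)) :=
        Submodule.sub_mem _ hz (Submodule.smul_mem _ _ hgL')
      have hz' : z - c • g ∈ L (m • D + ∑ Q' ∈ U, (Finsupp.single Q' (1 : ℤ) : Divisor k K)) := by
        intro Q'
        by_cases hQ' : Q' = Q
        · subst hQ'
          have e : (m • D + ∑ Q'' ∈ U, (Finsupp.single Q'' (1 : ℤ) : Divisor k K)) Q' = (m : ℤ) := by
            rw [Finsupp.add_apply, Finsupp.smul_apply, hDapp, if_pos hQT, sum_single_apply,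
              if_neg hQU]
            simp
          rw [e]
          rw [hgQ] at hc
          exact lt_exp_succ_iff.1 hc
        · have h1 := hmem Q'
          rw [Finsupp.add_apply, sum_single_apply] at h1 ⊢
          have e : (Q' ∈ insert Q U) ↔ Q' ∈ U := by
            rw [Finset.mem_insert]
            exact ⟨fun h => h.resolve_left hQ', Or.inr⟩
          rwa [if_congr e rfl rfl] at h1
      have h3 := ih hUT _ hz'
      have h2 : z = (z - c • g) + c • g := by ring
      rw [h2]
      exact Submodule.add_mem _ h3 (Submodule.smul_mem _ _ hgM)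
  intro z hz
  apply key T (Finset.Subset.refl _) z
  have e : (m + 1) • D = m • D + ∑ Q ∈ T, (Finsupp.single Q (1 : ℤ) : Divisor k K) := by
    rw [succ_nsmul]
  rwa [← e]

lemma mul_mul_le (A : Subalgebra k K) (N : Submodule k K) :
    A.toSubmodule * (A.toSubmodule * N) ≤ A.toSubmodule * N := by
  rw [Submodule.mul_le]
  intro a ha y hy
  refine Submodule.mul_induction_on hy ?_ ?_
  · intro a' ha' n hn
    rw [← mul_assoc]
    exact Submodule.mul_mem_mul (A.mul_mem ha ha') hn
  · intro x y hx hy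
    rw [mul_add]
    exact add_mem hx hy

lemma exists_le_exp_nat (x : ℤᵐ⁰) : ∃ m : ℕ, x ≤ exp (m : ℤ) := by
  rcases eq_or_ne x 0 with rfl | hx
  · exact ⟨0, by simp⟩
  · refine ⟨(log x).toNat, ?_⟩
    rw [← log_le_iff_le_exp hx]
    exact Int.self_le_toNat _

/-- Every element regular outside `T` lies in `L(m D_T)` for all large `m`. -/
lemma exists_mem_L_nsmul (T : Finset (Place k K)) (z : K)
    (hz : ∀ Q : Place k K, Q ∉ T → Q.1 z ≤ 1) :
    ∃ m₁ : ℕ, ∀ m : ℕ, m₁ ≤ m →
      z ∈ L (m • ∑ Q ∈ T, (Finsupp.single Q (1 : ℤ) : Divisor k K)) := by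
  classical
  choose e he using fun Q : Place k K => exists_le_exp_nat (Q.1 z)
  refine ⟨T.sup e, fun m hm Q => ?_⟩
  rw [Finsupp.smul_apply, sum_single_apply]
  by_cases hQ : Q ∈ T
  · rw [if_pos hQ]
    refine (he Q).trans ?_
    rw [exp_le_exp]
    have h1 : e Q ≤ T.sup e := Finset.le_sup hQ
    have h2 : ((e Q : ℕ) : ℤ) ≤ m := by exact_mod_cast h1.trans hm
    simpa using h2
  · rw [if_neg hQ]
    simpa using hz Q hQ

lemma finite_poles (hK : IsFunctionField k K) {ι : Type*} [Finite ι] (r : ι → K) :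
    {Q : Place k K | ∃ i, 1 < Q.1 (r i)}.Finite := by
  have : {Q : Place k K | ∃ i, 1 < Q.1 (r i)} = ⋃ i, {Q : Place k K | 1 < Q.1 (r i)} := by
    ext Q
    simp
  rw [this]
  refine Set.finite_iUnion fun i => ?_
  refine (finite_support_ord hK (r i)).subset ?_
  intro Q hQ
  rw [Function.mem_support]
  have hx : r i ≠ 0 := by
    intro h
    have hQ' : 1 < Q.1 (r i) := hQ
    rw [h, map_zero] at hQ'
    exact absurd hQ' (by simp)
  have := (one_lt_val_iff Q hx).1 hQ
  omega

/-- **Conductor**: a finitely generated subalgebra `A = k[r₁, …, rₙ]` of `K` with fraction field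
`K` has a nonzero element `c` with `c · B ⊆ A`, where `B` is the ring of functions regular at all
places at which all the `rᵢ` are regular (the integral closure of `A`). -/
theorem exists_conductor [IsAlgClosed k] (hK : IsFunctionField k K) {ι : Type*} [Finite ι]
    (r : ι → K) (hfrac : IntermediateField.adjoin k (Set.range r) = ⊤) :
    ∃ c ∈ Algebra.adjoin k (Set.range r), c ≠ 0 ∧
      ∀ z : K, (∀ Q : Place k K, (∀ i, Q.1 (r i) ≤ 1) → Q.1 z ≤ 1) →
        c * z ∈ Algebra.adjoin k (Set.range r) := by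
  classical
  set A := Algebra.adjoin k (Set.range r) with hA
  set T := (finite_poles hK r).toFinset with hTdef
  have hT : ∀ Q ∈ T, ∃ i, 1 < Q.1 (r i) := by
    intro Q hQ
    rw [hTdef, Set.Finite.mem_toFinset] at hQ
    exact hQ
  have hT' : ∀ Q : Place k K, Q ∉ T → ∀ i, Q.1 (r i) ≤ 1 := by
    intro Q hQ i
    by_contra h
    apply hQ
    rw [hTdef, Set.Finite.mem_toFinset]
    exact ⟨i, not_le.1 h⟩
  set D : Divisor k K := ∑ Q ∈ T, Finsupp.single Q 1 with hD
  obtain ⟨m₀, hm₀⟩ := step hK r T hT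
  have hall : ∀ m : ℕ, m₀ ≤ m → L (m • D) ≤ A.toSubmodule * L (m₀ • D) := by
    intro m hm
    induction m, hm using Nat.le_induction with
    | base =>
      intro z hz
      have h1 : (1 : K) ∈ A.toSubmodule := Subalgebra.one_mem A
      have := Submodule.mul_mem_mul h1 hz
      rwa [one_mul] at this
    | succ m hm ih =>
      refine (hm₀ m hm).trans ?_
      refine le_trans ?_ (mul_mul_le A (L (m₀ • D)))
      exact mul_le_mul' le_rfl ih
  -- generators of `L (m₀ • D)`
  have hfd := finiteDimensional_L hK (m₀ • D)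
  obtain ⟨S, hS⟩ := (Submodule.fg_iff_finiteDimensional (L (m₀ • D))).2 hfd
  have hden : ∀ b : K, ∃ c ∈ A, c ≠ 0 ∧ c * b ∈ A := by
    intro b
    have hb : b ∈ IntermediateField.adjoin k (Set.range r) := by
      rw [hfrac]; trivial
    obtain ⟨u, hu, v, hv, rfl⟩ := IntermediateField.mem_adjoin_iff_div.1 hb
    by_cases hv0 : v = 0
    · refine ⟨1, Subalgebra.one_mem A, one_ne_zero, ?_⟩
      rw [hv0, div_zero, mul_zero]
      exact Subalgebra.zero_mem A
    · refine ⟨v, hv, hv0, ?_⟩
      rw [mul_div_cancel₀ u hv0]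
      exact hu
  choose cb hcbA hcb0 hcbmul using hden
  refine ⟨∏ b ∈ S, cb b, Subalgebra.prod_mem A (fun b _ => hcbA b),
    Finset.prod_ne_zero_iff.2 (fun b _ => hcb0 b), ?_⟩
  have h1 : ∀ y ∈ L (m₀ • D), (∏ b ∈ S, cb b) * y ∈ A := by
    intro y hy
    rw [← hS] at hy
    induction hy using Submodule.span_induction with
    | mem b hb =>
      have hb' : b ∈ S := hb
      rw [← Finset.prod_erase_mul S cb hb', mul_assoc]
      exact A.mul_mem (Subalgebra.prod_mem A (fun b _ => hcbA b)) (hcbmul b)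
    | zero => rw [mul_zero]; exact Subalgebra.zero_mem A
    | add x y _ _ hx hy => rw [mul_add]; exact A.add_mem hx hy
    | smul a x _ hx => rw [mul_smul_comm]; exact Subalgebra.smul_mem A hx a
  have h2 : ∀ y ∈ A.toSubmodule * L (m₀ • D), (∏ b ∈ S, cb b) * y ∈ A := by
    intro y hy
    refine Submodule.mul_induction_on hy ?_ ?_
    · intro a ha l hl
      have e : (∏ b ∈ S, cb b) * (a * l) = a * ((∏ b ∈ S, cb b) * l) := by ring
      rw [e]
      exact A.mul_mem ha (h1 l hl)
    · intro x y hx hy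
      rw [mul_add]
      exact A.add_mem hx hy
  intro z hz
  have hz' : ∀ Q : Place k K, Q ∉ T → Q.1 z ≤ 1 := fun Q hQ => hz Q (hT' Q hQ)
  obtain ⟨m₁, hm₁⟩ := exists_mem_L_nsmul T z hz'
  exact h2 z (hall (max m₀ m₁) (le_max_left _ _) (hm₁ _ (le_max_right _ _)))

end Groth.Agent.Lib.Helper34.FunFldCond
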