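import Groth.Agent.Lib.Helper34.FunFldNonsing2
import Mathlib.FieldTheory.PurelyInseparable.PerfectClosure
import Mathlib.FieldTheory.PurelyInseparable.Basic
import Mathlib.FieldTheory.SeparableClosure

/-!
# Uniqueness of the place above `P` in a constant field extension when `k'/k` or `F_P/k` is purely
inseparable (helper34)
-/

set_option autoImplicit false

namespace Groth.Agent.Lib.Helper34.FunFldInsepUnique

open FunFld WithZero Groth.Agent.Lib.Helper88 Groth.Agent.Lib.Helper88.FF
  Groth.Agent.Lib.Helper44.FFExt Groth.Agent.Lib.Helper34.FunFldIntFin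
  Groth.Agent.Lib.Helper34.FunFldNormOrd Groth.Agent.Lib.Helper34.FunFldNonsing
open scoped TensorProduct

section generic

variable {k k' K K' : Type*} [Field k] [Field k'] [Field K] [Field K']
  [Algebra k k'] [Algebra k K] [Algebra K K'] [Algebra k' K'] [Algebra k K']
  [IsScalarTower k k' K'] [IsScalarTower k K K']

/-- Two places agreeing (in the sense of `≤ 1`) on a set `L` containing a `q`-power of every
element are equal. -/
theorem place_eq_of_pow_mem (q : ℕ) (hq : 0 < q) (L : Set K') (Q₁ Q₂ : Place k K')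
    (hL : ∀ x : K', ∃ n : ℕ, x ^ q ^ n ∈ L) (h12 : ∀ x ∈ L, Q₁.1 x ≤ 1 → Q₂.1 x ≤ 1) :
    Q₁ = Q₂ := by
  apply place_eq_of_le
  intro x hx
  obtain ⟨n, hn⟩ := hL x
  have h1 : Q₁.1 (x ^ q ^ n) ≤ 1 := by
    rw [map_pow]
    exact pow_le_one₀ zero_le' hx
  have h2 := h12 _ hn h1
  rw [map_pow] at h2
  by_contra hcon
  push Not at hcon
  exact absurd h2 (not_le.2 (one_lt_pow₀ hcon (pow_pos hq n).ne'))

lemma val_const_le_one [Algebra.IsIntegral k k'] (Q : Place k K') (c : k') :
    Q.1 (algebraMap k' K' c) ≤ 1 :=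
  val_le_one_of_isIntegral Q.1 Q.2.1
    ((Algebra.IsIntegral.isIntegral c).map (IsScalarTower.toAlgHom k k' K'))

lemma val_const_eq_one [Algebra.IsIntegral k k'] (Q : Place k K') {c : k'} (hc : c ≠ 0) :
    Q.1 (algebraMap k' K' c) = 1 := by
  apply val_eq_one_of_le_of_inv_le ((map_ne_zero _).2 hc) (val_const_le_one Q c)
  rw [← map_inv₀]
  exact val_const_le_one Q c⁻¹

/-- The `K`-span of the constants `c_j`. -/
def Lspan {ι : Type*} (c : ι → k') : Submodule K K' :=
  Submodule.span K (Set.range (fun j => algebraMap k' K' (c j)))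

lemma algebraMap_mem_Lspan {ι : Type*} (c : ι → k') {s : k'}
    (hs : s ∈ Submodule.span k (Set.range c)) : algebraMap k' K' s ∈ Lspan (K := K) (K' := K') c := by
  induction hs using Submodule.span_induction with
  | mem x hx =>
    obtain ⟨j, rfl⟩ := hx
    exact Submodule.subset_span ⟨j, rfl⟩
  | zero => rw [map_zero]; exact Submodule.zero_mem _
  | add x y _ _ hx hy => rw [map_add]; exact Submodule.add_mem _ hx hy
  | smul a x _ hx =>
    have : algebraMap k' K' (a • x) = (algebraMap k K a) • algebraMap k' K' x := by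
      rw [Algebra.smul_def, map_mul, ← IsScalarTower.algebraMap_apply k k' K',
        IsScalarTower.algebraMap_apply k K K', Algebra.smul_def]
    rw [this]
    exact Submodule.smul_mem _ _ hx

/-- `L` is closed under `q^n`-th powers when the `c_j ^ q ^ n` stay in the `k`-span of `c`. -/
lemma pow_mem_Lspan {ι : Type*} (c : ι → k') (q : ℕ) [ExpChar K' q]
    (H2 : ∀ j n, c j ^ q ^ n ∈ Submodule.span k (Set.range c)) {x : K'}
    (hx : x ∈ Lspan (K := K) (K' := K') c) (n : ℕ) : x ^ q ^ n ∈ Lspan (K := K) (K' := K') c := by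
  induction hx using Submodule.span_induction with
  | mem x hx =>
    obtain ⟨j, rfl⟩ := hx
    rw [← map_pow]
    exact algebraMap_mem_Lspan c (H2 j n)
  | zero =>
    rw [zero_pow (pow_pos (expChar_pos K' q) n).ne']
    exact Submodule.zero_mem _
  | add x y _ _ hx hy =>
    rw [add_pow_expChar_pow]
    exact Submodule.add_mem _ hx hy
  | smul a x _ hx =>
    rw [Algebra.smul_def, mul_pow, ← map_pow, ← Algebra.smul_def]
    exact Submodule.smul_mem _ _ hx

/-- Every element of `K' = k' K` has a `q`-power in `L`. -/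
theorem exists_pow_mem_Lspan {ι : Type*} (c : ι → k') (q : ℕ) [ExpChar K' q]
    (hsurj : Function.Surjective (Algebra.TensorProduct.productMap
      (IsScalarTower.toAlgHom k k' K') (IsScalarTower.toAlgHom k K K')))
    (H1 : ∀ x : k', ∃ n, x ^ q ^ n ∈ Submodule.span k (Set.range c))
    (H2 : ∀ j n, c j ^ q ^ n ∈ Submodule.span k (Set.range c)) (x : K') :
    ∃ n, x ^ q ^ n ∈ Lspan (K := K) (K' := K') c := by
  obtain ⟨τ, rfl⟩ := hsurj x
  induction τ using TensorProduct.induction_on with
  | zero =>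
    refine ⟨0, ?_⟩
    rw [map_zero, pow_zero, pow_one]
    exact Submodule.zero_mem _
  | tmul a y =>
    obtain ⟨n, hn⟩ := H1 a
    refine ⟨n, ?_⟩
    rw [Algebra.TensorProduct.productMap_apply_tmul]
    show (algebraMap k' K' a * algebraMap K K' y) ^ q ^ n ∈ _
    rw [mul_pow, ← map_pow, ← map_pow, mul_comm, ← Algebra.smul_def]
    exact Submodule.smul_mem _ _ (algebraMap_mem_Lspan c hn)
  | add x y hx hy =>
    obtain ⟨n, hn⟩ := hx
    obtain ⟨m, hm⟩ := hy
    refine ⟨n + m, ?_⟩
    rw [map_add, add_pow_expChar_pow]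
    refine Submodule.add_mem _ ?_ ?_
    · rw [pow_add, pow_mul]
      exact pow_mem_Lspan c q H2 hn m
    · rw [add_comm n m, pow_add, pow_mul]
      exact pow_mem_Lspan c q H2 hm n

variable (P : Place k K)

/-- Hypothesis (A): a normalised `O_P`-combination of the constants `c_j` is a `Q`-unit. -/
def HA (Q : Place k K') {ι : Type*} [Fintype ι] (c : ι → k') : Prop :=
  ∀ y : ι → K, (∀ j, P.1 (y j) ≤ 1) → (∃ j, P.1 (y j) = 1) →
    Q.1 (∑ j, y j • algebraMap k' K' (c j)) = 1

lemma le_one_of_sum_le_one {Q : Place k K'} (hQP : IsOver Q P) {ι : Type*} [Fintype ι]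
    (c : ι → k') (hA : HA P Q c) (y : ι → K)
    (h : Q.1 (∑ j, y j • algebraMap k' K' (c j)) ≤ 1) : ∀ j, P.1 (y j) ≤ 1 := by
  classical
  by_contra hcon
  push Not at hcon
  obtain ⟨j₁, hj₁⟩ := hcon
  obtain ⟨j₀, -, hj₀⟩ := Finset.exists_max_image Finset.univ (fun j => P.1 (y j))
    ⟨j₁, Finset.mem_univ _⟩
  have hgt : 1 < P.1 (y j₀) := lt_of_lt_of_le hj₁ (hj₀ j₁ (Finset.mem_univ _))
  have h0 : y j₀ ≠ 0 := by
    intro h0
    rw [h0, map_zero] at hgt
    exact absurd hgt (by simp)
  have hpos : 0 < P.1 (y j₀) := zero_lt_iff.2 ((Valuation.ne_zero_iff _).2 h0)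
  have h1 := hA (fun j => (y j₀)⁻¹ * y j) (fun j => by
    rw [map_mul, map_inv₀, inv_mul_le_iff₀ hpos, mul_one]
    exact hj₀ j (Finset.mem_univ _)) ⟨j₀, by rw [inv_mul_cancel₀ h0, map_one]⟩
  have h2 : ∑ j, ((y j₀)⁻¹ * y j) • algebraMap k' K' (c j) =
      algebraMap K K' (y j₀)⁻¹ * ∑ j, y j • algebraMap k' K' (c j) := by
    rw [Finset.mul_sum]
    apply Finset.sum_congr rfl
    intro j _
    rw [mul_smul, Algebra.smul_def (y j₀)⁻¹]
  rw [h2, map_mul, val_algebraMap_of_isOver hQP, map_inv₀] at h1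
  have h3 : (1 : ℤᵐ⁰) < P.1 (y j₀) ^ ramIdx Q P := one_lt_pow₀ hgt (ramIdx_pos hQP).ne'
  have h4 : ((P.1 (y j₀))⁻¹ ^ ramIdx Q P) * Q.1 (∑ j, y j • algebraMap k' K' (c j)) ≤
      (P.1 (y j₀))⁻¹ ^ ramIdx Q P * 1 := mul_le_mul' le_rfl h
  rw [h1, mul_one, inv_pow] at h4
  have h5 : (P.1 (y j₀) ^ ramIdx Q P)⁻¹ < 1 := inv_lt_one_of_one_lt₀ h3
  exact absurd h4 (not_le.2 h5)

lemma sum_le_one [Algebra.IsIntegral k k'] {Q : Place k K'} (hQP : IsOver Q P) {ι : Type*}
    [Fintype ι] (c : ι → k') (y : ι → K) (hy : ∀ j, P.1 (y j) ≤ 1) :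
    Q.1 (∑ j, y j • algebraMap k' K' (c j)) ≤ 1 := by
  apply Valuation.map_sum_le
  intro j _
  rw [Algebra.smul_def, map_mul]
  exact mul_le_one' (val_algebraMap_le_one hQP (hy j)) (val_const_le_one Q (c j))

/-- Uniqueness of the place over `P` from hypothesis (A). -/
theorem unique_of_HA [Algebra.IsIntegral k k'] (q : ℕ) [ExpChar K' q]
    (hsurj : Function.Surjective (Algebra.TensorProduct.productMap
      (IsScalarTower.toAlgHom k k' K') (IsScalarTower.toAlgHom k K K')))
    {ι : Type*} [Fintype ι] (c : ι → k')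
    (H1 : ∀ x : k', ∃ n, x ^ q ^ n ∈ Submodule.span k (Set.range c))
    (H2 : ∀ j n, c j ^ q ^ n ∈ Submodule.span k (Set.range c))
    {Q₁ Q₂ : Place k K'} (h₁ : IsOver Q₁ P) (h₂ : IsOver Q₂ P) (hA : HA P Q₁ c) : Q₁ = Q₂ := by
  refine place_eq_of_pow_mem q (expChar_pos K' q) (Lspan (K := K) (K' := K') c : Set K') Q₁ Q₂
    (exists_pow_mem_Lspan c q hsurj H1 H2) ?_
  intro x hx hx1
  obtain ⟨y, rfl⟩ := (Submodule.mem_span_range_iff_exists_fun K).1 hx
  exact sum_le_one P h₂ c y (le_one_of_sum_le_one P h₁ c hA y hx1)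

end generic

section cases

variable {k k' K K' : Type*} [Field k] [Field k'] [Field K] [Field K']
  [Algebra k k'] [Algebra k K] [Algebra K K'] [Algebra k' K'] [Algebra k K']
  [IsScalarTower k k' K'] [IsScalarTower k K K'] (P : Place k K)

lemma algebraMap_smul_const (a : k) (x : k') :
    algebraMap k' K' (a • x) = (algebraMap k K a) • algebraMap k' K' x := by
  rw [Algebra.smul_def, map_mul, ← IsScalarTower.algebraMap_apply k k' K',
    IsScalarTower.algebraMap_apply k K K', Algebra.smul_def]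

/-- Case 1: `k'/k` purely inseparable. -/
theorem unique_of_pi_const [Algebra.IsIntegral k k'] [IsPurelyInseparable k k']
    (hsurj : Function.Surjective (Algebra.TensorProduct.productMap
      (IsScalarTower.toAlgHom k k' K') (IsScalarTower.toAlgHom k K K')))
    {Q₁ Q₂ : Place k K'} (h₁ : IsOver Q₁ P) (h₂ : IsOver Q₂ P) : Q₁ = Q₂ := by
  haveI : ExpChar K' (ringExpChar k) :=
    expChar_of_injective_algebraMap (algebraMap k K').injective (ringExpChar k)
  refine unique_of_HA P (ringExpChar k) hsurj (fun _ : Unit => (1 : k')) ?_ ?_ h₁ h₂ ?_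
  · intro x
    obtain ⟨n, d, hd⟩ := IsPurelyInseparable.pow_mem k (ringExpChar k) x
    refine ⟨n, ?_⟩
    rw [← hd, Algebra.algebraMap_eq_smul_one]
    exact Submodule.smul_mem _ _ (Submodule.subset_span ⟨(), rfl⟩)
  · intro j n
    rw [one_pow]
    exact Submodule.subset_span ⟨(), rfl⟩
  · intro y _ hy
    obtain ⟨j, hj⟩ := hy
    rw [Fintype.sum_unique, map_one, Algebra.smul_def, mul_one, val_algebraMap_of_isOver h₁]
    have : (default : Unit) = j := rfl
    rw [this, hj, one_pow]

/-- Hypothesis (A) when `F_P/k` is purely inseparable and the `c_j` are separable and linearly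
independent over `k`. -/
theorem HA_of_pi_residue [Algebra.IsIntegral k k']
    [IsPurelyInseparable k (IsLocalRing.ResidueField P.O)]
    (q : ℕ) [ExpChar k q] [ExpChar K q] [ExpChar K' q] [ExpChar k' q] {Q : Place k K'}
    (hQP : IsOver Q P) {ι : Type*} [Fintype ι] (c : ι → k')
    (hsep : ∀ j, IsSeparable k (c j)) (hli : LinearIndependent k c) : HA P Q c := by
  classical
  rintro y hy ⟨j₀, hj₀⟩
  have hres : ∀ r : P.O, ∃ (n : ℕ) (d : k), P.1 ((r : K) ^ q ^ n - algebraMap k K d) < 1 := by
    intro r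
    obtain ⟨n, d, hd⟩ := IsPurelyInseparable.pow_mem k q (IsLocalRing.residue P.O r)
    refine ⟨n, d, ?_⟩
    have h1 : IsLocalRing.residue P.O (r ^ q ^ n - algebraMap k P.O d) = 0 := by
      rw [map_sub, map_pow, ← hd]
      exact sub_self _
    rw [IsLocalRing.residue_eq_zero_iff, Valuation.mem_maximalIdeal_iff] at h1
    exact h1
  choose n d hnd using fun j => hres ⟨y j, hy j⟩
  obtain ⟨N, hN⟩ : ∃ N : ℕ, N = Finset.univ.sup n := ⟨_, rfl⟩
  have hunif : ∀ j, P.1 (y j ^ q ^ N - algebraMap k K (d j ^ q ^ (N - n j))) < 1 := by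
    intro j
    have hle : n j ≤ N := hN ▸ Finset.le_sup (Finset.mem_univ j)
    have h1 : y j ^ q ^ N - algebraMap k K (d j ^ q ^ (N - n j)) =
        (y j ^ q ^ n j - algebraMap k K (d j)) ^ q ^ (N - n j) := by
      rw [sub_pow_expChar_pow, ← pow_mul, ← pow_add, Nat.add_sub_of_le hle, map_pow]
    rw [h1, map_pow]
    exact pow_lt_one₀ zero_le' (hnd j) (pow_pos (expChar_pos K q) _).ne'
  obtain ⟨d', hd'⟩ : ∃ d' : ι → k, ∀ j, d' j = d j ^ q ^ (N - n j) := ⟨_, fun _ => rfl⟩
  simp only [← hd'] at hunif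
  have hd0 : d' j₀ ≠ 0 := by
    intro h0
    have := hunif j₀
    rw [h0, map_zero, sub_zero, map_pow, hj₀, one_pow] at this
    exact lt_irrefl _ this
  -- the power of the sum
  have hpow : (∑ j, y j • algebraMap k' K' (c j)) ^ q ^ N =
      algebraMap k' K' (∑ j, d' j • c j ^ q ^ N) +
      ∑ j, (y j ^ q ^ N - algebraMap k K (d' j)) • algebraMap k' K' (c j ^ q ^ N) := by
    rw [sum_pow_char_pow, map_sum, ← Finset.sum_add_distrib]
    apply Finset.sum_congr rfl
    intro j _
    rw [smul_pow, algebraMap_smul_const (K := K) (K' := K') (d' j) (c j ^ q ^ N), sub_smul,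
      map_pow]
    abel
  have hσ0 : ∑ j, d' j • c j ^ q ^ N ≠ 0 := by
    intro h0
    have hli' := hli.map_pow_expChar_pow_of_isSeparable' q N hsep
    exact hd0 (Fintype.linearIndependent_iff.1 hli' d' h0 j₀)
  have hσ : Q.1 (algebraMap k' K' (∑ j, d' j • c j ^ q ^ N)) = 1 := val_const_eq_one Q hσ0
  have hρ : Q.1 (∑ j, (y j ^ q ^ N - algebraMap k K (d' j)) • algebraMap k' K' (c j ^ q ^ N)) < 1 := by
    apply Valuation.map_sum_lt Q.1 one_ne_zero
    intro j _
    rw [Algebra.smul_def, map_mul, val_algebraMap_of_isOver hQP]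
    have h1 : P.1 (y j ^ q ^ N - algebraMap k K (d' j)) ^ ramIdx Q P < 1 :=
      pow_lt_one₀ zero_le' (hunif j) (ramIdx_pos hQP).ne'
    calc _ ≤ P.1 (y j ^ q ^ N - algebraMap k K (d' j)) ^ ramIdx Q P * 1 :=
          mul_le_mul' le_rfl (val_const_le_one Q _)
      _ = _ := mul_one _
      _ < 1 := h1
  have hval : Q.1 ((∑ j, y j • algebraMap k' K' (c j)) ^ q ^ N) = 1 := by
    rw [hpow, Valuation.map_add_eq_of_lt_left Q.1 (by rw [hσ]; exact hρ), hσ]
  rw [map_pow] at hval
  have hqN : q ^ N ≠ 0 := (pow_pos (expChar_pos K q) N).ne'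
  rcases lt_trichotomy (Q.1 (∑ j, y j • algebraMap k' K' (c j))) 1 with h | h | h
  · exact absurd hval (ne_of_lt (pow_lt_one₀ zero_le' h hqN))
  · exact h
  · exact absurd hval (ne_of_gt (one_lt_pow₀ h hqN))

end cases

section final

universe u v

variable {k k' : Type u} {K K' : Type v} [Field k] [Field k'] [Field K] [Field K']
  [Algebra k k'] [FiniteDimensional k k'] [Algebra k K] [Algebra K K'] [Algebra k' K']
  [Algebra k K'] [IsScalarTower k k' K'] [IsScalarTower k K K'] (P : Place k K)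

/-- Case 2: `F_P/k` purely inseparable. -/
theorem unique_of_pi_residue [IsPurelyInseparable k (IsLocalRing.ResidueField P.O)]
    (hsurj : Function.Surjective (Algebra.TensorProduct.productMap
      (IsScalarTower.toAlgHom k k' K') (IsScalarTower.toAlgHom k K K')))
    {Q₁ Q₂ : Place k K'} (h₁ : IsOver Q₁ P) (h₂ : IsOver Q₂ P) : Q₁ = Q₂ := by
  classical
  obtain ⟨q, hq⟩ := ExpChar.exists k
  haveI := hq
  haveI : ExpChar K q := expChar_of_injective_algebraMap (algebraMap k K).injective q
  haveI : ExpChar K' q := expChar_of_injective_algebraMap (algebraMap k K').injective q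
  haveI : ExpChar k' q := expChar_of_injective_algebraMap (algebraMap k k').injective q
  haveI : ExpChar (separableClosure k k') q :=
    expChar_of_injective_algebraMap (algebraMap k (separableClosure k k')).injective q
  obtain ⟨b, hb⟩ : ∃ b : Module.Basis (Fin (Module.finrank k (separableClosure k k'))) k
      (separableClosure k k'), b = Module.finBasis k (separableClosure k k') := ⟨_, rfl⟩
  obtain ⟨c, hc⟩ : ∃ c : Fin (Module.finrank k (separableClosure k k')) → k',
      c = fun j => ((b j : separableClosure k k') : k') := ⟨_, rfl⟩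
  have hcj : ∀ j, c j = ((b j : separableClosure k k') : k') := fun j => by rw [hc]
  have hcoe : ∀ s : separableClosure k k', (s : k') ∈ Submodule.span k (Set.range c) := by
    intro s
    have h1 : (s : k') = ∑ j, b.repr s j • c j := by
      have h2 : (separableClosure k k').val (∑ j, b.repr s j • b j) =
          (separableClosure k k').val s := by rw [b.sum_repr]
      rw [map_sum] at h2
      simp only [map_smul] at h2
      simp only [hcj]
      exact h2.symm
    rw [h1]
    exact Submodule.sum_mem _ (fun j _ =>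
      Submodule.smul_mem _ _ (Submodule.subset_span ⟨j, rfl⟩))
  refine unique_of_HA P q hsurj c ?_ ?_ h₁ h₂ ?_
  · intro x
    obtain ⟨n, s, hs⟩ := IsPurelyInseparable.pow_mem (separableClosure k k') q x
    exact ⟨n, hs ▸ hcoe s⟩
  · intro j n
    have := hcoe (b j ^ q ^ n)
    rw [hcj j]
    exact this
  · apply HA_of_pi_residue P q h₁ c
    · intro j
      rw [hcj j]
      exact mem_separableClosure_iff.1 (b j).2
    · have := b.linearIndependent.map' (separableClosure k k').val.toLinearMap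
        (LinearMap.ker_eq_bot_of_injective (separableClosure k k').val.injective)
      rw [hc]
      exact this

/-- **Uniqueness of the place above `P`** when `k'/k` or `F_P/k` is purely inseparable. -/
theorem existsUnique_isOver
    (h : Function.Bijective (Algebra.TensorProduct.productMap
      (IsScalarTower.toAlgHom k k' K') (IsScalarTower.toAlgHom k K K')))
    (hK : IsFunctionField k K)
    (hpi : IsPurelyInseparable k k' ∨ IsPurelyInseparable k (IsLocalRing.ResidueField P.O)) :
    ∃! Q : Place k K', IsOver Q P := by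
  haveI : Module.Finite K K' := (Groth.Agent.S11006.finrank_K' k k' K K' h).1
  obtain ⟨Q, hQ⟩ := exists_isOver_above (K' := K') hK P
  refine ⟨Q, hQ, fun Q' hQ' => ?_⟩
  rcases hpi with hpi | hpi
  · exact unique_of_pi_const P h.2 hQ' hQ
  · exact unique_of_pi_residue P h.2 hQ' hQ

end final

end Groth.Agent.Lib.Helper34.FunFldInsepUnique
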