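import Groth.Agent.Lib.Helper34.FunFldNormOrd
import Mathlib.RingTheory.TensorProduct.Basic
import Mathlib.RingTheory.TensorProduct.Maps
import Mathlib.LinearAlgebra.TensorProduct.RightExactness
import Mathlib.RingTheory.Unramified.Field
import Mathlib.RingTheory.Polynomial.ScaleRoots
import Mathlib.RingTheory.Flat.Basic

/-!
# Constant field extensions: `O_P[k']` versus the integral closure of `O_P` in `k' ⊗ K` (helper34)
-/

set_option autoImplicit false

namespace Groth.Agent.Lib.Helper34.FunFldNonsing

open FunFld WithZero Groth.Agent.Lib.Helper88 Groth.Agent.Lib.Helper88.FF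
  Groth.Agent.Lib.Helper34.FunFldNormOrd
open scoped TensorProduct

variable {k k' K K' : Type*} [Field k] [Field k'] [Field K] [Field K']
  [Algebra k k'] [Algebra k K] [Algebra K K'] [Algebra k' K'] [Algebra k K']
  [IsScalarTower k k' K'] [IsScalarTower k K K']

/-- The inclusion `O_P → K` as a `k`-algebra map. -/
def inclO (P : Place k K) : P.O →ₐ[k] K :=
  { P.O.subtype with commutes' := fun _ => rfl }

lemma inclO_apply (P : Place k K) (r : P.O) : inclO P r = (r : K) := rfl

/-- The residue map `O_P → F_P` as a `k`-algebra map. -/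
noncomputable def resAlg (P : Place k K) : P.O →ₐ[k] IsLocalRing.ResidueField P.O :=
  { IsLocalRing.residue P.O with commutes' := fun _ => rfl }

lemma resAlg_apply (P : Place k K) (r : P.O) : resAlg P r = IsLocalRing.residue P.O r := rfl

/-- `O_P → K'`. -/
noncomputable def f₂ (P : Place k K) : P.O →ₐ[k] K' :=
  (IsScalarTower.toAlgHom k K K').comp (inclO P)

lemma f₂_apply (P : Place k K) (r : P.O) : f₂ (K' := K') P r = algebraMap K K' (r : K) := rfl

/-- The canonical map `k' ⊗ O_P → K'`. -/
noncomputable def iota (P : Place k K) : k' ⊗[k] P.O →ₐ[k] K' :=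
  Algebra.TensorProduct.productMap (IsScalarTower.toAlgHom k k' K') (f₂ P)

lemma iota_tmul (P : Place k K) (c : k') (r : P.O) :
    iota (K' := K') P (c ⊗ₜ r) = algebraMap k' K' c * algebraMap K K' (r : K) := rfl

/-- `iota` is injective when `k' ⊗ K → K'` is. -/
theorem iota_injective (P : Place k K)
    (h : Function.Injective (Algebra.TensorProduct.productMap
      (IsScalarTower.toAlgHom k k' K') (IsScalarTower.toAlgHom k K K'))) :
    Function.Injective (iota (k' := k') (K' := K') P) := by
  have h1 : ∀ x : k' ⊗[k] P.O, iota (K' := K') P x =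
      Algebra.TensorProduct.productMap (IsScalarTower.toAlgHom k k' K')
        (IsScalarTower.toAlgHom k K K') (LinearMap.lTensor k' (inclO P).toLinearMap x) := by
    intro x
    induction x using TensorProduct.induction_on with
    | zero => simp
    | tmul c r => rfl
    | add x y hx hy => rw [map_add, map_add, map_add, hx, hy]
  have h2 : Function.Injective (LinearMap.lTensor k' (inclO P).toLinearMap) :=
    Module.Flat.lTensor_preserves_injective_linearMap _ (fun a b hab => Subtype.ext hab)
  intro x y hxy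
  rw [h1, h1] at hxy
  exact h2 (h hxy)

section range

variable (P : Place k K) [Algebra P.O K'] [IsScalarTower P.O K K']

lemma algebraMap_O_apply (r : P.O) : algebraMap P.O K' r = algebraMap K K' (r : K) := by
  rw [IsScalarTower.algebraMap_apply P.O K K']
  rfl

/-- `O_P[k']` is the image of `iota`. -/
theorem mem_adjoin_iff (x : K') :
    x ∈ Algebra.adjoin P.O (Set.range (algebraMap k' K')) ↔
      ∃ τ : k' ⊗[k] P.O, iota (K' := K') P τ = x := by
  constructor
  · intro hx
    induction hx using Algebra.adjoin_induction with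
    | mem x hx =>
      obtain ⟨c, rfl⟩ := hx
      exact ⟨c ⊗ₜ 1, by rw [iota_tmul]; simp⟩
    | algebraMap r =>
      exact ⟨1 ⊗ₜ r, by rw [iota_tmul, algebraMap_O_apply]; simp⟩
    | add x y _ _ hx hy =>
      obtain ⟨a, rfl⟩ := hx
      obtain ⟨b, rfl⟩ := hy
      exact ⟨a + b, map_add _ _ _⟩
    | mul x y _ _ hx hy =>
      obtain ⟨a, rfl⟩ := hx
      obtain ⟨b, rfl⟩ := hy
      exact ⟨a * b, map_mul _ _ _⟩
  · rintro ⟨τ, rfl⟩
    induction τ using TensorProduct.induction_on with
    | zero => rw [map_zero]; exact Subalgebra.zero_mem _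
    | tmul c r =>
      rw [iota_tmul, ← algebraMap_O_apply]
      exact Subalgebra.mul_mem _ (Algebra.subset_adjoin ⟨c, rfl⟩) (Subalgebra.algebraMap_mem _ r)
    | add x y hx hy => rw [map_add]; exact Subalgebra.add_mem _ hx hy

end range

section reduced

attribute [-instance] IsLocalRing.ResidueField.algebra IsLocalRing.instModuleResidueFieldOfAlgebra

variable (P : Place k K)

/-- `id ⊗ residue : k' ⊗ O_P → k' ⊗ F_P`. -/
noncomputable def rho : k' ⊗[k] P.O →ₐ[k] k' ⊗[k] IsLocalRing.ResidueField P.O :=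
  Algebra.TensorProduct.map (AlgHom.id k k') (resAlg P)

lemma ker_resAlg {t : P.O} (ht : P.1 (t : K) = exp (-1 : ℤ)) :
    RingHom.ker (resAlg P) = Ideal.span {t} := by
  have ht0 : t ≠ 0 := by
    intro h
    rw [h, ZeroMemClass.coe_zero, map_zero] at ht
    exact exp_ne_zero ht.symm
  ext x
  rw [RingHom.mem_ker, resAlg_apply, IsLocalRing.residue_eq_zero_iff,
    Valuation.mem_maximalIdeal_iff, mem_span_singleton_iff P ht0, ht, lt_one_iff_le_exp_neg_one]

theorem ker_rho {t : P.O} (ht : P.1 (t : K) = exp (-1 : ℤ)) :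
    RingHom.ker (rho (k' := k') P) = Ideal.span {(1 : k') ⊗ₜ[k] t} := by
  have hsurj : Function.Surjective (resAlg P) := IsLocalRing.residue_surjective
  have := Algebra.TensorProduct.lTensor_ker (A := k') (resAlg P) hsurj
  rw [rho, this, ker_resAlg P ht, Ideal.map_span, Set.image_singleton]
  rfl

/-- `k' ⊗ F_P` is reduced when `F_P/k` is separable (and finite). -/
theorem isReduced_tensor (hK : IsFunctionField k K)
    [Algebra.IsSeparable k (IsLocalRing.ResidueField P.O)] :
    IsReduced (k' ⊗[k] IsLocalRing.ResidueField P.O) := by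
  haveI : Module.Finite k (IsLocalRing.ResidueField P.O) := finiteDimensional_residueField hK P
  haveI : Algebra.FormallyUnramified k (IsLocalRing.ResidueField P.O) :=
    Algebra.FormallyUnramified.of_isSeparable k _
  exact Algebra.FormallyUnramified.isReduced_of_field k' (k' ⊗[k] IsLocalRing.ResidueField P.O)

/-- Key consequence: an element of `k' ⊗ O_P` some power of which is divisible by `t` is itself
divisible by `t`. -/
theorem dvd_of_pow_dvd (hK : IsFunctionField k K)
    [Algebra.IsSeparable k (IsLocalRing.ResidueField P.O)]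
    {t : P.O} (ht : P.1 (t : K) = exp (-1 : ℤ)) (τ : k' ⊗[k] P.O) (m : ℕ)
    (h : τ ^ m ∈ Ideal.span {(1 : k') ⊗ₜ[k] t}) : τ ∈ Ideal.span {(1 : k') ⊗ₜ[k] t} := by
  haveI := isReduced_tensor (k' := k') P hK
  rw [← ker_rho P ht, RingHom.mem_ker] at h ⊢
  rw [map_pow] at h
  exact IsNilpotent.eq_zero ⟨m, h⟩

end reduced

section main

attribute [-instance] IsLocalRing.ResidueField.algebra IsLocalRing.instModuleResidueFieldOfAlgebra

open Polynomial

variable (P : Place k K) [Algebra P.O K'] [IsScalarTower P.O K K']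

/-- `O_P → k' ⊗ O_P`. -/
noncomputable def incR : P.O →+* k' ⊗[k] P.O :=
  (Algebra.TensorProduct.includeRight : P.O →ₐ[k] k' ⊗[k] P.O).toRingHom

lemma incR_apply (r : P.O) : incR (k' := k') P r = (1 : k') ⊗ₜ[k] r := rfl

lemma iota_incR (r : P.O) : iota (K' := K') P (incR (k' := k') P r) = algebraMap P.O K' r := by
  rw [incR_apply, iota_tmul, algebraMap_O_apply, map_one, one_mul]

/-- If `q` is monic with all lower coefficients in an ideal `J` and `q(τ) = 0`, then
`τ ^ deg q ∈ J`. -/
lemma pow_mem_of_eval₂_eq_zero {R S : Type*} [CommRing R] [CommRing S] (f : R →+* S) (J : Ideal S)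
    (q : R[X]) (hq : q.Monic) (hJ : ∀ i < q.natDegree, f (q.coeff i) ∈ J) (τ : S)
    (h : eval₂ f τ q = 0) : τ ^ q.natDegree ∈ J := by
  rw [eval₂_eq_sum_range, Finset.sum_range_succ, hq.coeff_natDegree, map_one, one_mul] at h
  rw [eq_neg_of_add_eq_zero_right h]
  refine J.neg_mem (J.sum_mem (fun i hi => J.mul_mem_right _ (hJ i (Finset.mem_range.1 hi))))

/-- One descent step: if `r` is integral over `O_P` and `t r ∈ O_P[k']`, then `r ∈ O_P[k']`. -/
theorem descent_step (hinj : Function.Injective (iota (k' := k') (K' := K') P))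
    (hK : IsFunctionField k K) [Algebra.IsSeparable k (IsLocalRing.ResidueField P.O)]
    {t : P.O} (ht : P.1 (t : K) = exp (-1 : ℤ)) {r : K'} (hr : IsIntegral P.O r)
    (τ : k' ⊗[k] P.O) (hτ : iota (K' := K') P τ = algebraMap P.O K' t * r) :
    ∃ τ' : k' ⊗[k] P.O, iota (K' := K') P τ' = r := by
  obtain ⟨p, hmonic, hp⟩ := hr
  have hq : eval₂ (algebraMap P.O K') (algebraMap P.O K' t * r) (scaleRoots p t) = 0 := by
    rw [scaleRoots_eval₂_mul, hp, mul_zero]
  have hcomp : (iota (k' := k') (K' := K') P).toRingHom.comp (incR P) = algebraMap P.O K' := by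
    ext r
    exact iota_incR P r
  have hσ : eval₂ (incR (k' := k') P) τ (scaleRoots p t) = 0 := by
    apply hinj
    rw [map_zero]
    have := Polynomial.hom_eval₂ (scaleRoots p t) (incR (k' := k') P)
      (iota (k' := k') (K' := K') P).toRingHom τ
    rw [hcomp] at this
    have h2 : (iota (k' := k') (K' := K') P).toRingHom τ = algebraMap P.O K' t * r := hτ
    rw [h2, hq] at this
    exact this
  have hqm : (scaleRoots p t).Monic := (monic_scaleRoots_iff t).2 hmonic
  have hpow := pow_mem_of_eval₂_eq_zero (incR (k' := k') P)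
    (Ideal.span {(1 : k') ⊗ₜ[k] t}) (scaleRoots p t) hqm ?_ τ hσ
  · have hmem := dvd_of_pow_dvd P hK ht τ _ hpow
    rw [Ideal.mem_span_singleton'] at hmem
    obtain ⟨τ', hτ'⟩ := hmem
    refine ⟨τ', ?_⟩
    have h3 : iota (K' := K') P τ' * algebraMap P.O K' t = algebraMap P.O K' t * r := by
      rw [← hτ, ← hτ', map_mul, ← incR_apply, iota_incR]
    have ht0 : algebraMap P.O K' t ≠ 0 := by
      rw [algebraMap_O_apply]
      intro h0
      have : (t : K) = 0 := (map_eq_zero _).1 h0
      rw [this, map_zero] at ht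
      exact exp_ne_zero ht.symm
    rw [mul_comm] at h3
    exact mul_left_cancel₀ ht0 h3
  · intro i hi
    rw [natDegree_scaleRoots] at hi
    rw [coeff_scaleRoots]
    obtain ⟨j, hj⟩ : ∃ j, p.natDegree - i = j + 1 := ⟨p.natDegree - i - 1, by omega⟩
    rw [hj, pow_succ, ← mul_assoc, map_mul]
    exact Ideal.mul_mem_left _ _ (Ideal.subset_span rfl)

/-- Every element of `K'` is carried into `O_P[k']` by a power of a uniformizer. -/
theorem exists_pow_mul_mem
    (hsurj : Function.Surjective (Algebra.TensorProduct.productMap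
      (IsScalarTower.toAlgHom k k' K') (IsScalarTower.toAlgHom k K K')))
    {t : P.O} (ht : P.1 (t : K) = exp (-1 : ℤ)) (r : K') :
    ∃ (N : ℕ) (τ : k' ⊗[k] P.O), iota (K' := K') P τ = algebraMap P.O K' t ^ N * r := by
  obtain ⟨x, rfl⟩ := hsurj r
  induction x using TensorProduct.induction_on with
  | zero => exact ⟨0, 0, by simp⟩
  | tmul c y =>
    obtain ⟨N, hN⟩ := FunFldCond.exists_le_exp_nat (P.1 y)
    have hmem : (t : K) ^ N * y ∈ P.O := by
      rw [mem_O_iff, map_mul, map_pow, ht, Groth.Agent.Lib.Helper44.FFExt.exp_pow']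
      calc exp ((N : ℤ) * (-1 : ℤ)) * P.1 y ≤ exp ((N : ℤ) * (-1 : ℤ)) * exp (N : ℤ) :=
            mul_le_mul' le_rfl hN
        _ = 1 := by rw [← exp_add, mul_neg_one, neg_add_cancel, exp_zero]
    refine ⟨N, c ⊗ₜ ⟨(t : K) ^ N * y, hmem⟩, ?_⟩
    rw [iota_tmul, Algebra.TensorProduct.productMap_apply_tmul, algebraMap_O_apply]
    show algebraMap k' K' c * algebraMap K K' ((t : K) ^ N * y) =
      algebraMap K K' (t : K) ^ N * (algebraMap k' K' c * algebraMap K K' y)
    rw [map_mul, map_pow]
    ring
  | add x y hx hy =>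
    obtain ⟨N₁, τ₁, h₁⟩ := hx
    obtain ⟨N₂, τ₂, h₂⟩ := hy
    refine ⟨N₁ + N₂, incR P (t ^ N₂) * τ₁ + incR P (t ^ N₁) * τ₂, ?_⟩
    rw [map_add, map_mul, map_mul, iota_incR, iota_incR, h₁, h₂, map_pow, map_pow, map_add]
    ring

/-- Elements of `k'` are integral over `O_P`. -/
lemma isIntegral_algebraMap_const [FiniteDimensional k k'] (c : k') :
    IsIntegral P.O (algebraMap k' K' c) := by
  haveI : IsScalarTower k P.O K' := IsScalarTower.of_algebraMap_eq (fun c => by
    rw [algebraMap_O_apply, IsScalarTower.algebraMap_apply k K K']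
    rfl)
  have h1 : IsIntegral k c := Algebra.IsIntegral.isIntegral c
  have h2 : IsIntegral k (algebraMap k' K' c) := h1.map (IsScalarTower.toAlgHom k k' K')
  exact h2.tower_top

/-- **Places with separable residue field are nonsingular**: the integral closure of `O_P` in
`K' = k' ⊗ K` is `O_P[k']`. -/
theorem integralClosure_eq_adjoin [FiniteDimensional k k']
    (h : Function.Bijective (Algebra.TensorProduct.productMap
      (IsScalarTower.toAlgHom k k' K') (IsScalarTower.toAlgHom k K K')))
    (hK : IsFunctionField k K) [Algebra.IsSeparable k (IsLocalRing.ResidueField P.O)] :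
    (integralClosure P.O K').toSubring =
      (Algebra.adjoin P.O (Set.range (algebraMap k' K'))).toSubring := by
  have hinj := iota_injective (k' := k') (K' := K') P h.1
  obtain ⟨t₀, ht₀⟩ := exists_uniformizer P
  have ht₀mem : t₀ ∈ P.O := by
    rw [mem_O_iff, ht₀, ← exp_zero, exp_le_exp]
    norm_num
  obtain ⟨t, ht⟩ : ∃ t : P.O, P.1 (t : K) = exp (-1 : ℤ) := ⟨⟨t₀, ht₀mem⟩, ht₀⟩
  have hdesc : ∀ (N : ℕ) (r : K'), IsIntegral P.O r →
      (∃ τ : k' ⊗[k] P.O, iota (K' := K') P τ = algebraMap P.O K' t ^ N * r) →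
      ∃ τ : k' ⊗[k] P.O, iota (K' := K') P τ = r := by
    intro N
    induction N with
    | zero =>
      rintro r - ⟨τ, hτ⟩
      exact ⟨τ, by rw [hτ, pow_zero, one_mul]⟩
    | succ N ih =>
      rintro r hr ⟨τ, hτ⟩
      have hint : IsIntegral P.O (algebraMap P.O K' t ^ N * r) :=
        (isIntegral_algebraMap.pow N).mul hr
      refine ih r hr (descent_step P hinj hK ht hint τ ?_)
      rw [hτ, pow_succ]
      ring
  apply SetLike.ext
  intro x
  rw [Subalgebra.mem_toSubring, Subalgebra.mem_toSubring, mem_integralClosure_iff]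
  constructor
  · intro hx
    rw [mem_adjoin_iff]
    obtain ⟨N, τ, hτ⟩ := exists_pow_mul_mem P h.2 ht x
    exact hdesc N x hx ⟨τ, hτ⟩
  · intro hx
    have hle : Algebra.adjoin P.O (Set.range (algebraMap k' K')) ≤ integralClosure P.O K' := by
      apply Algebra.adjoin_le
      rintro _ ⟨c, rfl⟩
      exact isIntegral_algebraMap_const P c
    exact hle hx

end main

end Groth.Agent.Lib.Helper34.FunFldNonsing
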