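import Groth.Agent.Lib.Helper34.FunFldConstSep2
import Groth.Agent.Lib.Helper34.FunFldNonsing
import Groth.Agent.Lib.Helper34.FunFldInsepUnique
import Groth.Agent.Lib.Helper34.FunFldZetaLog
import Mathlib.FieldTheory.Finite.Basic
import Mathlib.FieldTheory.Perfect

/-!
# Constant field extensions over finite fields: places and their degrees (helper34)

`K'/k'` a constant field extension of `K/k` of degree `n = [k' : k]`, `k` finite.  A place `P` of
`K/k` of degree `d` has only unramified places `Q` above it, each of degree `lcm d n` over `k`.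
Consequently `N_m(K'/k') = N_{mn}(K/k)`.
-/

set_option autoImplicit false

namespace Groth.Agent.Lib.Helper34.FunFldConstFin

open FunFld WithZero Groth.Agent.Lib.Helper88 Groth.Agent.Lib.Helper88.FF
  Groth.Agent.Lib.Helper44.FFExt Groth.Agent.Lib.Helper34.FunFldIntFin
  Groth.Agent.Lib.Helper34.FunFldNonsing Groth.Agent.Lib.Helper34.FunFldZetaSplit
  Groth.Agent.Lib.Helper34.FunFldInsepUnique
open scoped TensorProduct

variable {k k' K K' : Type*} [Field k] [Field k'] [Field K] [Field K']
  [Algebra k k'] [Algebra k K] [Algebra K K'] [Algebra k' K'] [Algebra k K']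
  [IsScalarTower k k' K'] [IsScalarTower k K K']

section toK

attribute [-instance] IsLocalRing.ResidueField.algebra IsLocalRing.instModuleResidueFieldOfAlgebra

omit [Field K] [Algebra k K] [Algebra K K'] [IsScalarTower k K K'] in
/-- A place of `K'/k'` viewed as a place of `K'/k`. -/
def toK (Q' : Place k' K') : Place k K' :=
  ⟨Q'.1, fun c => by rw [IsScalarTower.algebraMap_apply k k' K']; exact Q'.2.1 _, Q'.2.2⟩

/-- A place of `K'/k` viewed as a place of `K'/k'` (`k'/k` algebraic). -/
def ofK [Algebra.IsIntegral k k'] (Q : Place k K') : Place k' K' :=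
  ⟨Q.1, fun c => val_const_le_one Q c, Q.2.2⟩

omit [Field K] [Algebra k K] [Algebra K K'] [IsScalarTower k K K'] in
lemma toK_ofK [Algebra.IsIntegral k k'] (Q : Place k K') : toK (ofK (k' := k') Q) = Q := rfl

omit [Field K] [Algebra k K] [Algebra K K'] [IsScalarTower k K K'] in
lemma ofK_toK [Algebra.IsIntegral k k'] (Q' : Place k' K') : ofK (toK (k := k) Q') = Q' := rfl

omit [Field K] [Algebra k K] [Algebra K K'] [IsScalarTower k K K'] in
lemma toK_val (Q' : Place k' K') : (toK (k := k) Q').1 = Q'.1 := rfl

omit [Field K] [Algebra k K] [Algebra K K'] [IsScalarTower k K K'] in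
/-- Degrees over `k` and over `k'`. -/
theorem deg_toK (Q' : Place k' K') :
    (toK (k := k) Q').deg = Module.finrank k k' * Q'.deg := by
  unfold Place.deg
  letI : Algebra k (IsLocalRing.ResidueField Q'.O) := (toK (k := k) Q').algRes
  haveI : IsScalarTower k k' (IsLocalRing.ResidueField Q'.O) :=
    IsScalarTower.of_algebraMap_eq (fun c => by
      show IsLocalRing.residue Q'.O ⟨algebraMap k K' c, _⟩ =
        IsLocalRing.residue Q'.O ⟨algebraMap k' K' (algebraMap k k' c), _⟩
      congr 1
      apply Subtype.ext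
      exact IsScalarTower.algebraMap_apply k k' K' c)
  exact (Module.finrank_mul_finrank k k' (IsLocalRing.ResidueField Q'.O)).symm

end toK

section residue

variable [FiniteDimensional K K'] [Algebra.IsIntegral k k']

/-- **Residue field at a nonsingular place**: `F_Q` is generated as a ring by the images of `F_P`
and of `k'`. -/
theorem residue_induction (hK : IsFunctionField k K)
    (P : Place k K) [Algebra P.O K'] [IsScalarTower P.O K K']
    (hns : (integralClosure P.O K').toSubring =
      (Algebra.adjoin P.O (Set.range (algebraMap k' K'))).toSubring)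
    (Q : Place k K') (hQP : IsOver Q P)
    (S : Subring (IsLocalRing.ResidueField Q.O))
    (h1 : ∀ x : P.O, IsLocalRing.residue Q.O (toO hQP x) ∈ S)
    (h2 : ∀ c : k', IsLocalRing.residue Q.O ⟨algebraMap k' K' c, val_const_le_one Q c⟩ ∈ S)
    (y : IsLocalRing.ResidueField Q.O) : y ∈ S := by
  classical
  obtain ⟨z, rfl⟩ := IsLocalRing.residue_surjective y
  -- approximate `z` by an element of `B'`
  obtain ⟨r, hr⟩ := weak_approx (Qs (K' := K') hK P) (fun Q' => if Q' = Q then (z : K') else 0) 1
  have hrQ : Q.1 (r - (z : K')) ≤ exp (-1 : ℤ) := by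
    have := hr Q ((mem_Qs hK P Q).2 hQP)
    rwa [if_pos rfl] at this
  have hlt : exp (-1 : ℤ) < (1 : ℤᵐ⁰) := by
    rw [← exp_zero, exp_lt_exp]
    norm_num
  have hrB : r ∈ Bp (K' := K') hK P := by
    rw [mem_Bp]
    intro Q' hQ'
    by_cases hQQ : Q' = Q
    · subst hQQ
      have h1 : r = (r - (z : K')) + (z : K') := by ring
      rw [h1]
      exact (Q'.1.map_add _ _).trans (max_le (hrQ.trans hlt.le) z.2)
    · have := hr Q' ((mem_Qs hK P Q').2 hQ')
      rw [if_neg hQQ, sub_zero] at this
      exact this.trans hlt.le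
  have hrQ1 : Q.1 r ≤ 1 := (mem_Bp hK P).1 hrB Q hQP
  -- `r` is integral hence in `O_P[k']`
  obtain ⟨b, -, hint, -, -⟩ := integral_structure (K' := K') hK P
  have hrint : IsIntegral P.O r := (hint r).2 hrB
  have hradj : r ∈ Algebra.adjoin P.O (Set.range (algebraMap k' K')) := by
    have h1 : r ∈ (integralClosure P.O K').toSubring := hrint
    rw [hns] at h1
    exact h1
  obtain ⟨τ, hτ⟩ := (mem_adjoin_iff P r).1 hradj
  -- residues
  have hres : IsLocalRing.residue Q.O z = IsLocalRing.residue Q.O ⟨r, hrQ1⟩ := by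
    rw [← sub_eq_zero, ← map_sub, IsLocalRing.residue_eq_zero_iff, Valuation.mem_maximalIdeal_iff]
    have h2 : Q.1 ((z : K') - r) ≤ exp (-1 : ℤ) := by
      rw [← Valuation.map_neg]
      have : -((z : K') - r) = r - (z : K') := by ring
      rw [this]
      exact hrQ
    exact lt_of_le_of_lt h2 hlt
  rw [hres]
  -- induction over the tensor
  have key : ∀ τ : k' ⊗[k] P.O, ∃ hmem : Q.1 (iota (K' := K') P τ) ≤ 1,
      IsLocalRing.residue Q.O ⟨iota (K' := K') P τ, hmem⟩ ∈ S := by
    intro τ
    induction τ using TensorProduct.induction_on with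
    | zero =>
      have h0 : Q.1 (iota (k' := k') (K' := K') P 0) ≤ 1 := by
        rw [map_zero, map_zero]
        exact zero_le'
      refine ⟨h0, ?_⟩
      have : (⟨iota (k' := k') (K' := K') P 0, h0⟩ : Q.O) = 0 := by
        apply Subtype.ext
        exact map_zero _
      rw [this, map_zero]
      exact Subring.zero_mem _
    | tmul c x =>
      have hx : Q.1 (algebraMap K K' (x : K)) ≤ 1 := val_algebraMap_le_one hQP x.2
      have hmem : Q.1 (iota (K' := K') P (c ⊗ₜ x)) ≤ 1 := by
        rw [iota_tmul, map_mul]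
        exact mul_le_one' (val_const_le_one Q c) hx
      refine ⟨hmem, ?_⟩
      have h1' : (⟨iota (K' := K') P (c ⊗ₜ x), hmem⟩ : Q.O) =
          ⟨algebraMap k' K' c, val_const_le_one Q c⟩ * toO hQP x := by
        apply Subtype.ext
        rfl
      rw [h1', map_mul]
      exact Subring.mul_mem _ (h2 c) (h1 x)
    | add x y hx hy =>
      obtain ⟨hx1, hx2⟩ := hx
      obtain ⟨hy1, hy2⟩ := hy
      have hmem : Q.1 (iota (K' := K') P (x + y)) ≤ 1 := by
        rw [map_add]
        exact (Q.1.map_add _ _).trans (max_le hx1 hy1)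
      refine ⟨hmem, ?_⟩
      have h1' : (⟨iota (K' := K') P (x + y), hmem⟩ : Q.O) =
          ⟨iota (K' := K') P x, hx1⟩ + ⟨iota (K' := K') P y, hy1⟩ := by
        apply Subtype.ext
        exact map_add _ _ _
      rw [h1', map_add]
      exact Subring.add_mem _ hx2 hy2
  obtain ⟨hmem, hkey⟩ := key τ
  have h3 : (⟨r, hrQ1⟩ : Q.O) = ⟨iota (K' := K') P τ, hmem⟩ := by
    apply Subtype.ext
    exact hτ.symm
  rw [h3]
  exact hkey

end residue

section frob

attribute [-instance] IsLocalRing.ResidueField.algebra IsLocalRing.instModuleResidueFieldOfAlgebra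

lemma pow_natCard_pow {F : Type*} [Field F] [Finite F] (e : ℕ) (a : F) :
    a ^ (Nat.card F) ^ e = a := by
  letI := Fintype.ofFinite F
  rw [Nat.card_eq_fintype_card]
  exact FiniteField.pow_card_pow e a

lemma pow_card_pow_eq [Finite k] {F : Type*} [Field F] [Algebra k F] [Module.Finite k F] {L : ℕ}
    (h : Module.finrank k F ∣ L) (a : F) : a ^ (Nat.card k ^ L) = a := by
  haveI : Finite F := Module.finite_of_finite k
  obtain ⟨e, rfl⟩ := h
  rw [pow_mul, ← Module.natCard_eq_pow_finrank]
  exact pow_natCard_pow e a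

/-- If every element of a finite extension `F` of `k` is fixed by `x ↦ x ^ q ^ L`, `L ≠ 0`,
then `[F : k] ≤ L`. -/
lemma finrank_le_of_pow_eq [Finite k] {F : Type*} [Field F] [Algebra k F] [Module.Finite k F]
    {L : ℕ} (hL : L ≠ 0) (h : ∀ a : F, a ^ (Nat.card k ^ L) = a) : Module.finrank k F ≤ L := by
  classical
  haveI : Finite F := Module.finite_of_finite k
  letI := Fintype.ofFinite F
  have hq : 1 < Nat.card k := Finite.one_lt_card
  have hdeg := FiniteField.X_pow_card_pow_sub_X_natDegree_eq F hL hq
  have hne := FiniteField.X_pow_card_pow_sub_X_ne_zero F hL hq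
  have hsub : (Finset.univ : Finset F).val ⊆
      (Polynomial.X ^ Nat.card k ^ L - Polynomial.X : Polynomial F).roots := by
    intro a _
    rw [Polynomial.mem_roots hne, Polynomial.IsRoot.def, Polynomial.eval_sub, Polynomial.eval_pow,
      Polynomial.eval_X, h a, sub_self]
  have hcard := Polynomial.card_le_degree_of_subset_roots hsub
  rw [hdeg, Finset.card_univ, ← Nat.card_eq_fintype_card,
    Module.natCard_eq_pow_finrank (K := k) (V := F)] at hcard
  exact (Nat.pow_le_pow_iff_right hq).1 hcard

variable [Finite k] [Finite k'] [FiniteDimensional K K']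

/-- Every element of the residue field at `Q | P` is fixed by `x ↦ x ^ q ^ L` when `deg P ∣ L` and
`[k' : k] ∣ L`. -/
theorem residue_pow_eq (hrank : Module.finrank K K' = Module.finrank k k')
    (hK : IsFunctionField k K) (P : Place k K) (Q : Place k K') (hQP : IsOver Q P) {L : ℕ}
    (hdL : P.deg ∣ L) (hnL : Module.finrank k k' ∣ L) (y : IsLocalRing.ResidueField Q.O) :
    y ^ (Nat.card k ^ L) = y := by
  classical
  letI : Algebra P.O K' := ((algebraMap K K').comp P.O.subtype).toAlgebra
  haveI : IsScalarTower P.O K K' := IsScalarTower.of_algebraMap_eq (fun _ => rfl)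
  haveI : FiniteDimensional k k' := Module.Finite.of_finite
  obtain ⟨hns, -⟩ := Groth.Agent.Lib.Helper34.FunFldConstSep2.main' hrank hK P Q hQP
  -- characteristic
  obtain ⟨p, hp⟩ := CharP.exists k
  letI := Fintype.ofFinite k
  obtain ⟨f, hpp, hf⟩ := FiniteField.card k p
  have hq : Nat.card k = p ^ (f : ℕ) := by rw [Nat.card_eq_fintype_card, hf]
  haveI : Fact p.Prime := ⟨hpp⟩
  haveI : CharP (IsLocalRing.ResidueField Q.O) p :=
    charP_of_injective_algebraMap (algebraMap k (IsLocalRing.ResidueField Q.O)).injective p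
  obtain ⟨φ, hφdef⟩ : ∃ φ : IsLocalRing.ResidueField Q.O →+* IsLocalRing.ResidueField Q.O,
      φ = iterateFrobenius (IsLocalRing.ResidueField Q.O) p (f * L) := ⟨_, rfl⟩
  have hφ : ∀ x, φ x = x ^ (Nat.card k ^ L) := fun x => by
    rw [hφdef, iterateFrobenius_def, hq, ← pow_mul]
  have hmem : y ∈ RingHom.eqLocus φ (RingHom.id _) := by
    refine residue_induction hK P hns Q hQP _ ?_ ?_ y
    · intro x
      rw [RingHom.mem_eqLocus, hφ, RingHom.id_apply, ← IsLocalRing.ResidueField.map_residue,
        ← map_pow]
      congr 1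
      haveI : Module.Finite k (IsLocalRing.ResidueField P.O) :=
        finiteDimensional_residueField hK P
      exact pow_card_pow_eq hdL _
    · intro c
      rw [RingHom.mem_eqLocus, hφ, RingHom.id_apply, ← map_pow]
      congr 1
      apply Subtype.ext
      show algebraMap k' K' c ^ (Nat.card k ^ L) = algebraMap k' K' c
      rw [← map_pow, pow_card_pow_eq hnL c]
  rw [RingHom.mem_eqLocus, hφ, RingHom.id_apply] at hmem
  exact hmem

end frob

section degree

attribute [-instance] IsLocalRing.ResidueField.algebra IsLocalRing.instModuleResidueFieldOfAlgebra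

/-- The degree of `P` divides the degree of any place over it. -/
theorem deg_dvd_of_isOver {Q : Place k K'} {P : Place k K} (h : IsOver Q P) :
    P.deg ∣ Q.deg := by
  unfold Place.deg
  letI : Algebra (IsLocalRing.ResidueField P.O) (IsLocalRing.ResidueField Q.O) :=
    (IsLocalRing.ResidueField.map (toO h)).toAlgebra
  haveI : IsScalarTower k (IsLocalRing.ResidueField P.O) (IsLocalRing.ResidueField Q.O) :=
    IsScalarTower.of_algebraMap_eq (fun c => by
      show IsLocalRing.residue Q.O (algebraMap k Q.O c) =
        IsLocalRing.ResidueField.map (toO h) (IsLocalRing.residue P.O (algebraMap k P.O c))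
      rw [IsLocalRing.ResidueField.map_residue]
      congr 1
      apply Subtype.ext
      exact (IsScalarTower.algebraMap_apply k K K' c))
  exact ⟨_, (Module.finrank_mul_finrank k (IsLocalRing.ResidueField P.O)
    (IsLocalRing.ResidueField Q.O)).symm⟩

variable [Finite k] [Finite k'] [FiniteDimensional K K']

/-- **Degree of places in a constant field extension of finite fields**:
`deg Q = lcm (deg P) [k' : k]`. -/
theorem deg_eq_lcm (hrank : Module.finrank K K' = Module.finrank k k')
    (hK : IsFunctionField k K) (P : Place k K) (Q : Place k K') (hQP : IsOver Q P) :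
    Q.deg = Nat.lcm P.deg (Module.finrank k k') := by
  haveI : FiniteDimensional k k' := Module.Finite.of_finite
  have hn : 0 < Module.finrank k k' := Module.finrank_pos
  have hd : 0 < P.deg := deg_pos hK P
  have hQ : 0 < Q.deg := deg_pos' hK Q
  have h1 : Module.finrank k k' ∣ Q.deg := by
    rw [← toK_ofK (k' := k') Q, deg_toK]
    exact Dvd.intro _ rfl
  have h2 : P.deg ∣ Q.deg := deg_dvd_of_isOver hQP
  have h3 : Nat.lcm P.deg (Module.finrank k k') ∣ Q.deg := Nat.lcm_dvd h2 h1
  have hL : Nat.lcm P.deg (Module.finrank k k') ≠ 0 := Nat.lcm_ne_zero hd.ne' hn.ne'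
  haveI : Module.Finite k (IsLocalRing.ResidueField Q.O) := Module.finite_of_finrank_pos hQ
  have h4 : Q.deg ≤ Nat.lcm P.deg (Module.finrank k k') :=
    finrank_le_of_pow_eq hL (fun y => residue_pow_eq hrank hK P Q hQP (Nat.dvd_lcm_left _ _)
      (Nat.dvd_lcm_right _ _) y)
  exact Nat.le_antisymm h4 (Nat.le_of_dvd hQ h3)

/-- Places in a constant field extension of finite fields are unramified. -/
theorem ramIdx_eq_one (hrank : Module.finrank K K' = Module.finrank k k')
    (hK : IsFunctionField k K) (P : Place k K) (Q : Place k K') (hQP : IsOver Q P) :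
    ramIdx Q P = 1 := by
  letI : Algebra P.O K' := ((algebraMap K K').comp P.O.subtype).toAlgebra
  haveI : IsScalarTower P.O K K' := IsScalarTower.of_algebraMap_eq (fun _ => rfl)
  haveI : FiniteDimensional k k' := Module.Finite.of_finite
  exact ramIdx_eq (Groth.Agent.Lib.Helper34.FunFldConstSep2.main' hrank hK P Q hQP).2

/-- The degrees over `k` of the places over `P` sum to `n · deg P`. -/
theorem sum_deg (hrank : Module.finrank K K' = Module.finrank k k')
    (hK : IsFunctionField k K) (P : Place k K) :
    ∑ Q ∈ Qs (K' := K') hK P, Q.deg = Module.finrank k k' * P.deg := by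
  rw [← hrank, ← sum_ramIdx_mul_deg hK P (Qs (K' := K') hK P) (mem_Qs hK P)]
  apply Finset.sum_congr rfl
  intro Q hQ
  rw [ramIdx_eq_one hrank hK P Q ((mem_Qs hK P Q).1 hQ), one_mul]

end degree

section count

open Groth.Agent.Lib.Helper34.FunFldZetaLog

variable [Finite k] [Finite k'] [FiniteDimensional K K']

/-- The place of `K/k` below a place of `K'/k'`. -/
noncomputable def below (Q' : Place k' K') : Place k K :=
  Classical.choose (exists_isOver_below (K := K) (toK (k := k) Q'))

lemma below_spec (Q' : Place k' K') : IsOver (toK (k := k) Q') (below (k := k) (K := K) Q') :=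
  Classical.choose_spec (exists_isOver_below (K := K) (toK (k := k) Q'))

lemma below_eq {Q' : Place k' K'} {P : Place k K} (h : IsOver (toK (k := k) Q') P) :
    below (k := k) (K := K) Q' = P :=
  isOver_unique_below (below_spec Q') h

/-- **Counting places in a constant field extension**: `N_m(K'/k') = N_{mn}(K/k)`. -/
theorem Nr_constExt (hrank : Module.finrank K K' = Module.finrank k k')
    (hK : IsFunctionField k K) (hK' : IsFunctionField k' K') (m : ℕ) :
    Nr hK' m = Nr hK (m * Module.finrank k k') := by
  classical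
  haveI : FiniteDimensional k k' := Module.Finite.of_finite
  have hn : 0 < Module.finrank k k' := Module.finrank_pos
  rcases Nat.eq_zero_or_pos m with rfl | hm
  · rw [Nat.zero_mul, Nr_zero, Nr_zero]
  unfold Nr
  -- key degree facts
  have hdeg : ∀ Q' : Place k' K', Module.finrank k k' * Q'.deg =
      Nat.lcm (below (k := k) (K := K) Q').deg (Module.finrank k k') := by
    intro Q'
    rw [← deg_toK (k := k), deg_eq_lcm hrank hK (below Q') (toK Q') (below_spec Q')]
  have hiff : ∀ Q' : Place k' K', Q'.deg ∣ m ↔
      (below (k := k) (K := K) Q').deg ∣ m * Module.finrank k k' := by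
    intro Q'
    constructor
    · intro h
      have h1 : Module.finrank k k' * Q'.deg ∣ m * Module.finrank k k' := by
        rw [mul_comm m]
        exact Nat.mul_dvd_mul_left _ h
      rw [hdeg] at h1
      exact (Nat.dvd_lcm_left _ _).trans h1
    · intro h
      have h1 : Nat.lcm (below (k := k) (K := K) Q').deg (Module.finrank k k') ∣
          m * Module.finrank k k' := Nat.lcm_dvd h (Dvd.intro_left m rfl)
      rw [← hdeg, mul_comm m] at h1
      exact (Nat.mul_dvd_mul_iff_left hn).1 h1
  have hmaps : ∀ Q' ∈ (Pl hK' m).filter (fun Q' => Q'.deg ∣ m),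
      below (k := k) (K := K) Q' ∈ (Pl hK (m * Module.finrank k k')).filter
        (fun P => P.deg ∣ m * Module.finrank k k') := by
    intro Q' hQ'
    rw [Finset.mem_filter] at hQ' ⊢
    have h1 := (hiff Q').1 hQ'.2
    exact ⟨(mem_Pl hK).2 (Nat.le_of_dvd (Nat.mul_pos hm hn) h1), h1⟩
  rw [← Finset.sum_fiberwise_of_maps_to hmaps]
  apply Finset.sum_congr rfl
  intro P hP
  rw [Finset.mem_filter] at hP
  -- fiber sum
  apply Nat.eq_of_mul_eq_mul_left hn
  rw [Finset.mul_sum, ← sum_deg hrank hK P]
  apply Finset.sum_nbij' (fun Q' => toK (k := k) Q') (fun Q => ofK (k' := k') Q)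
  · intro Q' hQ'
    rw [Finset.mem_filter] at hQ'
    rw [mem_Qs, ← hQ'.2]
    exact below_spec Q'
  · intro Q hQ
    rw [mem_Qs] at hQ
    have hb : below (k := k) (K := K) (ofK (k' := k') Q) = P := below_eq hQ
    rw [Finset.mem_filter, Finset.mem_filter]
    have h1 : (ofK (k' := k') Q).deg ∣ m := (hiff _).2 (by rw [hb]; exact hP.2)
    exact ⟨⟨(mem_Pl hK').2 (Nat.le_of_dvd hm h1), h1⟩, hb⟩
  · intro Q' _
    rfl
  · intro Q _
    rfl
  · intro Q' _
    rw [deg_toK]

end count

end Groth.Agent.Lib.Helper34.FunFldConstFin
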