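import Groth.Agent.Lib.Helper34.FunFldRam
import Groth.Agent.S11006
import Groth.Agent.S11000
import Mathlib.RingTheory.Discriminant
import Mathlib.RingTheory.Norm.Transitivity
import Mathlib.FieldTheory.Minpoly.IsIntegrallyClosed

/-!
# Separable constant field extensions (universe-polymorphic variant of FunFldConstSep, helper34)
-/

set_option autoImplicit false

namespace Groth.Agent.Lib.Helper34.FunFldConstSep2

open FunFld Polynomial WithZero Groth.Agent.Lib.Helper88.FF Groth.Agent.Lib.Helper44.FFExt
open scoped IntermediateField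


variable {k k' K K' : Type*} [Field k] [Field k'] [Field K] [Field K']
    [Algebra k k'] [FiniteDimensional k k'] [Algebra k K] [Algebra K K'] [Algebra k' K']
    [Algebra k K'] [IsScalarTower k k' K'] [IsScalarTower k K K']

omit [Algebra k K] [Algebra K K'] [IsScalarTower k K K'] in
/-- Nonzero constants of `k'` are units at every place of `K'/k`. -/
theorem val_algebraMap_eq_one (Q : Place k K') {c : k'} (hc : c ≠ 0) :
    Q.1 (algebraMap k' K' c) = 1 := by
  have hint : ∀ c : k', IsIntegral k (algebraMap k' K' c) := fun c =>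
    (Algebra.IsIntegral.isIntegral (R := k) c).map (IsScalarTower.toAlgHom k k' K')
  have h1 := val_le_one_of_isIntegral Q.1 Q.2.1 (hint c)
  have h2 := val_le_one_of_isIntegral Q.1 Q.2.1 (hint c⁻¹)
  rw [map_inv₀] at h2
  have hne : algebraMap k' K' c ≠ 0 := (_root_.map_ne_zero _).2 hc
  exact val_eq_one_of_le_of_inv_le hne h1 h2


/-- **Separable constant field extensions**: the integral closure of `O_P` in `K' = k' ⊗ K` is
`O_P[k']`, and every place over `P` is unramified. -/
theorem main' [FiniteDimensional K K'] (hrank : Module.finrank K K' = Module.finrank k k')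
    (hK : IsFunctionField k K) [Algebra.IsSeparable k k']
    (P : Place k K) [Algebra P.O K'] [IsScalarTower P.O K K']
    (Q : Place k K') (hQ : IsOver Q P) :
    (integralClosure P.O K').toSubring =
      (Algebra.adjoin P.O (Set.range (algebraMap k' K'))).toSubring ∧ IsOverWith Q P 1 := by
  classical
  obtain ⟨α, hα⟩ := Field.exists_primitive_element k k'
  have hαint : IsIntegral k α := Algebra.IsIntegral.isIntegral α
  have hαsep : (minpoly k α).Separable := Algebra.IsSeparable.isSeparable k α
  obtain ⟨a, ha⟩ : ∃ a : K', a = algebraMap k' K' α := ⟨_, rfl⟩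
  have hinj : Function.Injective (algebraMap k' K') := (algebraMap k' K').injective
  have hmin : minpoly k a = minpoly k α := by rw [ha]; exact minpoly.algebraMap_eq hinj α
  have hintk : ∀ c : k', IsIntegral k (algebraMap k' K' c) := fun c =>
    (Algebra.IsIntegral.isIntegral (R := k) c).map (IsScalarTower.toAlgHom k k' K')
  have haint : IsIntegral k a := by rw [ha]; exact hintk α
  have haK : IsIntegral K a := haint.tower_top
  have hdegα : (minpoly k α).natDegree = Module.finrank k k' := by
    rw [← IntermediateField.adjoin.finrank hαint, hα, IntermediateField.finrank_top']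
  have hdeg : (minpoly K a).natDegree = (minpoly k a).natDegree :=
    Groth.Agent.S11000.natDegree_minpoly_eq hK.2 a haint
  have hprim : Module.finrank K K' = (minpoly K a).natDegree := by
    rw [hdeg, hmin, hdegα, hrank]
  have hminK : minpoly K a = (minpoly k a).map (algebraMap k K) := by
    have hdvd := minpoly.dvd_map_of_isScalarTower k K a
    symm
    apply Polynomial.eq_of_monic_of_dvd_of_natDegree_le (minpoly.monic haK)
      ((minpoly.monic haint).map _) hdvd
    rw [Polynomial.natDegree_map, hdeg]
  obtain ⟨GO, hGOdef⟩ : ∃ GO : Polynomial P.O, GO = (minpoly k a).map (algebraMap k P.O) :=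
    ⟨_, rfl⟩
  have hGO : GO.Monic := by rw [hGOdef]; exact (minpoly.monic haint).map _
  have hmap : GO.map P.O.subtype = minpoly K a := by
    rw [hGOdef, Polynomial.map_map, hminK]
    rfl
  have hu : aeval a (derivative (minpoly K a)) =
      algebraMap k' K' (aeval α (derivative (minpoly k α))) := by
    rw [hminK, Polynomial.derivative_map, Polynomial.aeval_map_algebraMap, hmin, ha,
      Polynomial.aeval_algebraMap_apply]
  have hu0 : aeval α (derivative (minpoly k α)) ≠ 0 :=
    hαsep.aeval_derivative_ne_zero (minpoly.aeval k α)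
  have hunit : ∀ Q' : Place k K', IsOver Q' P →
      Q'.1 (aeval a (derivative (minpoly K a))) = 1 := by
    intro Q' _
    rw [hu]
    exact val_algebraMap_eq_one Q' hu0
  refine ⟨?_, Groth.Agent.Lib.Helper34.FunFldRam.isOverWith_one hK P hprim hGO hmap hunit hQ⟩
  -- the integral closure
  haveI htw : IsScalarTower k P.O K' := IsScalarTower.of_algebraMap_eq (fun c => by
    rw [IsScalarTower.algebraMap_apply P.O K K', IsScalarTower.algebraMap_apply k K K']
    rfl)
  have hintO : ∀ c : k', IsIntegral P.O (algebraMap k' K' c) := fun c => (hintk c).tower_top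
  have htop : K⟮a⟯ = ⊤ := (Field.primitive_element_iff_minpoly_natDegree_eq K a).2 hprim.symm
  have hsepa : IsSeparable K a := by
    unfold IsSeparable
    rw [hminK, hmin]
    exact hαsep.map
  haveI hsepK : Algebra.IsSeparable K K' := by
    have h1 : Algebra.IsSeparable K K⟮a⟯ :=
      (IntermediateField.isSeparable_adjoin_simple_iff_isSeparable K K').2 hsepa
    rw [htop] at h1
    exact (IntermediateField.isSeparable_top K K').1 h1
  have hadj : Algebra.adjoin K ({a} : Set K') = ⊤ := by
    rw [← IntermediateField.adjoin_simple_toSubalgebra_of_isAlgebraic haK.isAlgebraic, htop,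
      IntermediateField.top_toSubalgebra]
  obtain ⟨B, hBgen⟩ : ∃ B : PowerBasis K K', B.gen = a :=
    ⟨PowerBasis.ofAdjoinEqTop' haK hadj, PowerBasis.ofAdjoinEqTop'_gen haK hadj⟩
  -- norms of constants are units of `O_P`
  have hnorm_le : ∀ c : k', P.1 (Algebra.norm K (algebraMap k' K' c)) ≤ 1 := by
    intro c
    have h1 : IsIntegral P.O (Algebra.norm K (algebraMap k' K' c)) :=
      Algebra.isIntegral_norm K (hintO c)
    obtain ⟨y, hy⟩ := IsIntegrallyClosed.isIntegral_iff.1 h1
    rw [← hy]
    exact y.2
  have hnorm : ∀ c : k', c ≠ 0 → P.1 (Algebra.norm K (algebraMap k' K' c)) = 1 := by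
    intro c hc
    have h1 := hnorm_le c
    have h2 := hnorm_le c⁻¹
    have h3 : Algebra.norm K (algebraMap k' K' c) * Algebra.norm K (algebraMap k' K' c⁻¹) = 1 := by
      rw [← map_mul, ← map_mul, mul_inv_cancel₀ hc, map_one, map_one]
    have h4 : Algebra.norm K (algebraMap k' K' c⁻¹) = (Algebra.norm K (algebraMap k' K' c))⁻¹ :=
      eq_inv_of_mul_eq_one_right h3
    rw [h4] at h2
    have hne : Algebra.norm K (algebraMap k' K' c) ≠ 0 := by
      intro h0
      rw [h0, zero_mul] at h3
      exact zero_ne_one h3
    exact val_eq_one_of_le_of_inv_le hne h1 h2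
  have hdiscr : P.1 (Algebra.discr K B.basis) = 1 := by
    rw [Algebra.discr_powerBasis_eq_norm, map_mul, map_pow, Valuation.map_neg, map_one, one_pow,
      one_mul, hBgen, hu]
    exact hnorm _ hu0
  have key : ∀ z : K', IsIntegral P.O z → z ∈ Algebra.adjoin P.O ({a} : Set K') := by
    intro z hz
    have haO : IsIntegral P.O B.gen := by rw [hBgen, ha]; exact hintO α
    have h1 := Algebra.discr_mul_isIntegral_mem_adjoin (K := K) haO hz
    rw [hBgen] at h1
    obtain ⟨d, hd⟩ : ∃ d, d = Algebra.discr K B.basis := ⟨_, rfl⟩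
    rw [← hd] at h1 hdiscr
    have hd0 : d ≠ 0 := by
      intro h0
      rw [h0, map_zero] at hdiscr
      exact zero_ne_one hdiscr
    have hdinv : P.1 d⁻¹ ≤ 1 := by rw [map_inv₀, hdiscr, inv_one]
    have h2 := Subalgebra.smul_mem _ h1 (⟨d⁻¹, hdinv⟩ : P.O)
    have h3 : (⟨d⁻¹, hdinv⟩ : P.O) • (d • z) = z := by
      rw [Algebra.smul_def, Algebra.smul_def, IsScalarTower.algebraMap_apply P.O K K',
        ← mul_assoc, ← map_mul]
      have : (algebraMap P.O K ⟨d⁻¹, hdinv⟩) * d = 1 := inv_mul_cancel₀ hd0
      rw [this, map_one, one_mul]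
    rwa [h3] at h2
  refine congrArg Subalgebra.toSubring (le_antisymm ?_ ?_)
  · intro z hz
    refine Algebra.adjoin_mono ?_ (key z hz)
    rintro _ rfl
    exact ⟨α, ha.symm⟩
  · apply Algebra.adjoin_le
    rintro _ ⟨c, rfl⟩
    exact hintO c

end Groth.Agent.Lib.Helper34.FunFldConstSep2
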