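/-
Function fields of one variable over an algebraically closed constant field:
the local ring of a projective map at a place (`FunFld.InLocRing`): independence of the chosen
entry of least order, ring structure, separation of image points, clearing of denominators,
and the conductor bound (`exists_bound`).
Author: helper34
-/
import Groth.Agent.Lib.Helper34.FunFldCond
import Groth.Agent.S11078

set_option autoImplicit false

namespace Groth.Agent.Lib.Helper34.FunFldLocRing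

open FunFld WithZero Groth.Agent.Lib.Helper88.FF Groth.Agent.Lib.Helper34.FunFldCond

variable {k K : Type*} [Field k] [Field K] [Algebra k K]

/-- Membership in the local ring of `φ` at `P`, with respect to a fixed entry `φ j`. -/
def LocAt {ι : Type*} (φ : ι → K) (P : Place k K) (j : ι) (z : K) : Prop :=
  ∃ u ∈ Algebra.adjoin k (Set.range fun i => φ i / φ j),
    ∃ w ∈ Algebra.adjoin k (Set.range fun i => φ i / φ j), P.1 w = 1 ∧ z * w = u

section ring

variable {ι : Type*} (φ : ι → K) (P : Place k K) (j : ι)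

lemma locAt_of_mem {x : K} (hx : x ∈ Algebra.adjoin k (Set.range fun i => φ i / φ j)) :
    LocAt φ P j x :=
  ⟨x, hx, 1, Subalgebra.one_mem _, map_one _, mul_one _⟩

lemma locAt_algebraMap (c : k) : LocAt φ P j (algebraMap k K c) :=
  locAt_of_mem φ P j (Subalgebra.algebraMap_mem _ c)

variable {φ P j}

lemma LocAt.add {z z' : K} (hz : LocAt φ P j z) (hz' : LocAt φ P j z') :
    LocAt φ P j (z + z') := by
  obtain ⟨u, hu, w, hw, hPw, hzw⟩ := hz
  obtain ⟨u', hu', w', hw', hPw', hzw'⟩ := hz'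
  refine ⟨u * w' + u' * w, Subalgebra.add_mem _ (Subalgebra.mul_mem _ hu hw')
    (Subalgebra.mul_mem _ hu' hw), w * w', Subalgebra.mul_mem _ hw hw', ?_, ?_⟩
  · rw [map_mul, hPw, hPw', one_mul]
  · rw [← hzw, ← hzw']; ring

lemma LocAt.mul {z z' : K} (hz : LocAt φ P j z) (hz' : LocAt φ P j z') :
    LocAt φ P j (z * z') := by
  obtain ⟨u, hu, w, hw, hPw, hzw⟩ := hz
  obtain ⟨u', hu', w', hw', hPw', hzw'⟩ := hz'
  refine ⟨u * u', Subalgebra.mul_mem _ hu hu', w * w', Subalgebra.mul_mem _ hw hw', ?_, ?_⟩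
  · rw [map_mul, hPw, hPw', one_mul]
  · rw [← hzw, ← hzw']; ring

lemma LocAt.smul {z : K} (c : k) (hz : LocAt φ P j z) : LocAt φ P j (c • z) := by
  rw [Algebra.smul_def]
  exact (locAt_algebraMap φ P j c).mul hz

lemma LocAt.pow {z : K} (hz : LocAt φ P j z) (n : ℕ) : LocAt φ P j (z ^ n) := by
  induction n with
  | zero => rw [pow_zero]; exact locAt_of_mem φ P j (Subalgebra.one_mem _)
  | succ n ih => rw [pow_succ]; exact ih.mul hz

lemma LocAt.sub {z z' : K} (hz : LocAt φ P j z) (hz' : LocAt φ P j z') :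
    LocAt φ P j (z - z') := by
  have : z - z' = z + (-1 : k) • z' := by simp [sub_eq_add_neg]
  rw [this]
  exact hz.add (hz'.smul _)

end ring

section change

variable {ι : Type*} (φ : ι → K)

/-- Generators for the index `j'` become, after multiplication by a power of `φ j' / φ j`,
polynomials in the generators for the index `j`. -/
lemma exists_pow_mul_mem (j j' : ι) (hj : φ j ≠ 0) (hj' : φ j' ≠ 0) {x : K}
    (hx : x ∈ Algebra.adjoin k (Set.range fun i => φ i / φ j')) :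
    ∃ N : ℕ, ∀ M : ℕ, N ≤ M →
      (φ j' / φ j) ^ M * x ∈ Algebra.adjoin k (Set.range fun i => φ i / φ j) := by
  have hρ : φ j' / φ j ∈ Algebra.adjoin k (Set.range fun i => φ i / φ j) :=
    Algebra.subset_adjoin ⟨j', rfl⟩
  induction hx using Algebra.adjoin_induction with
  | mem x hx =>
    obtain ⟨i, rfl⟩ := hx
    refine ⟨1, fun M hM => ?_⟩
    obtain ⟨M', rfl⟩ : ∃ M', M = M' + 1 := ⟨M - 1, by omega⟩
    have e : (φ j' / φ j) ^ (M' + 1) * (φ i / φ j') = (φ j' / φ j) ^ M' * (φ i / φ j) := by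
      rw [pow_succ]; field_simp
    rw [e]
    exact Subalgebra.mul_mem _ (Subalgebra.pow_mem _ hρ _) (Algebra.subset_adjoin ⟨i, rfl⟩)
  | algebraMap c =>
    exact ⟨0, fun M _ => Subalgebra.mul_mem _ (Subalgebra.pow_mem _ hρ _)
      (Subalgebra.algebraMap_mem _ c)⟩
  | add x y _ _ hx hy =>
    obtain ⟨N, hN⟩ := hx
    obtain ⟨N', hN'⟩ := hy
    refine ⟨max N N', fun M hM => ?_⟩
    rw [mul_add]
    exact Subalgebra.add_mem _ (hN M ((le_max_left _ _).trans hM))
      (hN' M ((le_max_right _ _).trans hM))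
  | mul x y _ _ hx hy =>
    obtain ⟨N, hN⟩ := hx
    obtain ⟨N', hN'⟩ := hy
    refine ⟨N + N', fun M hM => ?_⟩
    obtain ⟨M', rfl⟩ : ∃ M', M = N + M' := ⟨M - N, by omega⟩
    have e : (φ j' / φ j) ^ (N + M') * (x * y) =
        ((φ j' / φ j) ^ N * x) * ((φ j' / φ j) ^ M' * y) := by
      rw [pow_add]; ring
    rw [e]
    exact Subalgebra.mul_mem _ (hN N le_rfl) (hN' M' (by omega))

lemma locAt_of_locAt (P : Place k K) (j j' : ι) (hj : φ j ≠ 0) (hj' : φ j' ≠ 0)
    (hP : P.1 (φ j') = P.1 (φ j)) {z : K} (hz : LocAt φ P j' z) : LocAt φ P j z := by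
  obtain ⟨u, hu, w, hw, hPw, hzw⟩ := hz
  obtain ⟨N, hN⟩ := exists_pow_mul_mem φ j j' hj hj' hu
  obtain ⟨N', hN'⟩ := exists_pow_mul_mem φ j j' hj hj' hw
  have hρ : P.1 (φ j' / φ j) = 1 := by
    rw [map_div₀, hP]
    exact div_self ((Valuation.ne_zero_iff _).2 hj)
  refine ⟨(φ j' / φ j) ^ (max N N') * u, hN _ (le_max_left _ _),
    (φ j' / φ j) ^ (max N N') * w, hN' _ (le_max_right _ _), ?_, ?_⟩
  · rw [map_mul, map_pow, hρ, one_pow, one_mul, hPw]
  · rw [← hzw]; ring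

/-- `InLocRing` may be tested with any entry of least order. -/
theorem inLocRing_iff (P : Place k K) (j : ι) (hj : φ j ≠ 0)
    (hle : ∀ i, P.1 (φ i) ≤ P.1 (φ j)) (z : K) : InLocRing φ P z ↔ LocAt φ P j z := by
  constructor
  · rintro ⟨j', hj', hle', h⟩
    exact locAt_of_locAt φ P j j' hj hj' (le_antisymm (hle j') (hle' j)) h
  · intro h
    exact ⟨j, hj, hle, h⟩

end change

section sep

variable {ι : Type*} (φ : ι → K)

lemma val_le_one_of_mem_adjoin (Q : Place k K) (r : ι → K) (h : ∀ i, Q.1 (r i) ≤ 1) {x : K}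
    (hx : x ∈ Algebra.adjoin k (Set.range r)) : Q.1 x ≤ 1 := by
  have h1 : Algebra.adjoin k (Set.range r) ≤ Groth.Agent.Lib.Helper68.FunFldRes.intSub Q :=
    Algebra.adjoin_le (by
      rintro _ ⟨i, rfl⟩
      exact h i)
  exact h1 hx

lemma val_div_le_one_iff (Q : Place k K) (j : ι) (hj : φ j ≠ 0) (i : ι) :
    Q.1 (φ i / φ j) ≤ 1 ↔ Q.1 (φ i) ≤ Q.1 (φ j) := by
  rw [map_div₀]
  exact div_le_one₀ (zero_lt_iff.2 ((Valuation.ne_zero_iff _).2 hj))

/-- Places with different image points are separated by a polynomial in the ratios. -/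
theorem exists_sep [IsAlgClosed k] (hK : IsFunctionField k K) (P Q : Place k K) (j : ι)
    (hj : φ j ≠ 0) (hP : ∀ i, P.1 (φ i) ≤ P.1 (φ j)) (hQ : ∀ i, Q.1 (φ i) ≤ Q.1 (φ j))
    (hns : ¬ SameImage φ P Q) :
    ∃ b ∈ Algebra.adjoin k (Set.range fun i => φ i / φ j), P.1 b = 1 ∧ Q.1 b < 1 := by
  have hPr : ∀ i, P.1 (φ i / φ j) ≤ 1 := fun i => (val_div_le_one_iff φ P j hj i).2 (hP i)
  have hQr : ∀ i, Q.1 (φ i / φ j) ≤ 1 := fun i => (val_div_le_one_iff φ Q j hj i).2 (hQ i)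
  choose c hc using fun i => Groth.Agent.Lib.Helper68.FunFldRes.exists_const hK P (hPr i)
  have hex : ∃ i, ¬ Q.1 (φ i / φ j - algebraMap k K (c i)) < 1 := by
    by_contra hcon
    rw [not_exists] at hcon
    apply hns
    refine ⟨j, hj, hP, hQ, fun i => ⟨c i, hc i, ?_⟩⟩
    have := hcon i
    rwa [not_not] at this
  obtain ⟨i, hi⟩ := hex
  set a := φ i / φ j - algebraMap k K (c i) with ha
  have haA : a ∈ Algebra.adjoin k (Set.range fun i => φ i / φ j) :=
    Subalgebra.sub_mem _ (Algebra.subset_adjoin ⟨i, rfl⟩) (Subalgebra.algebraMap_mem _ _)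
  have hQa : Q.1 a ≤ 1 := (Q.1.map_sub _ _).trans (max_le (hQr i) (Q.2.1 _))
  obtain ⟨d, hd⟩ := Groth.Agent.Lib.Helper68.FunFldRes.exists_const hK Q hQa
  have hd0 : d ≠ 0 := by
    rintro rfl
    rw [map_zero, sub_zero] at hd
    exact hi hd
  refine ⟨a - algebraMap k K d, Subalgebra.sub_mem _ haA (Subalgebra.algebraMap_mem _ _), ?_, hd⟩
  have h1 : P.1 (algebraMap k K d) = 1 := val_algebraMap P hd0
  have h2 : P.1 a < P.1 (algebraMap k K d) := by rw [h1]; exact hc i
  rw [Valuation.map_sub_eq_of_lt_right _ h2, h1]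

/-- Clearing the poles of `y` at the places where the ratios are regular, by a polynomial in the
ratios which is a unit at `P`. -/
theorem exists_clear [IsAlgClosed k] (hK : IsFunctionField k K) (P : Place k K) (j : ι)
    (hj : φ j ≠ 0) (hP : ∀ i, P.1 (φ i) ≤ P.1 (φ j)) (y : K)
    (hy : ∀ Q : Place k K, (∀ i, Q.1 (φ i) ≤ Q.1 (φ j)) → 1 < Q.1 y → ¬ SameImage φ P Q) :
    ∃ w ∈ Algebra.adjoin k (Set.range fun i => φ i / φ j), P.1 w = 1 ∧
      ∀ Q : Place k K, (∀ i, Q.1 (φ i) ≤ Q.1 (φ j)) → Q.1 (w * y) ≤ 1 := by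
  classical
  have hfin : {Q : Place k K | 1 < Q.1 y}.Finite := by
    have := finite_poles hK (fun _ : Unit => y)
    simpa using this
  set Pl := hfin.toFinset with hPl
  have hmem : ∀ Q, Q ∈ Pl ↔ 1 < Q.1 y := fun Q => by rw [hPl, Set.Finite.mem_toFinset]; rfl
  have hb : ∀ Q : Place k K, ∃ b ∈ Algebra.adjoin k (Set.range fun i => φ i / φ j),
      P.1 b = 1 ∧ ((∀ i, Q.1 (φ i) ≤ Q.1 (φ j)) → 1 < Q.1 y → Q.1 b < 1) := by
    intro Q
    by_cases h : (∀ i, Q.1 (φ i) ≤ Q.1 (φ j)) ∧ 1 < Q.1 y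
    · obtain ⟨b, hbA, hbP, hbQ⟩ := exists_sep φ hK P Q j hj hP h.1 (hy Q h.1 h.2)
      exact ⟨b, hbA, hbP, fun _ _ => hbQ⟩
    · exact ⟨1, Subalgebra.one_mem _, map_one _, fun h1 h2 => (h ⟨h1, h2⟩).elim⟩
  choose b hbA hbP hbQ using hb
  choose e he using fun Q : Place k K => exists_le_exp_nat (Q.1 y)
  refine ⟨∏ Q ∈ Pl, b Q ^ e Q, Subalgebra.prod_mem _ (fun Q _ => Subalgebra.pow_mem _ (hbA Q) _),
    ?_, ?_⟩
  · rw [map_prod]
    refine Finset.prod_eq_one fun Q _ => ?_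
    rw [map_pow, hbP, one_pow]
  · intro Q hQ
    have hQb : ∀ Q', Q.1 (b Q' ^ e Q') ≤ 1 := by
      intro Q'
      rw [map_pow]
      refine pow_le_one₀ (by simp) ?_
      exact val_le_one_of_mem_adjoin Q _
        (fun i => (val_div_le_one_iff φ Q j hj i).2 (hQ i)) (hbA Q')
    by_cases hQPl : Q ∈ Pl
    · rw [← Finset.prod_erase_mul Pl _ hQPl, mul_assoc, map_mul, map_prod]
      have h1 : ∏ Q' ∈ Pl.erase Q, Q.1 (b Q' ^ e Q') ≤ 1 :=
        Finset.prod_le_one' fun Q' _ => hQb Q'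
      have h2 : Q.1 (b Q ^ e Q * y) ≤ 1 := by
        rw [map_mul, map_pow]
        have h3 : Q.1 (b Q) ≤ exp (-1 : ℤ) :=
          lt_one_iff_le_exp_neg_one.1 (hbQ Q hQ ((hmem Q).1 hQPl))
        calc Q.1 (b Q) ^ e Q * Q.1 y ≤ exp (-1 : ℤ) ^ e Q * exp (e Q : ℤ) :=
              mul_le_mul' (pow_le_pow_left' h3 _) (he Q)
          _ = 1 := by
              rw [← exp_nsmul, ← exp_add]
              simp
      calc (∏ Q' ∈ Pl.erase Q, Q.1 (b Q' ^ e Q')) * Q.1 (b Q ^ e Q * y) ≤ 1 * 1 :=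
            mul_le_mul' h1 h2
        _ = 1 := one_mul _
    · rw [map_mul, map_prod]
      have h1 : ∏ Q' ∈ Pl, Q.1 (b Q' ^ e Q') ≤ 1 := Finset.prod_le_one' fun Q' _ => hQb Q'
      have h2 : Q.1 y ≤ 1 := by
        by_contra h
        exact hQPl ((hmem Q).2 (not_le.1 h))
      calc (∏ Q' ∈ Pl, Q.1 (b Q' ^ e Q')) * Q.1 y ≤ 1 * 1 := mul_le_mul' h1 h2
        _ = 1 := one_mul _

end sep

section bound

variable {ι : Type*} (φ : ι → K)

lemma frac_eq_top (hφ0 : ∀ i, φ i ≠ 0) (j j0 : ι)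
    (hbir : IntermediateField.adjoin k (Set.range fun i => φ i / φ j0) = ⊤) :
    IntermediateField.adjoin k (Set.range fun i => φ i / φ j) = ⊤ := by
  rw [eq_top_iff, ← hbir]
  apply IntermediateField.adjoin_le_iff.2
  rintro _ ⟨i, rfl⟩
  have hj := hφ0 j
  have hj0 := hφ0 j0
  have e : φ i / φ j0 = (φ i / φ j) / (φ j0 / φ j) := by field_simp
  show φ i / φ j0 ∈ IntermediateField.adjoin k (Set.range fun i => φ i / φ j)
  rw [e]
  exact div_mem (IntermediateField.subset_adjoin k _ ⟨i, rfl⟩)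
    (IntermediateField.subset_adjoin k _ ⟨j0, rfl⟩)

/-- **Conductor bound for the local ring** of a birational projective map: functions vanishing
to high order at all places over the image point of `P` lie in the local ring at `P`. -/
theorem exists_bound [IsAlgClosed k] (hK : IsFunctionField k K) [Finite ι] [Nonempty ι]
    (hφ0 : ∀ i, φ i ≠ 0) (j0 : ι)
    (hbir : IntermediateField.adjoin k (Set.range fun i => φ i / φ j0) = ⊤)
    (P : Place k K) (hfib : {Q : Place k K | SameImage φ P Q}.Finite) :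
    ∃ N : ℕ, ∀ z : K, (∀ Q : Place k K, SameImage φ P Q → Q.1 z ≤ exp (-(N : ℤ))) →
      InLocRing φ P z := by
  classical
  obtain ⟨j, hjmax⟩ := Finite.exists_max (fun i => P.1 (φ i))
  have hj := hφ0 j
  have hfrac := frac_eq_top φ hφ0 j j0 hbir
  obtain ⟨c, hcA, hc0, hcond⟩ := exists_conductor hK (fun i => φ i / φ j) hfrac
  set F := hfib.toFinset with hF
  have hN : ∃ N : ℕ, ∀ Q ∈ F, exp (-(N : ℤ)) ≤ Q.1 c := by
    choose e he using fun Q : Place k K => exists_le_exp_nat (Q.1 c)⁻¹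
    refine ⟨F.sup e, fun Q hQ => ?_⟩
    have h0 : ((e Q : ℕ) : ℤ) ≤ ((F.sup e : ℕ) : ℤ) := by exact_mod_cast Finset.le_sup hQ
    have h1 : (Q.1 c)⁻¹ ≤ exp ((F.sup e : ℕ) : ℤ) := (he Q).trans (exp_le_exp.2 h0)
    have hQc : Q.1 c ≠ 0 := (Valuation.ne_zero_iff _).2 hc0
    rw [exp_neg]
    exact inv_le_of_inv_le₀ (zero_lt_iff.2 hQc) h1
  obtain ⟨N, hN⟩ := hN
  refine ⟨N, fun z hz => ?_⟩
  have hyF : ∀ Q : Place k K, SameImage φ P Q → Q.1 (z / c) ≤ 1 := by
    intro Q hQ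
    have hQF : Q ∈ F := by rw [hF, Set.Finite.mem_toFinset]; exact hQ
    have hQc : Q.1 c ≠ 0 := (Valuation.ne_zero_iff _).2 hc0
    rw [map_div₀]
    exact (div_le_one₀ (zero_lt_iff.2 hQc)).2 ((hz Q hQ).trans (hN Q hQF))
  have hy : ∀ Q : Place k K, (∀ i, Q.1 (φ i) ≤ Q.1 (φ j)) → 1 < Q.1 (z / c) →
      ¬ SameImage φ P Q := fun Q _ h1 h2 => absurd (hyF Q h2) (not_le.2 h1)
  obtain ⟨w, hwA, hwP, hwB⟩ := exists_clear φ hK P j hj hjmax (z / c) hy
  have hmem : c * (w * (z / c)) ∈ Algebra.adjoin k (Set.range fun i => φ i / φ j) :=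
    hcond (w * (z / c))
      (fun Q hQ => hwB Q (fun i => (val_div_le_one_iff φ Q j hj i).1 (hQ i)))
  refine ⟨j, hj, hjmax, c * (w * (z / c)), hmem, w, hwA, hwP, ?_⟩
  field_simp

end bound

section nonsing

variable {ι : Type*} (φ : ι → K)

/-- Every place has the same image point as itself. -/
theorem sameImage_refl [IsAlgClosed k] (hK : IsFunctionField k K) [Finite ι] [Nonempty ι]
    (hφ0 : ∀ i, φ i ≠ 0) (P : Place k K) : SameImage φ P P := by
  obtain ⟨j, hjmax⟩ := Finite.exists_max (fun i => P.1 (φ i))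
  refine ⟨j, hφ0 j, hjmax, hjmax, fun i => ?_⟩
  obtain ⟨c, hc⟩ := Groth.Agent.Lib.Helper68.FunFldRes.exists_const hK P
    ((val_div_le_one_iff φ P j (hφ0 j) i).2 (hjmax i))
  exact ⟨c, hc, hc⟩

/-- Scaling all entries by `1 / φ j` does not change the local ring. -/
theorem inLocRing_div (j : ι) (hj : φ j ≠ 0) (P : Place k K) (z : K) :
    InLocRing (fun i => φ i / φ j) P z ↔ InLocRing φ P z := by
  have hgen : ∀ j', φ j' ≠ 0 →
      (fun i => (φ i / φ j) / (φ j' / φ j)) = fun i => φ i / φ j' := by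
    intro j' hj'
    funext i
    field_simp
  have hle : ∀ j', (∀ i, P.1 (φ i / φ j) ≤ P.1 (φ j' / φ j)) ↔ ∀ i, P.1 (φ i) ≤ P.1 (φ j') := by
    intro j'
    have hpos : 0 < P.1 (φ j) := zero_lt_iff.2 ((Valuation.ne_zero_iff _).2 hj)
    refine forall_congr' fun i => ?_
    rw [map_div₀, map_div₀, div_le_div_iff_of_pos_right hpos]
  constructor
  · rintro ⟨j', hj'0, hj'le, u, hu, w, hw, h⟩
    have hj' : φ j' ≠ 0 := fun h0 => hj'0 (by simp [h0])
    rw [hgen j' hj'] at hu hw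
    exact ⟨j', hj', (hle j').1 hj'le, u, hu, w, hw, h⟩
  · rintro ⟨j', hj', hj'le, u, hu, w, hw, h⟩
    refine ⟨j', div_ne_zero hj' hj, (hle j').2 hj'le, u, ?_, w, ?_, h⟩
    · rw [hgen j' hj']; exact hu
    · rw [hgen j' hj']; exact hw

/-- A birational projective map is nonsingular at `P` as soon as `P` is the only place over its
image point and the local ring contains a local parameter. -/
theorem isNonsingularAt_of [IsAlgClosed k] (hK : IsFunctionField k K) [Finite ι] [Nonempty ι]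
    (hφ0 : ∀ i, φ i ≠ 0) (j0 : ι)
    (hbir : IntermediateField.adjoin k (Set.range fun i => φ i / φ j0) = ⊤)
    (P : Place k K) (hfibP : ∀ Q : Place k K, SameImage φ P Q → Q = P)
    (t : K) (htR : InLocRing φ P t) (htP : P.1 t = exp (-1)) : IsNonsingularAt φ P := by
  classical
  intro z hz
  have hfib : {Q : Place k K | SameImage φ P Q}.Finite :=
    (Set.finite_singleton P).subset (fun Q hQ => hfibP Q hQ)
  obtain ⟨N, hN⟩ := exists_bound φ hK hφ0 j0 hbir P hfib
  obtain ⟨j, hjmax⟩ := Finite.exists_max (fun i => P.1 (φ i))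
  have hiff := inLocRing_iff φ P j (hφ0 j) hjmax
  have htL := (hiff t).1 htR
  have hbase : ∀ z : K, P.1 z ≤ exp (-(N : ℤ)) → LocAt φ P j z := fun z hz =>
    (hiff z).1 (hN z (fun Q hQ => by rw [hfibP Q hQ]; exact hz))
  have hstep : ∀ m : ℕ, (∀ z : K, P.1 z ≤ exp (-((m : ℤ) + 1)) → LocAt φ P j z) →
      ∀ z : K, P.1 z ≤ exp (-(m : ℤ)) → LocAt φ P j z := by
    intro m ih z hz
    have htm : P.1 (t ^ m) = exp (-(m : ℤ)) := by
      rw [map_pow, htP, ← exp_nsmul]
      congr 1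
      simp
    have htm0 : t ^ m ≠ 0 := by
      intro h0
      rw [h0, map_zero] at htm
      exact exp_ne_zero htm.symm
    have hz2 : P.1 z ≤ P.1 (t ^ m) := by rw [htm]; exact hz
    obtain ⟨c, hc⟩ := exists_sub_smul_lt hK P htm0 hz2
    rw [htm] at hc
    have h2 : P.1 (z - c • t ^ m) ≤ exp (-((m : ℤ) + 1)) := by
      apply lt_exp_succ_iff.1
      have e : -((m : ℤ) + 1) + 1 = -(m : ℤ) := by ring
      rw [e]
      exact hc
    have h3 := ih _ h2
    have e : z = (z - c • t ^ m) + c • t ^ m := by ring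
    rw [e]
    exact h3.add ((htL.pow m).smul c)
  have hall : ∀ d : ℕ, d ≤ N → ∀ z : K, P.1 z ≤ exp (-((N - d : ℕ) : ℤ)) → LocAt φ P j z := by
    intro d
    induction d with
    | zero =>
      intro _ z hz
      exact hbase z (by simpa using hz)
    | succ d ih =>
      intro hd z hz
      apply hstep (N - (d + 1)) ?_ z hz
      intro z' hz'
      apply ih (by omega) z'
      have e : ((N - d : ℕ) : ℤ) = ((N - (d + 1) : ℕ) : ℤ) + 1 := by
        have : N - d = (N - (d + 1)) + 1 := by omega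
        rw [this]
        push_cast
        ring
      rw [e]
      exact hz'
  have hfin := hall N le_rfl z (by simpa using hz)
  exact (hiff z).2 hfin

end nonsing

end Groth.Agent.Lib.Helper34.FunFldLocRing
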