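/-
Function fields of one variable: the divisor `[φ]` of a projective map (`FunFld.mapDiv`).
Author: helper34
-/
import Groth.Agent.Lib.Helper34.FunFldLocRing
import Groth.Prelude.Def_W4bk4goldsch45

set_option autoImplicit false

namespace Groth.Agent.Lib.Helper34.FunFldMapDiv

open FunFld WithZero Groth.Agent.Lib.Helper88.FF

variable {k K : Type*} [Field k] [Field K] [Algebra k K]

/-- The coefficient of `[φ]` at `P` is minus the least order of the entries. -/
theorem mapDiv_apply (hK : IsFunctionField k K) {ι : Type*} [Fintype ι] [Nonempty ι]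
    (φ : ι → K) (P : Place k K) :
    mapDiv k φ P = -Finset.univ.inf' Finset.univ_nonempty (fun i => P.ord (φ i)) := by
  classical
  have hfin : (Function.support fun P : Place k K =>
      -Finset.univ.inf' Finset.univ_nonempty (fun i => P.ord (φ i))).Finite := by
    refine (Set.finite_iUnion fun i => finite_support_ord hK (φ i)).subset ?_
    intro Q hQ
    rw [Function.mem_support] at hQ
    by_contra hcon
    apply hQ
    rw [Set.mem_iUnion, not_exists] at hcon
    have h0 : ∀ i, Q.ord (φ i) = 0 := by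
      intro i
      have := hcon i
      rwa [Function.mem_support, not_not] at this
    simp only [h0]
    rw [Finset.inf'_const, neg_zero]
  unfold mapDiv
  rw [dif_pos hfin]
  rfl

/-- With `φ j` of least order at `Q`, the coefficient of `[φ]` at `Q` is `- ord_Q (φ j)`. -/
theorem mapDiv_apply_of_max (hK : IsFunctionField k K) {ι : Type*} [Fintype ι] [Nonempty ι]
    (φ : ι → K) (hφ0 : ∀ i, φ i ≠ 0) (Q : Place k K) (j : ι)
    (hj : ∀ i, Q.1 (φ i) ≤ Q.1 (φ j)) : mapDiv k φ Q = -Q.ord (φ j) := by
  rw [mapDiv_apply hK]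
  congr 1
  apply le_antisymm (Finset.inf'_le _ (Finset.mem_univ j))
  apply Finset.le_inf'
  intro i _
  have h1 := hj i
  rw [val_eq_exp_neg_ord Q (hφ0 i), val_eq_exp_neg_ord Q (hφ0 j), exp_le_exp] at h1
  omega

/-- The intersection term `[φ](Q) + ord_Q ℓ` is the order of `ℓ / φ j`, `φ j` of least order. -/
theorem mapDiv_add_ord (hK : IsFunctionField k K) {ι : Type*} [Fintype ι] [Nonempty ι]
    (φ : ι → K) (hφ0 : ∀ i, φ i ≠ 0) (Q : Place k K) (j : ι)
    (hj : ∀ i, Q.1 (φ i) ≤ Q.1 (φ j)) {l : K} (hl : l ≠ 0) :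
    mapDiv k φ Q + Q.ord l = Q.ord (l / φ j) := by
  rw [mapDiv_apply_of_max hK φ hφ0 Q j hj, div_eq_mul_inv, ord_mul Q hl (inv_ne_zero (hφ0 j)),
    ord_inv]
  ring

end Groth.Agent.Lib.Helper34.FunFldMapDiv
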