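/-
Function fields of one variable over an algebraically closed constant field:
a complete linear system separating points and tangent vectors gives a projective map
which is nonsingular at every place.
Author: helper34
-/
import Groth.Agent.Lib.Helper34.FunFldNak

set_option autoImplicit false

namespace Groth.Agent.Lib.Helper34.FunFldEmb

open FunFld WithZero Groth.Agent.Lib.Helper88.FF Groth.Agent.Lib.Helper34.FunFldCond
  Groth.Agent.Lib.Helper34.FunFldLocRing Groth.Agent.Lib.Helper34.FunFldNak

variable {k K : Type*} [Field k] [Field K] [Algebra k K]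

/-- If `ℓ(F - Q) < ℓ(F)`, some `f ∈ L(F)` has exact value `exp (F Q)` at `Q`. -/
theorem exists_exact_of_ell_lt (hK : IsFunctionField k K) (F : Divisor k K) (Q : Place k K)
    (h : ell (F - Finsupp.single Q 1) < ell F) : ∃ f ∈ L F, Q.1 f = exp (F Q) := by
  classical
  have hnot : ¬ L F ≤ L (F - Finsupp.single Q 1) := by
    intro h'
    have := finiteDimensional_L hK (F - Finsupp.single Q 1)
    have h3 := Submodule.finrank_mono h'
    unfold ell at h
    omega
  obtain ⟨f, hf, hf'⟩ := SetLike.not_le_iff_exists.mp hnot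
  refine ⟨f, hf, ?_⟩
  have hf'' : ¬ ∀ Q' : Place k K, Q'.1 f ≤ exp ((F - Finsupp.single Q 1 : Divisor k K) Q') := hf'
  rw [not_forall] at hf''
  obtain ⟨Q', hQ'⟩ := hf''
  have hQQ : Q' = Q := by
    by_contra hne
    apply hQ'
    rw [Finsupp.sub_apply, Finsupp.single_apply, if_neg (Ne.symm hne), sub_zero]
    exact hf Q'
  subst hQQ
  rw [Finsupp.sub_apply, Finsupp.single_eq_same] at hQ'
  exact eq_exp_of_le_of_not_le (hf Q') hQ'

lemma div_mem_adjoin {ι : Type*} (φ : ι → K) (j : ι) {x : K}
    (hx : x ∈ Submodule.span k (Set.range φ)) :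
    x / φ j ∈ Algebra.adjoin k (Set.range fun i => φ i / φ j) := by
  induction hx using Submodule.span_induction with
  | mem x hx =>
    obtain ⟨i, rfl⟩ := hx
    exact Algebra.subset_adjoin ⟨i, rfl⟩
  | zero => simp
  | add x y _ _ hx hy => rw [add_div]; exact add_mem hx hy
  | smul a x _ hx => rw [smul_div_assoc]; exact Subalgebra.smul_mem _ hx a

lemma val_le_of_mem_span {ι : Type*} (φ : ι → K) (Q : Place k K) (j : ι)
    (hj : ∀ i, Q.1 (φ i) ≤ Q.1 (φ j)) {x : K} (hx : x ∈ Submodule.span k (Set.range φ)) :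
    Q.1 x ≤ Q.1 (φ j) := by
  induction hx using Submodule.span_induction with
  | mem x hx =>
    obtain ⟨i, rfl⟩ := hx
    exact hj i
  | zero => simp
  | add x y _ _ hx hy => exact (Q.1.map_add _ _).trans (max_le hx hy)
  | smul a x _ hx => exact (val_smul_le Q a x).trans hx

/-- **Embedding criterion**: a projective map given by a basis of `L(D)`, where `L(D)` has no
base points and separates `P` from every place (including infinitely near ones), is nonsingular
at `P`. -/
theorem isNonsingularAt_of_ell [IsAlgClosed k] (hK : IsFunctionField k K) {ι : Type*} [Finite ι]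
    [Nonempty ι] (φ : ι → K) (hφ0 : ∀ i, φ i ≠ 0) (D : Divisor k K)
    (hspan : Submodule.span k (Set.range φ) = L D) (P : Place k K)
    (h1 : ∀ Q : Place k K, ell (D - Finsupp.single Q 1) < ell D)
    (h2 : ∀ Q : Place k K,
      ell (D - Finsupp.single P 1 - Finsupp.single Q 1) < ell (D - Finsupp.single P 1)) :
    IsNonsingularAt φ P := by
  classical
  have hmemL : ∀ i, φ i ∈ L D := fun i => by
    rw [← hspan]
    exact Submodule.subset_span ⟨i, rfl⟩
  -- an entry of least order at `Q` has order exactly `-D(Q)`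
  have hexact : ∀ (Q : Place k K) (j : ι), (∀ i, Q.1 (φ i) ≤ Q.1 (φ j)) →
      Q.1 (φ j) = exp (D Q) := by
    intro Q j hj
    refine le_antisymm (hmemL j Q) ?_
    obtain ⟨f, hf, hfQ⟩ := exists_exact_of_ell_lt hK D Q (h1 Q)
    rw [← hspan] at hf
    rw [← hfQ]
    exact val_le_of_mem_span φ Q j hj hf
  have hsubL : L (D - Finsupp.single P 1) ≤ L D :=
    L_mono (sub_le_self _ (Finsupp.single_nonneg.2 zero_le_one))
  have hexp : (exp (-1 : ℤ) : ℤᵐ⁰) < 1 := lt_one_iff_le_exp_neg_one.2 le_rfl
  -- fibre
  have hfibP : ∀ Q : Place k K, SameImage φ P Q → Q = P := by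
    intro Q hQ
    by_contra hne
    obtain ⟨j', hj'0, hPj', hQj', -⟩ := id hQ
    obtain ⟨s, hs, hsQ⟩ := exists_exact_of_ell_lt hK (D - Finsupp.single P 1) Q (h2 Q)
    have hsD : s ∈ Submodule.span k (Set.range φ) := by
      rw [hspan]
      exact hsubL hs
    have hsA := div_mem_adjoin φ j' hsD
    have hin : InLocRing φ P (s / φ j') :=
      ⟨j', hj'0, hPj', _, hsA, 1, Subalgebra.one_mem _, map_one _, mul_one _⟩
    have hfw := (Groth.Agent.S11078.forward φ P Q hQ _ hin).2
    have hPs : P.1 (s / φ j') < 1 := by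
      rw [map_div₀, hexact P j' hPj']
      have h3 := hs P
      rw [Finsupp.sub_apply, Finsupp.single_eq_same] at h3
      have h4 : P.1 s / exp (D P) ≤ exp (D P - 1) / exp (D P) :=
        div_le_div_of_nonneg_right h3 (by simp)
      refine lt_of_le_of_lt h4 ?_
      rw [← exp_sub]
      simpa using hexp
    have hQs : Q.1 (s / φ j') = 1 := by
      rw [map_div₀, hexact Q j' hQj', hsQ, Finsupp.sub_apply, Finsupp.single_apply,
        if_neg (Ne.symm hne), sub_zero]
      exact div_self exp_ne_zero
    have := hfw.2 hPs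
    rw [hQs] at this
    exact lt_irrefl _ this
  -- uniformizer
  obtain ⟨j, hjmax⟩ := Finite.exists_max (fun i => P.1 (φ i))
  obtain ⟨s, hs, hsP⟩ := exists_exact_of_ell_lt hK (D - Finsupp.single P 1) P (h2 P)
  have hsD : s ∈ Submodule.span k (Set.range φ) := by
    rw [hspan]
    exact hsubL hs
  have hsA := div_mem_adjoin φ j hsD
  have hin : InLocRing φ P (s / φ j) :=
    ⟨j, hφ0 j, hjmax, _, hsA, 1, Subalgebra.one_mem _, map_one _, mul_one _⟩
  have hval : P.1 (s / φ j) = exp (-1) := by
    rw [map_div₀, hexact P j hjmax, hsP, Finsupp.sub_apply, Finsupp.single_eq_same, ← exp_sub]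
    congr 1
    ring
  exact isNonsingularAt_of_fibre_of_uniformizer φ hK hφ0 P hfibP _ hin hval

end Groth.Agent.Lib.Helper34.FunFldEmb
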