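import Groth.Agent.Lib.Helper34.FunFldConstFin
import Mathlib.FieldTheory.IsAlgClosed.Basic
import Mathlib.LinearAlgebra.FreeModule.Basic

/-!
# Places of `K̄ = k̄ K` over places of degree one, and the Frobenius map (helper34)

`Kb = K[kb]` is generated over `K` by a field of constants `kb ⊇ k`.  If `Q` is a place of `Kb/kb`
lying over a place `P` of `K/k` of degree one, then for `k`-linearly independent constants `cᵢ`
we have `v_Q (∑ xᵢ cᵢ) = max v_Q (xᵢ)`.  Consequently a ring map `F` fixing `kb` and raising the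
elements of `K` to the `q`-th power satisfies `v_Q (F z) = v_Q (z) ^ q`.
-/

set_option autoImplicit false

namespace Groth.Agent.Lib.Helper34.FunFldFrobFix

open FunFld WithZero Groth.Agent.Lib.Helper88 Groth.Agent.Lib.Helper88.FF
  Groth.Agent.Lib.Helper44.FFExt Groth.Agent.Lib.Helper34.FunFldConstFin

variable {k K kb Kb : Type*} [Field k] [Field K] [Algebra k K] [Field kb] [Algebra k kb]
  [Field Kb] [Algebra K Kb] [Algebra kb Kb] [Algebra k Kb] [IsScalarTower k K Kb]
  [IsScalarTower k kb Kb]

omit [Field k] [Field K] [Algebra k K] [Algebra k kb] [Algebra K Kb] [Algebra k Kb]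
  [IsScalarTower k K Kb] [IsScalarTower k kb Kb] in
/-- Nonzero constants are units at every place. -/
lemma val_const (Q : Place kb Kb) {c : kb} (hc : c ≠ 0) : Q.1 (algebraMap kb Kb c) = 1 := by
  apply val_eq_one_of_le_of_inv_le ((map_ne_zero _).2 hc) (Q.2.1 c)
  rw [← map_inv₀]
  exact Q.2.1 c⁻¹

section degone

attribute [-instance] IsLocalRing.ResidueField.algebra IsLocalRing.instModuleResidueFieldOfAlgebra

omit [Field kb] [Algebra k kb] [Field Kb] [Algebra K Kb] [Algebra kb Kb] [Algebra k Kb]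
  [IsScalarTower k K Kb] [IsScalarTower k kb Kb] in
/-- At a place of degree one every integral element is congruent to a constant. -/
lemma exists_const_of_deg_one {P : Place k K} (hdeg : P.deg = 1) {x : K} (hx : P.1 x ≤ 1) :
    ∃ a : k, P.1 (x - algebraMap k K a) < 1 := by
  obtain ⟨a, ha⟩ := (finrank_eq_one_iff_of_nonzero' (1 : IsLocalRing.ResidueField P.O)
    one_ne_zero).1 hdeg (IsLocalRing.residue P.O ⟨x, hx⟩)
  refine ⟨a, ?_⟩
  have h1 : IsLocalRing.residue P.O (⟨x, hx⟩ - algebraMap k P.O a) = 0 := by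
    rw [map_sub, ← ha]
    exact sub_eq_zero.2 (Algebra.algebraMap_eq_smul_one a).symm
  rw [IsLocalRing.residue_eq_zero_iff, Valuation.mem_maximalIdeal_iff] at h1
  exact h1

end degone

section formula

variable {P : Place k K} (hdeg : P.deg = 1) (Q : Place kb Kb) {e : ℕ} (he : e ≠ 0)
  (hQP : ∀ x : K, Q.1 (algebraMap K Kb x) = P.1 x ^ e)
  {I : Type*} {c : I → kb} (hc : LinearIndependent k c)

include hdeg he hQP hc in
/-- The unit case of the valuation formula. -/
lemma val_sum_eq_one (s : Finset I) (x : I → K) (hx : ∀ i ∈ s, P.1 (x i) ≤ 1) {i₀ : I}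
    (hi₀ : i₀ ∈ s) (h1 : P.1 (x i₀) = 1) :
    Q.1 (∑ i ∈ s, algebraMap K Kb (x i) * algebraMap kb Kb (c i)) = 1 := by
  classical
  have hex : ∀ i, ∃ a : k, i ∈ s → P.1 (x i - algebraMap k K a) < 1 := by
    intro i
    by_cases h : i ∈ s
    · obtain ⟨a, ha⟩ := exists_const_of_deg_one hdeg (hx i h)
      exact ⟨a, fun _ => ha⟩
    · exact ⟨0, fun h' => absurd h' h⟩
  choose a ha using hex
  have ha0 : a i₀ ≠ 0 := by
    intro h0
    have := ha i₀ hi₀
    rw [h0, map_zero, sub_zero, h1] at this
    exact lt_irrefl _ this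
  have hsum0 : ∑ i ∈ s, a i • c i ≠ 0 := by
    intro h0
    exact ha0 (linearIndependent_iff'.1 hc s a h0 i₀ hi₀)
  have hsplit : ∑ i ∈ s, algebraMap K Kb (x i) * algebraMap kb Kb (c i) =
      algebraMap kb Kb (∑ i ∈ s, a i • c i) +
        ∑ i ∈ s, algebraMap K Kb (x i - algebraMap k K (a i)) * algebraMap kb Kb (c i) := by
    rw [map_sum, ← Finset.sum_add_distrib]
    apply Finset.sum_congr rfl
    intro i _
    rw [Algebra.smul_def, map_mul, ← IsScalarTower.algebraMap_apply k kb Kb,
      IsScalarTower.algebraMap_apply k K Kb, map_sub]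
    ring
  have hfirst : Q.1 (algebraMap kb Kb (∑ i ∈ s, a i • c i)) = 1 := val_const Q hsum0
  have hsecond : Q.1 (∑ i ∈ s, algebraMap K Kb (x i - algebraMap k K (a i)) *
      algebraMap kb Kb (c i)) < 1 := by
    apply Valuation.map_sum_lt Q.1 one_ne_zero
    intro i hi
    rw [map_mul, hQP]
    calc P.1 (x i - algebraMap k K (a i)) ^ e * Q.1 (algebraMap kb Kb (c i))
        ≤ P.1 (x i - algebraMap k K (a i)) ^ e * 1 := mul_le_mul' le_rfl (Q.2.1 _)
      _ = P.1 (x i - algebraMap k K (a i)) ^ e := mul_one _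
      _ < 1 := pow_lt_one₀ zero_le' (ha i hi) he
  rw [hsplit, Valuation.map_add_eq_of_lt_left Q.1 (by rw [hfirst]; exact hsecond), hfirst]

include hdeg he hQP hc in
/-- **Valuation formula**: `v_Q (∑ xᵢ cᵢ) = max v_Q (xᵢ)`. -/
theorem val_sum (s : Finset I) (x : I → K) {i₀ : I} (hi₀ : i₀ ∈ s)
    (hmax : ∀ i ∈ s, P.1 (x i) ≤ P.1 (x i₀)) :
    Q.1 (∑ i ∈ s, algebraMap K Kb (x i) * algebraMap kb Kb (c i)) = P.1 (x i₀) ^ e := by
  rcases eq_or_ne (x i₀) 0 with h0 | h0
  · have hall : ∀ i ∈ s, x i = 0 := by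
      intro i hi
      have := hmax i hi
      rw [h0, map_zero] at this
      exact (Valuation.zero_iff P.1).1 (le_antisymm this zero_le')
    rw [h0, map_zero, zero_pow he, Finset.sum_eq_zero, map_zero]
    intro i hi
    rw [hall i hi, map_zero, zero_mul]
  · have hpos : P.1 (x i₀) ≠ 0 := (Valuation.ne_zero_iff P.1).2 h0
    have hfac : ∑ i ∈ s, algebraMap K Kb (x i) * algebraMap kb Kb (c i) =
        algebraMap K Kb (x i₀) *
          ∑ i ∈ s, algebraMap K Kb ((x i₀)⁻¹ * x i) * algebraMap kb Kb (c i) := by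
      rw [Finset.mul_sum]
      apply Finset.sum_congr rfl
      intro i _
      rw [← mul_assoc, ← map_mul, ← mul_assoc, mul_inv_cancel₀ h0, one_mul]
    rw [hfac, map_mul, hQP,
      val_sum_eq_one hdeg Q he hQP hc s (fun i => (x i₀)⁻¹ * x i) ?_ hi₀ ?_, mul_one]
    · intro i hi
      show P.1 ((x i₀)⁻¹ * x i) ≤ 1
      rw [map_mul, map_inv₀]
      exact (inv_mul_le_iff₀ (zero_lt_iff.2 hpos)).2 (by rw [mul_one]; exact hmax i hi)
    · show P.1 ((x i₀)⁻¹ * x i₀) = 1
      rw [inv_mul_cancel₀ h0, map_one]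

end formula

section repr

/-- Every element of `Kb = K[kb]` is a `K`-combination of members of a `k`-basis of `kb`. -/
theorem exists_repr (hgen : Algebra.adjoin K (Set.range (algebraMap kb Kb)) = ⊤)
    {I : Type*} (b : Module.Basis I k kb) (z : Kb) :
    ∃ (s : Finset I) (x : I → K),
      z = ∑ i ∈ s, algebraMap K Kb (x i) * algebraMap kb Kb (b i) := by
  classical
  have h1 : z ∈ Subalgebra.toSubmodule (Algebra.adjoin K (Set.range (algebraMap kb Kb))) := by
    rw [hgen, Algebra.top_toSubmodule]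
    exact Submodule.mem_top
  rw [Algebra.adjoin_eq_span] at h1
  have hcl : Submonoid.closure (Set.range (algebraMap kb Kb)) =
      (MonoidHom.mrange (algebraMap kb Kb : kb →* Kb)) := by
    have : Set.range (algebraMap kb Kb) =
        ((MonoidHom.mrange (algebraMap kb Kb : kb →* Kb) : Submonoid Kb) : Set Kb) := by
      ext y
      simp
    rw [this, Submonoid.closure_eq]
  rw [hcl] at h1
  have hle : Submodule.span K ((MonoidHom.mrange (algebraMap kb Kb : kb →* Kb) : Submonoid Kb) :
      Set Kb) ≤ Submodule.span K (Set.range fun i => algebraMap kb Kb (b i)) := by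
    rw [Submodule.span_le]
    rintro _ ⟨c, rfl⟩
    show algebraMap kb Kb c ∈ _
    have hc := b.linearCombination_repr c
    rw [Finsupp.linearCombination_apply, Finsupp.sum] at hc
    rw [← hc, map_sum]
    refine Submodule.sum_mem _ (fun i _ => ?_)
    rw [Algebra.smul_def ((b.repr c) i) (b i), map_mul, ← IsScalarTower.algebraMap_apply k kb Kb,
      IsScalarTower.algebraMap_apply k K Kb, ← Algebra.smul_def (algebraMap k K (b.repr c i))]
    exact Submodule.smul_mem _ _ (Submodule.subset_span ⟨i, rfl⟩)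
  obtain ⟨f, hf⟩ := Finsupp.mem_span_range_iff_exists_finsupp.1 (hle h1)
  refine ⟨f.support, fun i => f i, ?_⟩
  rw [← hf, Finsupp.sum]
  apply Finset.sum_congr rfl
  intro i _
  rw [Algebra.smul_def]

end repr

section frob

variable {P : Place k K} (hdeg : P.deg = 1) (Q : Place kb Kb) {e : ℕ} (he : e ≠ 0)
  (hQP : ∀ x : K, Q.1 (algebraMap K Kb x) = P.1 x ^ e)

include hdeg he hQP in
/-- **Frobenius multiplies orders by `q`** at places over places of degree one. -/
theorem val_frob (hgen : Algebra.adjoin K (Set.range (algebraMap kb Kb)) = ⊤)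
    (F : Kb →+* Kb) (hF1 : ∀ c : kb, F (algebraMap kb Kb c) = algebraMap kb Kb c) {q : ℕ}
    (hq : q ≠ 0) (hF2 : ∀ x : K, F (algebraMap K Kb x) = algebraMap K Kb x ^ q) (z : Kb) :
    Q.1 (F z) = Q.1 z ^ q := by
  classical
  obtain ⟨s, x, rfl⟩ := exists_repr (k := k) hgen (Module.Free.chooseBasis k kb) z
  have hc := (Module.Free.chooseBasis k kb).linearIndependent
  rcases s.eq_empty_or_nonempty with rfl | hs
  · rw [Finset.sum_empty, map_zero, map_zero, zero_pow hq]
  obtain ⟨i₀, hi₀, hmax⟩ := Finset.exists_max_image s (fun i => P.1 (x i)) hs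
  have hFz : F (∑ i ∈ s, algebraMap K Kb (x i) * algebraMap kb Kb (Module.Free.chooseBasis k kb i)) =
      ∑ i ∈ s, algebraMap K Kb (x i ^ q) * algebraMap kb Kb (Module.Free.chooseBasis k kb i) := by
    rw [map_sum]
    apply Finset.sum_congr rfl
    intro i _
    rw [map_mul, hF1, hF2, map_pow]
  rw [hFz, val_sum hdeg Q he hQP hc s x hi₀ hmax,
    val_sum hdeg Q he hQP hc s (fun i => x i ^ q) hi₀ ?_, map_pow, ← pow_mul, ← pow_mul,
    mul_comm]
  intro i hi
  show P.1 (x i ^ q) ≤ P.1 (x i₀ ^ q)
  rw [map_pow, map_pow]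
  exact pow_le_pow_left₀ zero_le' (hmax i hi) q

end frob

section main

attribute [-instance] IsLocalRing.ResidueField.algebra IsLocalRing.instModuleResidueFieldOfAlgebra

open Polynomial Groth.Agent.Lib.Helper34.FunFldNonsing

/-- If `Q` lies over `P` and some monic `g ∈ k[X]` has `g(a) ∈ m_P`, then `a ≡ c mod m_Q` for a
constant `c` of the algebraically closed field `kb`. -/
lemma exists_const_of_aeval [IsAlgClosed kb] (Q : Place kb Kb) (a : Kb) (g : k[X]) (hg : g.Monic)
    (hlt : Q.1 (aeval a g) < 1) : ∃ c : kb, Q.1 (a - algebraMap kb Kb c) < 1 := by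
  classical
  have hsplit : (g.map (algebraMap k kb)).Splits := IsAlgClosed.splits _
  have hmonic : (g.map (algebraMap k kb)).Monic := hg.map _
  have h1 := hsplit.eq_prod_roots_of_monic hmonic
  have h2 : aeval a g = ((g.map (algebraMap k kb)).roots.map
      (fun c => a - algebraMap kb Kb c)).prod := by
    rw [← aeval_map_algebraMap kb a g]
    conv_lhs => rw [h1]
    rw [map_multiset_prod, Multiset.map_map]
    congr 1
    apply Multiset.map_congr rfl
    intro c _
    simp
  by_contra hcon
  push Not at hcon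
  rw [h2, map_multiset_prod, Multiset.map_map] at hlt
  refine absurd hlt (not_lt.2 (Multiset.one_le_prod_of_one_le ?_))
  intro x hx
  obtain ⟨c, -, rfl⟩ := Multiset.mem_map.1 hx
  exact hcon c

/-- **Frobenius-fixed places** of `K̄ = k̄ K` are the places over places of degree one. -/
theorem frob_fixed_iff
    (k K kb Kb : Type*) [Field k] [Finite k] [Field K] [Algebra k K] [Field kb] [Algebra k kb]
    [IsAlgClosure k kb] [Field Kb] [Algebra K Kb] [Algebra kb Kb]
    (hK : IsFunctionField k K)
    (hc : ∀ c : k, algebraMap K Kb (algebraMap k K c) = algebraMap kb Kb (algebraMap k kb c))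
    (hgen : Algebra.adjoin K (Set.range (algebraMap kb Kb)) = ⊤)
    (F : Kb →+* Kb) (hF1 : ∀ c : kb, F (algebraMap kb Kb c) = algebraMap kb Kb c)
    (hF2 : ∀ x : K, F (algebraMap K Kb x) = algebraMap K Kb x ^ Nat.card k)
    (Q : Place kb Kb) :
    (∀ z : Kb, Q.1 (F z) < 1 ↔ Q.1 z < 1) ↔
      ∃ P : Place k K, (∀ x : K, Q.1 (algebraMap K Kb x) ≤ 1 ↔ P.1 x ≤ 1) ∧ P.deg = 1 := by
  classical
  letI : Algebra k Kb := ((algebraMap K Kb).comp (algebraMap k K)).toAlgebra
  haveI : IsScalarTower k K Kb := IsScalarTower.of_algebraMap_eq (fun _ => rfl)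
  haveI : IsScalarTower k kb Kb := IsScalarTower.of_algebraMap_eq (fun c => hc c)
  haveI : IsAlgClosed kb := IsAlgClosure.isAlgClosed k
  have hq : Nat.card k ≠ 0 := Nat.card_pos.ne'
  -- `Kb / K` is algebraic
  haveI : Algebra.IsAlgebraic K Kb := by
    have hle : Algebra.adjoin K (Set.range (algebraMap kb Kb)) ≤ integralClosure K Kb := by
      apply Algebra.adjoin_le
      rintro _ ⟨c, rfl⟩
      have h1 : IsIntegral k (algebraMap kb Kb c) :=
        (Algebra.IsIntegral.isIntegral (R := k) c).map (IsScalarTower.toAlgHom k kb Kb)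
      exact h1.tower_top
    constructor
    intro z
    have hz : z ∈ Algebra.adjoin K (Set.range (algebraMap kb Kb)) := by
      rw [hgen]
      exact Algebra.mem_top
    exact (hle hz).isAlgebraic
  -- the place below
  obtain ⟨P₀, hP₀⟩ := exists_isOver_below (K := K) (toK (k := k) Q)
  have he0 := ramIdx_pos hP₀
  have hQP₀ : ∀ x : K, Q.1 (algebraMap K Kb x) = P₀.1 x ^ ramIdx (toK (k := k) Q) P₀ :=
    isOverWith_ramIdx hP₀
  have hle₀ : ∀ x : K, Q.1 (algebraMap K Kb x) ≤ 1 ↔ P₀.1 x ≤ 1 := by
    intro x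
    rw [hQP₀]
    constructor
    · intro h
      by_contra hcon
      push Not at hcon
      exact absurd h (not_le.2 (one_lt_pow₀ hcon he0.ne'))
    · intro h
      exact pow_le_one₀ zero_le' h
  constructor
  · intro hfix
    refine ⟨P₀, hle₀, ?_⟩
    haveI hfin : Module.Finite k (IsLocalRing.ResidueField P₀.O) :=
      finiteDimensional_residueField hK P₀
    have hpow : ∀ y : IsLocalRing.ResidueField P₀.O, y ^ (Nat.card k ^ 1) = y := by
      intro y
      obtain ⟨a, rfl⟩ := IsLocalRing.residue_surjective y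
      rw [pow_one, ← map_pow, ← sub_eq_zero, ← map_sub, IsLocalRing.residue_eq_zero_iff,
        Valuation.mem_maximalIdeal_iff]
      -- the minimal polynomial of the residue
      have hint : IsIntegral k (IsLocalRing.residue P₀.O a) := Algebra.IsIntegral.isIntegral _
      have hg0 : IsLocalRing.residue P₀.O (aeval a (minpoly k (IsLocalRing.residue P₀.O a))) = 0 := by
        have := aeval_algHom_apply (resAlg P₀) a (minpoly k (IsLocalRing.residue P₀.O a))
        rw [resAlg_apply, resAlg_apply] at this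
        rw [← this]
        exact minpoly.aeval k _
      rw [IsLocalRing.residue_eq_zero_iff, Valuation.mem_maximalIdeal_iff] at hg0
      have hg1 : Q.1 (aeval (algebraMap K Kb (a : K)) (minpoly k (IsLocalRing.residue P₀.O a))) < 1 := by
        have := aeval_algHom_apply (f₂ (K' := Kb) P₀) a (minpoly k (IsLocalRing.residue P₀.O a))
        rw [f₂_apply, f₂_apply] at this
        rw [this, hQP₀]
        exact pow_lt_one₀ zero_le' hg0 he0.ne'
      obtain ⟨c, hc'⟩ := exists_const_of_aeval Q _ _ (minpoly.monic hint) hg1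
      have h3 := (hfix _).2 hc'
      rw [map_sub, hF1, hF2] at h3
      have h4 : Q.1 (algebraMap K Kb ((a : K) ^ Nat.card k - (a : K))) < 1 := by
        have : algebraMap K Kb ((a : K) ^ Nat.card k - (a : K)) =
            (algebraMap K Kb (a : K) ^ Nat.card k - algebraMap kb Kb c) -
              (algebraMap K Kb (a : K) - algebraMap kb Kb c) := by
          rw [map_sub, map_pow]
          ring
        rw [this]
        exact lt_of_le_of_lt (Valuation.map_sub _ _ _) (max_lt h3 hc')
      rw [hQP₀] at h4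
      by_contra hcon
      push Not at hcon
      exact absurd h4 (not_lt.2 (one_le_pow₀ hcon))
    have h5 := finrank_le_of_pow_eq one_ne_zero hpow
    exact le_antisymm h5 (deg_pos hK P₀)
  · rintro ⟨P, hP, hdeg⟩
    have hPP : P₀ = P := place_eq_of_le (fun y hy => (hP y).1 ((hle₀ y).2 hy))
    subst hPP
    intro z
    rw [val_frob (k := k) hdeg Q he0.ne' hQP₀ hgen F hF1 hq hF2 z]
    constructor
    · intro h
      by_contra hcon
      push Not at hcon
      exact absurd h (not_lt.2 (one_le_pow₀ hcon))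
    · intro h
      exact pow_lt_one₀ zero_le' h hq

end main

end Groth.Agent.Lib.Helper34.FunFldFrobFix
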