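import Groth.Agent.Lib.Helper34.FunFldZetaSplit

/-!
# Constant field extensions of function fields, part 3 (helper34)

* `deg_pos'`, `deg_le_of_isOver`: residue degrees in a finite extension `K'/K` (over `k`).
* `exists_places_above`: complete splitting of a place `P` with `deg f ∣ deg P` in `K' = K(α)`,
  `f(α) = 0`, `f ∈ k[X]` monic irreducible of degree `[K' : K]`, `k` finite.
-/

set_option autoImplicit false

namespace Groth.Agent.Lib.Helper34.FunFldZetaSplit

open FunFld Polynomial WithZero Groth.Agent.Lib.Helper88.FF Groth.Agent.Lib.Helper44.FFExt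
  Groth.Agent.Lib.Helper34.FunFldZetaIrr

variable {k K K' : Type*} [Field k] [Field K] [Field K'] [Algebra k K] [Algebra K K']
  [Algebra k K'] [IsScalarTower k K K']

/-- Places of a finite extension of a function field have positive (finite) degree over `k`. -/
theorem deg_pos' [FiniteDimensional K K'] (hK : IsFunctionField k K) (Q : Place k K') :
    0 < Q.deg := by
  rw [deg_eq_finrank_mul_deg Q]
  have hK' := isFunctionField_algebraicClosure (K' := K') hK
  have := finiteDimensional_algebraicClosure (K' := K') hK
  exact Nat.mul_pos Module.finrank_pos (deg_pos hK' _)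

/-- The ring map `O_P → O_Q` for `Q` over `P`. -/
noncomputable def toO {Q : Place k K'} {P : Place k K} (h : IsOver Q P) : P.O →+* Q.O where
  toFun x := ⟨algebraMap K K' x.1, by
    obtain ⟨e, he⟩ := h
    show Q.1 (algebraMap K K' x.1) ≤ 1
    rw [he]
    exact pow_le_one₀ zero_le' x.2⟩
  map_one' := Subtype.ext (map_one _)
  map_mul' x y := Subtype.ext (map_mul _ _ _)
  map_zero' := Subtype.ext (map_zero _)
  map_add' x y := Subtype.ext (map_add _ _ _)

instance {Q : Place k K'} {P : Place k K} (h : IsOver Q P) : IsLocalHom (toO h) := by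
  constructor
  intro x hx
  rw [← IsLocalRing.notMem_maximalIdeal, Valuation.mem_maximalIdeal_iff] at hx ⊢
  intro hlt
  apply hx
  obtain ⟨e, he⟩ := h
  show Q.1 (algebraMap K K' x.1) < 1
  rw [he]
  exact pow_lt_one₀ zero_le' hlt (isOverWith_ne_zero he)

theorem deg_le_of_isOver [FiniteDimensional K K'] (hK : IsFunctionField k K) {Q : Place k K'}
    {P : Place k K} (h : IsOver Q P) : P.deg ≤ Q.deg := by
  have hfin : Module.Finite k (IsLocalRing.ResidueField Q.O) :=
    Module.finite_of_finrank_pos (deg_pos' hK Q)
  let g : IsLocalRing.ResidueField P.O →ₗ[k] IsLocalRing.ResidueField Q.O :=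
    { toFun := IsLocalRing.ResidueField.map (toO h)
      map_add' := map_add _
      map_smul' := by
        intro c x
        show IsLocalRing.ResidueField.map (toO h)
            (algebraMap k (IsLocalRing.ResidueField P.O) c * x) =
          algebraMap k (IsLocalRing.ResidueField Q.O) c * IsLocalRing.ResidueField.map (toO h) x
        rw [map_mul]
        congr 1
        show IsLocalRing.ResidueField.map (toO h) (IsLocalRing.residue P.O (algebraMap k P.O c)) =
          IsLocalRing.residue Q.O (algebraMap k Q.O c)
        rw [IsLocalRing.ResidueField.map_residue]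
        congr 1
        apply Subtype.ext
        exact (IsScalarTower.algebraMap_apply k K K' c).symm }
  have hinj : Function.Injective g := (IsLocalRing.ResidueField.map (toO h)).injective
  exact LinearMap.finrank_le_finrank_of_injective hinj


open scoped Classical in
/-- Over a finite field `k`, an irreducible `f ∈ k[X]` whose degree divides `deg P` has
`deg f` distinct roots in the residue field of `P`. -/
theorem card_roots_residue [Finite k] (hK : IsFunctionField k K) {f : k[X]}
    (hirr : Irreducible f) (P : Place k K) (hdvd : f.natDegree ∣ P.deg) :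
    (f.map (algebraMap k (IsLocalRing.ResidueField P.O))).roots.toFinset.card = f.natDegree := by
  classical
  have hfd := finiteDimensional_residueField hK P
  have hfin : Finite (IsLocalRing.ResidueField P.O) := Module.finite_of_finite k
  have hcard : Nat.card (IsLocalRing.ResidueField P.O) = Nat.card k ^ P.deg :=
    Module.natCard_eq_pow_finrank
  have h1 : f ∣ X ^ (Nat.card k) ^ P.deg - X :=
    hirr.natDegree_dvd_iff_dvd_X_pow_card_pow_sub_X.1 hdvd
  have h2 : f.map (algebraMap k (IsLocalRing.ResidueField P.O)) ∣
      (X ^ Nat.card (IsLocalRing.ResidueField P.O) - X : (IsLocalRing.ResidueField P.O)[X]) := by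
    have := Polynomial.map_dvd (algebraMap k (IsLocalRing.ResidueField P.O)) h1
    rwa [Polynomial.map_sub, Polynomial.map_pow, Polynomial.map_X, ← hcard] at this
  have hne : (X ^ Nat.card (IsLocalRing.ResidueField P.O) - X :
      (IsLocalRing.ResidueField P.O)[X]) ≠ 0 :=
    FiniteField.X_pow_card_sub_X_ne_zero _ Finite.one_lt_card
  have hsplit : (f.map (algebraMap k (IsLocalRing.ResidueField P.O))).Splits :=
    Polynomial.splits_X_pow_nat_card_sub_X.of_dvd hne h2
  have hsep : (f.map (algebraMap k (IsLocalRing.ResidueField P.O))).Separable :=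
    (PerfectField.separable_of_irreducible hirr).map
  rw [Multiset.toFinset_card_of_nodup (Polynomial.nodup_roots hsep),
    ← hsplit.natDegree_eq_card_roots, Polynomial.natDegree_map]


/-- **Complete splitting.** If `deg f ∣ deg P` then there are `deg f = [K' : K]` places of `K'`
over `P`, each of the same degree over `k` as `P`. -/
theorem exists_places_above [Finite k] [FiniteDimensional K K'] (hK : IsFunctionField k K)
    {f : k[X]} (hf : f.Monic) (hirr : Irreducible f) {α : K'} (hα : aeval α f = 0)
    (hrank : Module.finrank K K' = f.natDegree) (P : Place k K) (hdvd : f.natDegree ∣ P.deg) :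
    ∃ S : Finset (Place k K'), S.card = f.natDegree ∧ ∀ Q ∈ S, IsOver Q P ∧ Q.deg = P.deg := by
  classical
  have hBcard := card_roots_residue hK hirr P hdvd
  generalize hB : (f.map (algebraMap k (IsLocalRing.ResidueField P.O))).roots.toFinset = B
    at hBcard
  have key : ∀ β ∈ B, ∃ Q : Place k K', IsOver Q P ∧ ∃ b : P.O,
      IsLocalRing.residue P.O b = β ∧ Q.1 (α - algebraMap K K' b.1) < 1 := by
    intro β hβ
    obtain ⟨b, rfl⟩ := IsLocalRing.residue_surjective β
    have hroot : (f.map (algebraMap k (IsLocalRing.ResidueField P.O))).IsRoot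
        (IsLocalRing.residue P.O b) := by
      rw [← hB, Multiset.mem_toFinset] at hβ
      exact Polynomial.isRoot_of_mem_roots hβ
    have hfb : P.1 (aeval b.1 f) < 1 := by
      have h1 : ((Polynomial.eval₂ (algebraMap k P.O) b f : P.O) : K) = aeval b.1 f := by
        have := Polynomial.hom_eval₂ f (algebraMap k P.O) P.O.subtype b
        rw [Polynomial.aeval_def]
        exact this
      rw [← h1, ← Valuation.mem_maximalIdeal_iff, ← IsLocalRing.residue_eq_zero_iff,
        Polynomial.hom_eval₂]
      rw [Polynomial.IsRoot.def, Polynomial.eval_map] at hroot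
      exact hroot
    obtain ⟨Q, hQ1, hQ2⟩ := exists_place_root hK hf hirr hα P b.2 hfb
    exact ⟨Q, hQ1, b, rfl, hQ2⟩
  choose Qf hQf using key
  have hinj : Function.Injective (fun β : B => Qf β.1 β.2) := by
    rintro ⟨β, hβ⟩ ⟨β', hβ'⟩ h
    simp only at h
    obtain ⟨hO, b, hb, hQb⟩ := hQf β hβ
    obtain ⟨-, b', hb', hQb'⟩ := hQf β' hβ'
    rw [← h] at hQb'
    have h1 := Valuation.map_sub_lt _ hQb' hQb
    rw [sub_sub_sub_cancel_left, ← map_sub] at h1
    obtain ⟨e, he⟩ := hO
    rw [isOverWith_val_lt_one_iff he] at h1
    have h2 : IsLocalRing.residue P.O (b - b') = 0 := by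
      rw [IsLocalRing.residue_eq_zero_iff, Valuation.mem_maximalIdeal_iff]
      exact h1
    rw [map_sub, sub_eq_zero, hb, hb'] at h2
    exact Subtype.ext h2
  refine ⟨B.attach.image (fun β => Qf β.1 β.2), ?_, ?_⟩
  · rw [Finset.card_image_of_injective _ hinj, Finset.card_attach, hBcard]
  · have hfinO := finite_isOver (K' := K') hK P
    have hsum := sum_ramIdx_mul_deg (K' := K') hK P hfinO.toFinset (fun Q => by
      rw [Set.Finite.mem_toFinset]; rfl)
    rw [hrank] at hsum
    have hsub : B.attach.image (fun β => Qf β.1 β.2) ⊆ hfinO.toFinset := by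
      intro Q hQ
      rw [Finset.mem_image] at hQ
      obtain ⟨β, -, rfl⟩ := hQ
      rw [Set.Finite.mem_toFinset]
      exact (hQf β.1 β.2).1
    have hle : ∀ Q ∈ hfinO.toFinset, P.deg ≤ ramIdx Q P * Q.deg := by
      intro Q hQ
      rw [Set.Finite.mem_toFinset] at hQ
      have h1 := deg_le_of_isOver hK hQ
      have h2 := ramIdx_pos hQ
      calc P.deg ≤ Q.deg := h1
        _ = 1 * Q.deg := (one_mul _).symm
        _ ≤ ramIdx Q P * Q.deg := Nat.mul_le_mul_right _ h2
    have hS : ∑ Q ∈ B.attach.image (fun β => Qf β.1 β.2), ramIdx Q P * Q.deg ≤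
        f.natDegree * P.deg := by
      rw [← hsum]
      exact Finset.sum_le_sum_of_subset hsub
    have hScard : (B.attach.image (fun β => Qf β.1 β.2)).card = f.natDegree := by
      rw [Finset.card_image_of_injective _ hinj, Finset.card_attach, hBcard]
    intro Q hQ
    have hQO : IsOver Q P := by
      have := hsub hQ
      rwa [Set.Finite.mem_toFinset] at this
    refine ⟨hQO, ?_⟩
    by_contra hne
    have hlt : P.deg < ramIdx Q P * Q.deg := by
      have h1 := deg_le_of_isOver hK hQO
      have h2 := ramIdx_pos hQO
      have h3 : P.deg < Q.deg := lt_of_le_of_ne h1 (fun h => hne h.symm)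
      calc P.deg < Q.deg := h3
        _ = 1 * Q.deg := (one_mul _).symm
        _ ≤ ramIdx Q P * Q.deg := Nat.mul_le_mul_right _ h2
    have hstrict : ∑ _Q ∈ B.attach.image (fun β => Qf β.1 β.2), P.deg <
        ∑ Q ∈ B.attach.image (fun β => Qf β.1 β.2), ramIdx Q P * Q.deg :=
      Finset.sum_lt_sum (fun Q' hQ' => hle Q' (hsub hQ')) ⟨Q, hQ, hlt⟩
    rw [Finset.sum_const, hScard, smul_eq_mul] at hstrict
    exact absurd hS (not_le.2 hstrict)

end Groth.Agent.Lib.Helper34.FunFldZetaSplit
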