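import Groth.Agent.Lib.Helper34.FunFldBox
import Groth.Agent.Lib.Helper34.FunFldZetaSplit2
import Groth.Agent.Lib.Helper44.FunFldExt5

/-!
# Finiteness of the integral closure of `O_P` in a finite extension (helper34)

`K'/K` a finite extension (separable or not) of a function field `K/k`, `P` a place of `K`.
The ring `B' = ⋂_{Q | P} O_Q` is a free `O_P`-module of rank `[K' : K]`; it is the integral closure
of `O_P` in `K'`.  The proof uses the fundamental equality `∑ e f = n` and a local dimension count.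
-/

set_option autoImplicit false

namespace Groth.Agent.Lib.Helper34.FunFldIntFin

open FunFld WithZero Groth.Agent.Lib.Helper88 Groth.Agent.Lib.Helper88.FF
  Groth.Agent.Lib.Helper44.FFExt Groth.Agent.Lib.Helper34.FunFldZetaSplit
  Groth.Agent.Lib.Helper34.FunFldBox

variable {k K K' : Type*} [Field k] [Field K] [Field K'] [Algebra k K] [Algebra K K']
  [Algebra k K'] [IsScalarTower k K K']

/-- The places over `P`. -/
noncomputable def Qs [FiniteDimensional K K'] (hK : IsFunctionField k K) (P : Place k K) :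
    Finset (Place k K') := (finite_isOver (K' := K') hK P).toFinset

lemma mem_Qs [FiniteDimensional K K'] (hK : IsFunctionField k K) (P : Place k K)
    (Q : Place k K') : Q ∈ Qs (K' := K') hK P ↔ IsOver Q P := by
  rw [Qs, Set.Finite.mem_toFinset]
  rfl

/-- The exponent function `Q ↦ e(Q|P)`. -/
noncomputable def eP (P : Place k K) : Place k K' → ℕ := fun Q => ramIdx Q P

lemma val_algebraMap_of_isOver {Q : Place k K'} {P : Place k K} (h : IsOver Q P) (x : K) :
    Q.1 (algebraMap K K' x) = P.1 x ^ ramIdx Q P := isOverWith_ramIdx h x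

lemma val_algebraMap_le_one {Q : Place k K'} {P : Place k K} (h : IsOver Q P) {x : K}
    (hx : P.1 x ≤ 1) : Q.1 (algebraMap K K' x) ≤ 1 := by
  rw [val_algebraMap_of_isOver h]
  exact pow_le_one₀ zero_le' hx

lemma val_algebraMap_unif {Q : Place k K'} {P : Place k K} (h : IsOver Q P) {t : K}
    (ht : P.1 t = exp (-1 : ℤ)) : Q.1 (algebraMap K K' t) = exp (-(ramIdx Q P : ℤ)) := by
  rw [val_algebraMap_of_isOver h, ht, exp_pow']
  congr 1
  ring

lemma val_algebraMap_lt {Q : Place k K'} {P : Place k K} (h : IsOver Q P) {x : K}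
    (hx : P.1 x < 1) : Q.1 (algebraMap K K' x) ≤ exp (-(ramIdx Q P : ℤ)) := by
  rw [val_algebraMap_of_isOver h]
  have h1 : P.1 x ≤ exp (-1 : ℤ) := lt_one_iff_le_exp_neg_one.1 hx
  calc P.1 x ^ ramIdx Q P ≤ exp (-1 : ℤ) ^ ramIdx Q P := pow_le_pow_left₀ zero_le' h1 _
    _ = exp (-(ramIdx Q P : ℤ)) := by
        rw [exp_pow']
        congr 1
        ring


section core

variable [FiniteDimensional K K'] (hK : IsFunctionField k K) (P : Place k K)

/-- `B' = ⋂_{Q | P} O_Q` as a `k`-subspace of `K'`. -/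
noncomputable def Bp : Submodule k K' := box (Qs (K' := K') hK P) (fun _ => 0)

/-- `t B'` as a `k`-subspace of `K'`. -/
noncomputable def tBp : Submodule k K' :=
  box (Qs (K' := K') hK P) (fun Q => (fun _ => (0 : ℤ)) Q - (eP P Q : ℕ))

lemma mem_Bp {z : K'} : z ∈ Bp (K' := K') hK P ↔ ∀ Q : Place k K', IsOver Q P → Q.1 z ≤ 1 := by
  rw [Bp, mem_box]
  constructor
  · intro h Q hQ
    have := h Q ((mem_Qs hK P Q).2 hQ)
    rwa [exp_zero] at this
  · intro h Q hQ
    rw [exp_zero]
    exact h Q ((mem_Qs hK P Q).1 hQ)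

lemma mem_tBp {z : K'} : z ∈ tBp (K' := K') hK P ↔
    ∀ Q : Place k K', IsOver Q P → Q.1 z ≤ exp (-(ramIdx Q P : ℤ)) := by
  rw [tBp, mem_box]
  constructor
  · intro h Q hQ
    have := h Q ((mem_Qs hK P Q).2 hQ)
    rwa [zero_sub] at this
  · intro h Q hQ
    rw [zero_sub]
    exact h Q ((mem_Qs hK P Q).1 hQ)

lemma tBp_le_Bp : tBp (K' := K') hK P ≤ Bp (K' := K') hK P := by
  intro z hz
  rw [mem_tBp] at hz
  rw [mem_Bp]
  intro Q hQ
  refine (hz Q hQ).trans ?_
  rw [← exp_zero, exp_le_exp]
  have : (0 : ℤ) ≤ ramIdx Q P := Int.natCast_nonneg _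
  linarith

/-- `dim_k B'/tB' = [K' : K] · deg P`. -/
theorem finrank_quot :
    FiniteDimensional k (RelQuot (tBp (K' := K') hK P) (Bp (K' := K') hK P)) ∧
    Module.finrank k (RelQuot (tBp (K' := K') hK P) (Bp (K' := K') hK P)) =
      Module.finrank K K' * P.deg := by
  have hfin : ∀ Q ∈ Qs (K' := K') hK P, Module.Finite k (IsLocalRing.ResidueField Q.O) :=
    fun Q _ => Module.finite_of_finrank_pos (deg_pos' hK Q)
  have h := finrank_box_quot (Qs (K' := K') hK P) hfin (fun _ => 0) _ (eP P) rfl
  refine ⟨h.1, ?_⟩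
  rw [← sum_ramIdx_mul_deg hK P (Qs (K' := K') hK P) (mem_Qs hK P)]
  exact h.2

omit [FiniteDimensional K K'] in
lemma smul_mem_Bp {x : K} (hx : P.1 x ≤ 1) {z : K'}
    (hz : ∀ Q : Place k K', IsOver Q P → Q.1 z ≤ 1) :
    ∀ Q : Place k K', IsOver Q P → Q.1 (algebraMap K K' x * z) ≤ 1 := by
  intro Q hQ
  rw [map_mul]
  exact mul_le_one' (val_algebraMap_le_one hQ hx) (hz Q hQ)

end core


section lin

variable (P : Place k K)

/-- The `k`-linear map `(cᵢ) ↦ ∑ cᵢ bᵢ` on tuples of elements of `O_P`. -/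
noncomputable def lin {m : ℕ} (b : Fin m → K') : (Fin m → ball P 0) →ₗ[k] K' where
  toFun c := ∑ i, algebraMap K K' (c i : K) * b i
  map_add' c d := by
    simp only [Pi.add_apply, Submodule.coe_add, map_add, add_mul, Finset.sum_add_distrib]
  map_smul' r c := by
    simp only [Pi.smul_apply, Submodule.coe_smul, RingHom.id_apply, Finset.smul_sum]
    apply Finset.sum_congr rfl
    intro i _
    rw [Algebra.smul_def, map_mul, ← IsScalarTower.algebraMap_apply, Algebra.smul_def, mul_assoc]

lemma lin_apply {m : ℕ} (b : Fin m → K') (c : Fin m → ball P 0) :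
    lin P b c = ∑ i, algebraMap K K' (c i : K) * b i := rfl

lemma mem_ball_zero {x : K} : x ∈ ball P 0 ↔ P.1 x ≤ 1 := by
  rw [mem_ball, exp_zero]

end lin

section count

variable [FiniteDimensional K K'] (hK : IsFunctionField k K) (P : Place k K)

lemma lin_mem_Bp {m : ℕ} (b : Fin m → K') (hb : ∀ i, b i ∈ Bp (K' := K') hK P)
    (c : Fin m → ball P 0) : lin P b c ∈ Bp (K' := K') hK P := by
  rw [lin_apply]
  refine Submodule.sum_mem _ (fun i _ => ?_)
  rw [mem_Bp]
  exact smul_mem_Bp P ((mem_ball_zero P).1 (c i).2) ((mem_Bp hK P).1 (hb i))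

lemma lin_mem_tBp {m : ℕ} (b : Fin m → K') (hb : ∀ i, b i ∈ Bp (K' := K') hK P)
    (c : Fin m → ball P 0) (hc : ∀ i, P.1 (c i : K) < 1) : lin P b c ∈ tBp (K' := K') hK P := by
  rw [lin_apply, mem_tBp]
  intro Q hQ
  apply Valuation.map_sum_le
  intro i _
  rw [map_mul]
  calc Q.1 (algebraMap K K' (c i : K)) * Q.1 (b i) ≤ exp (-(ramIdx Q P : ℤ)) * 1 :=
        mul_le_mul' (val_algebraMap_lt hQ (hc i)) ((mem_Bp hK P).1 (hb i) Q hQ)
    _ = exp (-(ramIdx Q P : ℤ)) := mul_one _

/-- If `B' = ∑ O_P bᵢ + tB'` for `m` elements `bᵢ ∈ B'`, then `[K' : K] ≤ m`. -/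
theorem finrank_le_of_Bp_le {m : ℕ} (b : Fin m → K') (hb : ∀ i, b i ∈ Bp (K' := K') hK P)
    (hle : Bp (K' := K') hK P ≤ LinearMap.range (lin P b) ⊔ tBp (K' := K') hK P) :
    Module.finrank K K' ≤ m := by
  obtain ⟨hfd, hrank⟩ := finrank_quot (K' := K') hK P
  obtain ⟨t, ht⟩ := exists_uniformizer P
  haveI hfinP := finiteDimensional_residueField hK P
  let f : (Fin m → ball P 0) →ₗ[k] RelQuot (tBp (K' := K') hK P) (Bp (K' := K') hK P) :=
    (Submodule.mkQ _).comp ((lin P b).codRestrict (Bp (K' := K') hK P) (lin_mem_Bp hK P b hb))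
  have hfsurj : Function.Surjective f := by
    intro y
    obtain ⟨⟨z, hz⟩, rfl⟩ := Submodule.mkQ_surjective _ y
    obtain ⟨u, ⟨c, rfl⟩, w, hw, huw⟩ := Submodule.mem_sup.1 (hle hz)
    refine ⟨c, ?_⟩
    show Submodule.Quotient.mk _ = Submodule.Quotient.mk _
    rw [Submodule.Quotient.eq]
    show lin P b c - z ∈ tBp (K' := K') hK P
    have : lin P b c - z = -w := by rw [← huw]; ring
    rw [this]
    exact Submodule.neg_mem _ hw
  let ρ : (Fin m → ball P 0) →ₗ[k] (Fin m → IsLocalRing.ResidueField P.O) :=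
    (resAt P ht 0).compLeft (Fin m)
  have hρsurj : Function.Surjective ρ := (resAt_surjective P ht 0).comp_left
  have hker : LinearMap.ker ρ ≤ LinearMap.ker f := by
    intro c hc
    rw [LinearMap.mem_ker] at hc ⊢
    have hci : ∀ i, P.1 (c i : K) < 1 := fun i => by
      have h1 : resAt P ht 0 (c i) = 0 := congrFun hc i
      rw [resAt_eq_zero_iff, mem_ball] at h1
      exact lt_one_iff_le_exp_neg_one.2 h1
    show Submodule.Quotient.mk _ = 0
    rw [Submodule.Quotient.mk_eq_zero]
    exact lin_mem_tBp hK P b hb c hci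
  let g : (Fin m → IsLocalRing.ResidueField P.O) →ₗ[k]
      RelQuot (tBp (K' := K') hK P) (Bp (K' := K') hK P) :=
    (Submodule.liftQ (LinearMap.ker ρ) f hker).comp
      (ρ.quotKerEquivOfSurjective hρsurj).symm.toLinearMap
  have hgsurj : Function.Surjective g := by
    intro y
    obtain ⟨c, rfl⟩ := hfsurj y
    refine ⟨ρ c, ?_⟩
    show Submodule.liftQ (LinearMap.ker ρ) f hker
      ((ρ.quotKerEquivOfSurjective hρsurj).symm (ρ c)) = f c
    have : (ρ.quotKerEquivOfSurjective hρsurj).symm (ρ c) = Submodule.Quotient.mk c := by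
      rw [LinearEquiv.symm_apply_eq]
      rfl
    rw [this, Submodule.liftQ_apply]
  have h1 := LinearMap.finrank_le_finrank_of_surjective hgsurj
  rw [Module.finrank_pi_fintype, Finset.sum_const, Finset.card_univ, Fintype.card_fin,
    smul_eq_mul, hrank] at h1
  exact Nat.le_of_mul_le_mul_right h1 (deg_pos hK P)

end count


section greedy

variable [FiniteDimensional K K'] (hK : IsFunctionField k K) (P : Place k K)

/-- `P`-independence of a family of elements of `B'`: a combination with coefficients in `O_P` lies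
in `tB'` only if all coefficients lie in `m_P`. -/
def PIndep {m : ℕ} (b : Fin m → K') : Prop :=
  ∀ c : Fin m → ball P 0, lin P b c ∈ tBp (K' := K') hK P → ∀ i, P.1 (c i : K) < 1

lemma lin_snoc {m : ℕ} (b : Fin m → K') (z : K') (c : Fin (m + 1) → ball P 0) :
    lin P (Fin.snoc b z : Fin (m + 1) → K') c =
      lin P b (fun j => c (Fin.castSucc j)) + algebraMap K K' (c (Fin.last m) : K) * z := by
  rw [lin_apply, lin_apply, Fin.sum_univ_castSucc]
  congr 1
  · apply Finset.sum_congr rfl
    intro j _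
    rw [Fin.snoc_castSucc]
  · rw [Fin.snoc_last]

omit [FiniteDimensional K K'] in
lemma mul_mem_tBp_of_le_one [FiniteDimensional K K'] {x : K} (hx : P.1 x ≤ 1) {w : K'}
    (hw : w ∈ tBp (K' := K') hK P) : algebraMap K K' x * w ∈ tBp (K' := K') hK P := by
  rw [mem_tBp] at hw ⊢
  intro Q hQ
  rw [map_mul]
  calc Q.1 (algebraMap K K' x) * Q.1 w ≤ 1 * exp (-(ramIdx Q P : ℤ)) :=
        mul_le_mul' (val_algebraMap_le_one hQ hx) (hw Q hQ)
    _ = _ := one_mul _

theorem exists_pIndep : ∀ m : ℕ, m ≤ Module.finrank K K' →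
    ∃ b : Fin m → K', (∀ i, b i ∈ Bp (K' := K') hK P) ∧ PIndep hK P b := by
  intro m
  induction m with
  | zero =>
    intro _
    exact ⟨Fin.elim0, fun i => i.elim0, fun _ _ i => i.elim0⟩
  | succ m ih =>
    intro hm
    obtain ⟨b, hb, hind⟩ := ih (by omega)
    have hnot : ¬ (Bp (K' := K') hK P ≤ LinearMap.range (lin P b) ⊔ tBp (K' := K') hK P) := by
      intro hle
      have := finrank_le_of_Bp_le hK P b hb hle
      omega
    obtain ⟨z, hz, hznot⟩ := SetLike.not_le_iff_exists.1 hnot
    refine ⟨Fin.snoc b z, ?_, ?_⟩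
    · intro i
      refine Fin.lastCases ?_ (fun j => ?_) i
      · rw [Fin.snoc_last]; exact hz
      · rw [Fin.snoc_castSucc]; exact hb j
    · intro c hc
      rw [lin_snoc] at hc
      by_cases hlast : P.1 (c (Fin.last m) : K) < 1
      · have h1 : algebraMap K K' (c (Fin.last m) : K) * z ∈ tBp (K' := K') hK P := by
          rw [mem_tBp]
          intro Q hQ
          rw [map_mul]
          calc Q.1 (algebraMap K K' (c (Fin.last m) : K)) * Q.1 z
              ≤ exp (-(ramIdx Q P : ℤ)) * 1 :=
                mul_le_mul' (val_algebraMap_lt hQ hlast) ((mem_Bp hK P).1 hz Q hQ)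
            _ = _ := mul_one _
        have h2 : lin P b (fun j => c (Fin.castSucc j)) ∈ tBp (K' := K') hK P := by
          have := Submodule.sub_mem _ hc h1
          rwa [add_sub_cancel_right] at this
        have h3 := hind _ h2
        intro i
        refine Fin.lastCases hlast (fun j => h3 j) i
      · exfalso
        apply hznot
        have hle1 : P.1 (c (Fin.last m) : K) ≤ 1 := (mem_ball_zero P).1 (c (Fin.last m)).2
        have h1 : P.1 (c (Fin.last m) : K) = 1 := le_antisymm hle1 (not_lt.1 hlast)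
        have hne : (c (Fin.last m) : K) ≠ 0 := by
          intro h0
          rw [h0, map_zero] at h1
          exact zero_ne_one h1
        obtain ⟨u, hu⟩ : ∃ u : K, u = (c (Fin.last m) : K)⁻¹ := ⟨_, rfl⟩
        have hu1 : P.1 u = 1 := by rw [hu, map_inv₀, h1, inv_one]
        have hmem : ∀ j : Fin m, u * (c (Fin.castSucc j) : K) ∈ ball P 0 := by
          intro j
          rw [mem_ball_zero, map_mul, hu1, one_mul]
          exact (mem_ball_zero P).1 (c (Fin.castSucc j)).2
        have hz_eq : z = lin P b (fun j => ⟨u * (c (Fin.castSucc j) : K), hmem j⟩) * (-1) +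
            algebraMap K K' u * (lin P b (fun j => c (Fin.castSucc j)) +
              algebraMap K K' (c (Fin.last m) : K) * z) := by
          rw [lin_apply, lin_apply, mul_add, Finset.mul_sum]
          have e1 : ∀ j : Fin m, algebraMap K K' u * (algebraMap K K' (c (Fin.castSucc j) : K) * b j) =
              algebraMap K K' (u * (c (Fin.castSucc j) : K)) * b j := by
            intro j
            rw [map_mul, mul_assoc]
          simp only [e1]
          have e2 : algebraMap K K' u * (algebraMap K K' (c (Fin.last m) : K) * z) = z := by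
            rw [← mul_assoc, ← map_mul, hu, inv_mul_cancel₀ hne, map_one, one_mul]
          rw [e2]
          ring
        rw [hz_eq]
        apply Submodule.add_mem
        · apply Submodule.mem_sup_left
          have : lin P b (fun j => ⟨u * (c (Fin.castSucc j) : K), hmem j⟩) * (-1) =
              lin P b (-(fun j => (⟨u * (c (Fin.castSucc j) : K), hmem j⟩ : ball P 0))) := by
            rw [map_neg]; ring
          rw [this]
          exact LinearMap.mem_range_self _ _
        · apply Submodule.mem_sup_right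
          exact mul_mem_tBp_of_le_one hK P hu1.le hc

end greedy


section basis

variable [FiniteDimensional K K'] (hK : IsFunctionField k K) (P : Place k K)

/-- The scaling argument: a `K`-combination of a `P`-independent family, normalised by a
coefficient of maximal value, cannot lie in `tB'`. -/
lemma false_of_scaled {m : ℕ} (b : Fin m → K') (hind : PIndep hK P b) (g : Fin m → K) (i₀ : Fin m)
    (hi₀ : ∀ i, P.1 (g i) ≤ P.1 (g i₀)) (h0 : g i₀ ≠ 0)
    (hsum : algebraMap K K' (g i₀)⁻¹ * ∑ i, algebraMap K K' (g i) * b i ∈ tBp (K' := K') hK P) :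
    False := by
  have hpos : 0 < P.1 (g i₀) := zero_lt_iff.2 ((Valuation.ne_zero_iff _).2 h0)
  have hmem : ∀ i, (g i₀)⁻¹ * g i ∈ ball P 0 := by
    intro i
    rw [mem_ball_zero, map_mul, map_inv₀, inv_mul_le_iff₀ hpos, mul_one]
    exact hi₀ i
  have h1 : lin P b (fun i => ⟨(g i₀)⁻¹ * g i, hmem i⟩) ∈ tBp (K' := K') hK P := by
    rw [lin_apply]
    have : ∑ i, algebraMap K K' ((g i₀)⁻¹ * g i) * b i =
        algebraMap K K' (g i₀)⁻¹ * ∑ i, algebraMap K K' (g i) * b i := by
      rw [Finset.mul_sum]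
      apply Finset.sum_congr rfl
      intro i _
      rw [map_mul, mul_assoc]
    rw [this]
    exact hsum
  have h2 := hind _ h1 i₀
  have h3 : (g i₀)⁻¹ * g i₀ = 1 := inv_mul_cancel₀ h0
  simp only [h3, map_one, lt_self_iff_false] at h2

theorem linearIndependent_of_pIndep {m : ℕ} (b : Fin m → K') (hind : PIndep hK P b) :
    LinearIndependent K b := by
  classical
  rw [Fintype.linearIndependent_iff]
  intro g hg
  by_contra hcon
  push Not at hcon
  obtain ⟨i₁, hi₁⟩ := hcon
  obtain ⟨i₀, -, hi₀⟩ := Finset.exists_max_image Finset.univ (fun i => P.1 (g i))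
    ⟨i₁, Finset.mem_univ _⟩
  have h0 : g i₀ ≠ 0 := by
    intro h0
    have := hi₀ i₁ (Finset.mem_univ _)
    rw [h0, map_zero] at this
    exact hi₁ ((Valuation.zero_iff _).1 (le_antisymm this zero_le'))
  refine false_of_scaled hK P b hind g i₀ (fun i => hi₀ i (Finset.mem_univ _)) h0 ?_
  have : ∑ i, algebraMap K K' (g i) * b i = 0 := by
    rw [← hg]
    apply Finset.sum_congr rfl
    intro i _
    rw [Algebra.smul_def]
  rw [this, mul_zero]
  exact Submodule.zero_mem _

/-- **Structure of `B'`**: there is a `K`-basis of `K'` inside `B'` such that every element of `B'`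
has coordinates in `O_P`. -/
theorem exists_basis : ∃ b : Fin (Module.finrank K K') → K', LinearIndependent K b ∧
    (∀ i, b i ∈ Bp (K' := K') hK P) ∧
    ∀ z ∈ Bp (K' := K') hK P, ∃ g : Fin (Module.finrank K K') → K,
      (∀ i, P.1 (g i) ≤ 1) ∧ z = ∑ i, algebraMap K K' (g i) * b i := by
  classical
  obtain ⟨b, hb, hind⟩ := exists_pIndep hK P (Module.finrank K K') le_rfl
  have hli := linearIndependent_of_pIndep hK P b hind
  refine ⟨b, hli, hb, ?_⟩
  intro z hz
  haveI : Nonempty (Fin (Module.finrank K K')) := ⟨⟨0, Module.finrank_pos⟩⟩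
  obtain ⟨B, hB'⟩ : ∃ B : Module.Basis (Fin (Module.finrank K K')) K K', ⇑B = b :=
    ⟨basisOfLinearIndependentOfCardEqFinrank hli (by rw [Fintype.card_fin]),
      coe_basisOfLinearIndependentOfCardEqFinrank hli _⟩
  have hB : ∀ i, B i = b i := fun i => by rw [hB']
  obtain ⟨g, hg⟩ : ∃ g : Fin (Module.finrank K K') → K, g = fun i => B.repr z i := ⟨_, rfl⟩
  have hzsum : z = ∑ i, algebraMap K K' (g i) * b i := by
    conv_lhs => rw [← B.sum_repr z]
    apply Finset.sum_congr rfl
    intro i _
    rw [hg, hB, Algebra.smul_def]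
  refine ⟨g, ?_, hzsum⟩
  by_contra hcon
  push Not at hcon
  obtain ⟨i₁, hi₁⟩ := hcon
  obtain ⟨i₀, -, hi₀⟩ := Finset.exists_max_image Finset.univ (fun i => P.1 (g i))
    ⟨i₁, Finset.mem_univ _⟩
  have hgt : 1 < P.1 (g i₀) := lt_of_lt_of_le hi₁ (hi₀ i₁ (Finset.mem_univ _))
  have h0 : g i₀ ≠ 0 := by
    intro h0
    rw [h0, map_zero] at hgt
    exact absurd hgt (by simp)
  refine false_of_scaled hK P b hind g i₀ (fun i => hi₀ i (Finset.mem_univ _)) h0 ?_
  rw [← hzsum, mem_tBp]
  intro Q hQ
  rw [map_mul]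
  have hlt : P.1 (g i₀)⁻¹ < 1 := by
    rw [map_inv₀]
    exact inv_lt_one_of_one_lt₀ hgt
  calc Q.1 (algebraMap K K' (g i₀)⁻¹) * Q.1 z ≤ exp (-(ramIdx Q P : ℤ)) * 1 :=
        mul_le_mul' (val_algebraMap_lt hQ hlt) ((mem_Bp hK P).1 hz Q hQ)
    _ = _ := mul_one _

end basis


section main

variable [FiniteDimensional K K'] (hK : IsFunctionField k K) (P : Place k K)
  [Algebra P.O K'] [IsScalarTower P.O K K']

include hK in
/-- **Structure of the integral closure**: there is a `K`-basis `b` of `K'` such that the integral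
closure of `O_P` in `K'` is `⊕ O_P b_i`; moreover it equals `B' = ⋂_{Q | P} O_Q`. -/
theorem integral_structure : ∃ b : Fin (Module.finrank K K') → K', LinearIndependent K b ∧
    (∀ z : K', IsIntegral P.O z ↔ z ∈ Bp (K' := K') hK P) ∧
    (∀ z : K', IsIntegral P.O z ↔ z ∈ Submodule.span P.O (Set.range b)) ∧
    (∀ z : K', IsIntegral P.O z ↔ ∃ g : Fin (Module.finrank K K') → K,
      (∀ i, P.1 (g i) ≤ 1) ∧ z = ∑ i, algebraMap K K' (g i) * b i) := by
  classical
  obtain ⟨b, hli, hb, hrep⟩ := exists_basis (K' := K') hK P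
  have hsmul : ∀ (r : P.O) (z : K'), r • z = algebraMap K K' (r : K) * z := by
    intro r z
    rw [Algebra.smul_def, IsScalarTower.algebraMap_apply P.O K K']
    rfl
  have hrep' : ∀ z : K', z ∈ Bp (K' := K') hK P ↔ ∃ g : Fin (Module.finrank K K') → K,
      (∀ i, P.1 (g i) ≤ 1) ∧ z = ∑ i, algebraMap K K' (g i) * b i := by
    intro z
    constructor
    · exact hrep z
    · rintro ⟨g, hg, rfl⟩
      exact Submodule.sum_mem _ (fun i _ => (mem_Bp hK P).2 (smul_mem_Bp P (hg i) ((mem_Bp hK P).1 (hb i))))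
  have hNB : ∀ z, z ∈ Submodule.span P.O (Set.range b) ↔ z ∈ Bp (K' := K') hK P := by
    intro z
    constructor
    · intro hz
      induction hz using Submodule.span_induction with
      | mem x hx => obtain ⟨i, rfl⟩ := hx; exact hb i
      | zero => exact Submodule.zero_mem _
      | add x y _ _ hx hy => exact Submodule.add_mem _ hx hy
      | smul r x _ hx => rw [hsmul]; exact (mem_Bp hK P).2 (smul_mem_Bp P r.2 ((mem_Bp hK P).1 hx))
    · intro hz
      obtain ⟨g, hg, rfl⟩ := hrep z hz
      refine Submodule.sum_mem _ (fun i _ => ?_)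
      have : algebraMap K K' (g i) * b i = (⟨g i, hg i⟩ : P.O) • b i := by rw [hsmul]
      rw [this]
      exact Submodule.smul_mem _ _ (Submodule.subset_span ⟨i, rfl⟩)
  have hint : ∀ z : K', IsIntegral P.O z ↔ z ∈ Bp (K' := K') hK P := by
    intro z
    constructor
    · intro hz
      rw [mem_Bp]
      intro Q hQ
      refine val_le_one_of_isIntegral Q.1 ?_ hz
      intro r
      rw [IsScalarTower.algebraMap_apply P.O K K']
      exact val_algebraMap_le_one hQ r.2
    · intro hz
      refine isIntegral_of_smul_mem_submodule (Submodule.span P.O (Set.range b)) ?_ ?_ z ?_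
      · intro h
        have h1 : (1 : K') ∈ Submodule.span P.O (Set.range b) := by
          rw [hNB, mem_Bp]
          intro Q _
          rw [map_one]
        rw [h, Submodule.mem_bot] at h1
        exact one_ne_zero h1
      · exact Submodule.fg_span (Set.finite_range b)
      · intro n hn
        rw [hNB, mem_Bp] at hn ⊢
        rw [mem_Bp] at hz
        intro Q hQ
        rw [smul_eq_mul, map_mul]
        exact mul_le_one' (hz Q hQ) (hn Q hQ)
  refine ⟨b, hli, hint, fun z => ?_, fun z => ?_⟩
  · rw [hint, hNB]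
  · rw [hint, hrep']

end main

/-- **Finiteness of the integral closure** of `O_P` in a finite extension `K'/K`
(separable or not). -/
theorem integralClosure_finite (k K : Type*) [Field k] [Field K] [Algebra k K]
    (hK : IsFunctionField k K) (P : Place k K) (K' : Type*) [Field K'] [Algebra K K']
    [FiniteDimensional K K'] [Algebra P.O K'] [IsScalarTower P.O K K'] :
    Module.Finite P.O (integralClosure P.O K') := by
  classical
  letI : Algebra k K' := ((algebraMap K K').comp (algebraMap k K)).toAlgebra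
  haveI : IsScalarTower k K K' := IsScalarTower.of_algebraMap_eq (fun _ => rfl)
  obtain ⟨b, -, -, hspan, -⟩ := integral_structure (K' := K') hK P
  have hN : Subalgebra.toSubmodule (integralClosure P.O K') = Submodule.span P.O (Set.range b) := by
    ext z
    rw [Subalgebra.mem_toSubmodule, mem_integralClosure_iff, hspan]
  have hfin : Module.Finite P.O (Subalgebra.toSubmodule (integralClosure P.O K')) := by
    rw [hN]
    exact Module.Finite.iff_fg.2 (Submodule.fg_span (Set.finite_range b))
  exact Module.Finite.equiv (Subalgebra.toSubmoduleEquiv _)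

end Groth.Agent.Lib.Helper34.FunFldIntFin
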