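import Groth.Agent.Lib.Helper34.FunFldRam
import Groth.Agent.Lib.Helper34.FunFldLocRing
import Groth.Agent.Lib.Helper88.FunFldStrong
import Groth.Agent.Lib.Helper68.FunFldRes

/-!
# Local parameters from a separating variable (helper34)

Over an algebraically closed constant field: if `K/k(x)` is separable then at all but finitely many
places `x - a` is a local parameter; primitive elements `y` with prescribed behaviour at finitely
many places.
-/

set_option autoImplicit false

namespace Groth.Agent.Lib.Helper34.FunFldLocParam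

open FunFld Polynomial WithZero Groth.Agent.Lib.Helper88.FF Groth.Agent.Lib.Helper44.FFExt
open scoped IntermediateField

variable {k K : Type*} [Field k] [Field K] [Algebra k K]

/-- A function field over an algebraically closed field has infinitely many places. -/
theorem infinite_place [IsAlgClosed k] (hK : IsFunctionField k K) : Infinite (Place k K) := by
  obtain ⟨⟨x, hx, -⟩, -⟩ := id hK
  have hnc : ∀ a : k, x - algebraMap k K a ∉ Set.range (algebraMap k K) := by
    rintro a ⟨c, hc⟩
    apply not_mem_range_of_transcendental hx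
    refine ⟨c + a, ?_⟩
    rw [map_add, hc]
    ring
  choose f hf using fun a : k => exists_zero hK (hnc a)
  have hinj : Function.Injective f := by
    intro a b hab
    by_contra hne
    have h1 : (f a).1 (x - algebraMap k K a) < 1 := by
      have := hf a
      have hx0 : x - algebraMap k K a ≠ 0 := by
        intro h0
        exact hnc a ⟨0, by rw [map_zero, h0]⟩
      rw [val_eq_exp_neg_ord _ hx0, ← exp_zero, exp_lt_exp]
      omega
    have h2 : (f a).1 (x - algebraMap k K b) < 1 := by
      rw [hab]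
      have := hf b
      have hx0 : x - algebraMap k K b ≠ 0 := by
        intro h0
        exact hnc b ⟨0, by rw [map_zero, h0]⟩
      rw [val_eq_exp_neg_ord _ hx0, ← exp_zero, exp_lt_exp]
      omega
    have h3 : (f a).1 (algebraMap k K (b - a)) < 1 := by
      have e : algebraMap k K (b - a) = (x - algebraMap k K a) - (x - algebraMap k K b) := by
        rw [map_sub]; ring
      rw [e]
      exact lt_of_le_of_lt (Valuation.map_sub _ _ _) (max_lt h1 h2)
    have hba : b - a ≠ 0 := sub_ne_zero.2 (Ne.symm hne)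
    have h4 : (f a).1 (algebraMap k K (b - a)) = 1 :=
      gval_algebraMap (f a).1 (f a).2.1 hba
    rw [h4] at h3
    exact lt_irrefl _ h3
  exact Infinite.of_injective f hinj


/-- `k(x)` is a function field of one variable over `k` when `x` is transcendental. -/
theorem isFunctionField_adjoin_simple (hK : IsFunctionField k K) {x : K}
    (hx : Transcendental k x) : IsFunctionField k k⟮x⟯ := by
  refine ⟨⟨⟨x, IntermediateField.mem_adjoin_simple_self k x⟩, ?_, ?_⟩, ?_⟩
  · intro halg
    apply hx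
    exact IsAlgebraic.algHom (IntermediateField.val k⟮x⟯) halg
  · have htop : (k⟮(⟨x, IntermediateField.mem_adjoin_simple_self k x⟩ : k⟮x⟯)⟯ :
        IntermediateField k k⟮x⟯) = ⊤ := by
      rw [eq_top_iff]
      intro z _
      have h1 : (k⟮(⟨x, IntermediateField.mem_adjoin_simple_self k x⟩ : k⟮x⟯)⟯).map
          (IntermediateField.val k⟮x⟯) = k⟮x⟯ := by
        rw [IntermediateField.adjoin_map, Set.image_singleton]
        rfl
      have hz : (z : K) ∈ (k⟮(⟨x, IntermediateField.mem_adjoin_simple_self k x⟩ : k⟮x⟯)⟯).map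
          (IntermediateField.val k⟮x⟯) := by
        rw [h1]
        exact z.2
      obtain ⟨w, hw, hwz⟩ := hz
      have : w = z := Subtype.ext hwz
      rw [← this]
      exact hw
    rw [htop]
    refine ⟨⟨{1}, ?_⟩⟩
    rw [eq_top_iff]
    intro z _
    rw [Finset.coe_singleton, Submodule.mem_span_singleton]
    exact ⟨⟨z, IntermediateField.mem_top⟩, by rw [Algebra.smul_def, mul_one]; rfl⟩
  · intro y hy
    have hy' : IsAlgebraic k (y : K) := IsAlgebraic.algHom (IntermediateField.val k⟮x⟯) hy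
    obtain ⟨c, hc⟩ := hK.2 _ hy'
    exact ⟨c, Subtype.ext hc⟩


/-- If `x ≡ a` at `P`, polynomials in `x` are integral at `P`. -/
theorem val_aeval_le_one (P : Place k K) {x : K} (hx1 : P.1 x ≤ 1) (r : k[X]) :
    P.1 (aeval x r) ≤ 1 := by
  apply Groth.Agent.Lib.Helper34.FunFldLocRing.val_le_one_of_mem_adjoin P (fun _ : Unit => x)
    (fun _ => hx1)
  rw [Set.range_const]
  exact Polynomial.aeval_mem_adjoin_singleton k x

/-- If `x ≡ a` at `P`, the value of `p(x)` is the `rootMultiplicity`-th power of that of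
`x - a`. -/
theorem val_aeval_eq (P : Place k K) {x : K} {a : k} (hxa : P.1 (x - algebraMap k K a) < 1)
    {p : k[X]} (hp : p ≠ 0) :
    P.1 (aeval x p) = P.1 (x - algebraMap k K a) ^ (p.rootMultiplicity a) := by
  have hx1 : P.1 x ≤ 1 := by
    have e : x = (x - algebraMap k K a) + algebraMap k K a := by ring
    rw [e]
    exact (Valuation.map_add _ _ _).trans (max_le hxa.le (P.2.1 a))
  obtain ⟨q, hpq, hq⟩ := Polynomial.exists_eq_pow_rootMultiplicity_mul_and_not_dvd p hp a
  have hqa : q.eval a ≠ 0 := by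
    intro h
    exact hq (Polynomial.dvd_iff_isRoot.2 h)
  obtain ⟨r, hr⟩ := Polynomial.X_sub_C_dvd_sub_C_eval (a := a) (p := q)
  have hq' : aeval x q = algebraMap k K (q.eval a) + (x - algebraMap k K a) * aeval x r := by
    have : q = C (q.eval a) + (X - C a) * r := by rw [← hr]; ring
    conv_lhs => rw [this]
    rw [map_add, map_mul, map_sub, aeval_C, aeval_X, aeval_C]
  have hq1 : P.1 (aeval x q) = 1 := by
    rw [hq', Valuation.map_add_eq_of_lt_left]
    · exact gval_algebraMap P.1 P.2.1 hqa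
    · rw [gval_algebraMap P.1 P.2.1 hqa, map_mul]
      calc P.1 (x - algebraMap k K a) * P.1 (aeval x r)
          ≤ P.1 (x - algebraMap k K a) * 1 := mul_le_mul' le_rfl (val_aeval_le_one P hx1 r)
        _ < 1 := by rwa [mul_one]
  conv_lhs => rw [hpq]
  rw [map_mul, map_pow, map_mul, map_pow, hq1, mul_one, map_sub, aeval_X, aeval_C]

/-- If `x ≡ a` at `P` and some element of `k(x)` is a local parameter at `P`, then `x - a` is a
local parameter at `P`. -/
theorem val_sub_eq_of_mem_adjoin (P : Place k K) {x : K} {a : k}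
    (hxa : P.1 (x - algebraMap k K a) < 1) (hx0 : x - algebraMap k K a ≠ 0)
    {z : K} (hz : z ∈ k⟮x⟯) (hzv : P.1 z = exp (-1 : ℤ)) :
    P.1 (x - algebraMap k K a) = exp (-1 : ℤ) := by
  rw [IntermediateField.mem_adjoin_simple_iff] at hz
  obtain ⟨r, s, hrs⟩ := hz
  have hz0 : z ≠ 0 := by
    intro h
    rw [h, map_zero] at hzv
    exact exp_ne_zero.symm hzv
  have hs0 : aeval x s ≠ 0 := by
    intro h
    rw [h, div_zero] at hrs
    exact hz0 hrs
  have hr0 : aeval x r ≠ 0 := by
    intro h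
    rw [h, zero_div] at hrs
    exact hz0 hrs
  have hs : s ≠ 0 := by
    rintro rfl
    exact hs0 (map_zero _)
  have hr : r ≠ 0 := by
    rintro rfl
    exact hr0 (map_zero _)
  have h1 := val_aeval_eq P hxa hr
  have h2 := val_aeval_eq P hxa hs
  have h3 : P.1 z * P.1 (aeval x s) = P.1 (aeval x r) := by
    rw [← map_mul, hrs, div_mul_cancel₀ _ hs0]
  have hv0 : P.1 (x - algebraMap k K a) ≠ 0 := (Valuation.ne_zero_iff _).2 hx0
  obtain ⟨μ, hμ⟩ : ∃ μ : ℤ, P.1 (x - algebraMap k K a) = exp μ := ⟨_, (exp_log hv0).symm⟩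
  rw [h1, h2, hzv, hμ, Groth.Agent.Lib.Helper44.FFExt.exp_pow',
    Groth.Agent.Lib.Helper44.FFExt.exp_pow', ← exp_add, exp_inj] at h3
  rw [hμ, ← exp_zero, exp_lt_exp] at hxa
  rw [hμ, exp_inj]
  -- -1 + n μ = m μ, μ < 0
  have h4 : μ * ((r.rootMultiplicity a : ℤ) - (s.rootMultiplicity a : ℤ)) = -1 := by
    linarith
  have h5 : μ ∣ -1 := Dvd.intro _ h4
  have h6 : μ ∣ 1 := (Int.dvd_neg).1 h5
  have h7 := Int.eq_one_or_neg_one_of_mul_eq_neg_one' h4
  omega


/-- Perturbing by constant multiples of a primitive element gives a primitive element. -/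
theorem exists_adjoin_add_smul_eq_top {F : Type*} [Field F] [Algebra k F] [Algebra F K]
    [IsScalarTower k F K] [Infinite k] [FiniteDimensional F K] [Algebra.IsSeparable F K]
    (y₀ w : K) (hw : F⟮w⟯ = ⊤) : ∃ c : k, F⟮y₀ + c • w⟯ = ⊤ := by
  haveI : Finite (IntermediateField F K) :=
    Field.finite_intermediateField_of_exists_primitive_element F K ⟨w, hw⟩
  obtain ⟨c, c', hne, heq⟩ :=
    Finite.exists_ne_map_eq_of_infinite (fun c : k => F⟮y₀ + c • w⟯)
  beta_reduce at heq
  refine ⟨c, ?_⟩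
  have h1 : y₀ + c • w ∈ F⟮y₀ + c • w⟯ := IntermediateField.mem_adjoin_simple_self F _
  have h2 : y₀ + c' • w ∈ F⟮y₀ + c • w⟯ := by
    rw [heq]
    exact IntermediateField.mem_adjoin_simple_self F _
  have h3 : (c - c') • w ∈ F⟮y₀ + c • w⟯ := by
    have : (c - c') • w = (y₀ + c • w) - (y₀ + c' • w) := by rw [sub_smul]; ring
    rw [this]
    exact sub_mem h1 h2
  have h4 : w ∈ F⟮y₀ + c • w⟯ := by
    have hcc : c - c' ≠ 0 := sub_ne_zero.2 hne
    have h5 : (algebraMap k F (c - c')⁻¹) • ((c - c') • w) ∈ F⟮y₀ + c • w⟯ :=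
      IntermediateField.smul_mem _ h3
    rw [algebraMap_smul, smul_smul, inv_mul_cancel₀ hcc, one_smul] at h5
    exact h5
  rw [eq_top_iff, ← hw]
  exact IntermediateField.adjoin_simple_le_iff.2 h4


/-- Values at all places of a finite set, via strong approximation. -/
theorem exists_val_eq_on_finset [IsAlgClosed k] (hK : IsFunctionField k K)
    (S : Finset (Place k K)) (N : ℤ) : ∃ u : K, ∀ Q ∈ S, Q.1 u = exp (-N) := by
  classical
  haveI := infinite_place hK
  obtain ⟨Pinf, hPinf⟩ := Infinite.exists_notMem_finset S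
  obtain ⟨u, hu, -⟩ := strong_approx hK Pinf S.card
    (fun i => (S.equivFin.symm i : Place k K))
    (Subtype.val_injective.comp S.equivFin.symm.injective)
    (by
      rintro ⟨i, hi⟩
      apply hPinf
      rw [← hi]
      exact (S.equivFin.symm i).2)
    (fun _ => 0) (fun _ => N)
  refine ⟨u, fun Q hQ => ?_⟩
  have := hu (S.equivFin ⟨Q, hQ⟩)
  rw [Equiv.symm_apply_apply, sub_zero] at this
  exact this

/-- **Local parameters in the span of `1, x, y`** for a separating variable `x`. -/
theorem exists_locParam [IsAlgClosed k] (hK : IsFunctionField k K) (x : K)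
    (hsep : Algebra.IsSeparable k⟮x⟯ K) :
    ∃ y : K, k⟮x, y⟯ = ⊤ ∧
      ∀ P : Place k K, ∃ f ∈ Submodule.span k ({1, x, y} : Set K), P.1 f = exp (-1 : ℤ) := by
  classical
  have halgF : Algebra.IsAlgebraic k⟮x⟯ K := Algebra.IsSeparable.isAlgebraic _ _
  have hx : Transcendental k x := by
    intro halg
    obtain ⟨⟨x₀, hx₀, -⟩, -⟩ := id hK
    apply hx₀
    have h1 : Algebra.IsAlgebraic k k⟮x⟯ :=
      IntermediateField.isAlgebraic_adjoin_simple halg.isIntegral
    exact (Algebra.IsAlgebraic.trans k k⟮x⟯ K).isAlgebraic x₀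
  have hF := isFunctionField_adjoin_simple hK hx
  haveI : FiniteDimensional k⟮x⟯ K := finiteDimensional_adjoin_of_transcendental hK hx
  have hR := Groth.Agent.Lib.Helper34.FunFldRam.finite_ramified (k := k) (K := k⟮x⟯) (K' := K) hF
  have hpoles : {Q : Place k K | 1 < Q.1 x}.Finite := by
    have := Groth.Agent.Lib.Helper34.FunFldCond.finite_poles hK (fun _ : Unit => x)
    refine this.subset ?_
    intro Q hQ
    exact ⟨(), hQ⟩
  obtain ⟨S, hS⟩ : ∃ S : Finset (Place k K), ∀ Q, Q ∈ S ↔
      (¬ Function.Surjective (Q.1.comap (algebraMap k⟮x⟯ K)) ∨ 1 < Q.1 x) :=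
    ⟨(hR.union hpoles).toFinset, fun Q => by rw [Set.Finite.mem_toFinset]; rfl⟩
  choose below hbelow using fun Q : Place k K => exists_isOver_below (K := k⟮x⟯) Q
  -- a primitive element
  obtain ⟨z, hz⟩ := Field.exists_primitive_element k⟮x⟯ K
  choose e he using fun Q : Place k K => Groth.Agent.Lib.Helper34.FunFldCond.exists_le_exp_nat (Q.1 z)
  obtain ⟨N, hN⟩ : ∃ N : ℕ, N = S.sup e + 2 := ⟨_, rfl⟩
  -- the auxiliary `u ∈ k(x)`
  haveI := infinite_place hF
  obtain ⟨p₀, -⟩ := Infinite.exists_notMem_finset (∅ : Finset (Place k k⟮x⟯))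
  obtain ⟨u, hu⟩ := exists_val_eq_on_finset hF (insert p₀ (S.image below)) N
  have hu0 : u ≠ 0 := by
    rintro rfl
    have := hu p₀ (Finset.mem_insert_self _ _)
    rw [map_zero] at this
    exact exp_ne_zero this.symm
  have huS : ∀ Q ∈ S, Q.1 (algebraMap k⟮x⟯ K u) ≤ exp (-(N : ℤ)) := by
    intro Q hQ
    obtain ⟨d, hd⟩ := hbelow Q
    have hdpos := isOverWith_pos hd
    rw [hd u, hu (below Q) (Finset.mem_insert_of_mem (Finset.mem_image_of_mem _ hQ)),
      Groth.Agent.Lib.Helper44.FFExt.exp_pow', exp_le_exp]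
    have h1 : (1 : ℤ) ≤ d := by exact_mod_cast hdpos
    have h2 : (0 : ℤ) ≤ N := Int.natCast_nonneg _
    nlinarith
  obtain ⟨w, hwdef⟩ : ∃ w : K, w = algebraMap k⟮x⟯ K u * z := ⟨_, rfl⟩
  have hw : k⟮x⟯⟮w⟯ = ⊤ := by
    rw [eq_top_iff, ← hz]
    apply IntermediateField.adjoin_simple_le_iff.2
    have h1 : w ∈ k⟮x⟯⟮w⟯ := IntermediateField.mem_adjoin_simple_self _ _
    have h2 : u⁻¹ • w ∈ k⟮x⟯⟮w⟯ := IntermediateField.smul_mem _ h1
    have h3 : u⁻¹ • w = z := by
      rw [hwdef, Algebra.smul_def, ← mul_assoc, ← map_mul, inv_mul_cancel₀ hu0, map_one, one_mul]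
    rwa [h3] at h2
  have hwS : ∀ Q ∈ S, Q.1 w ≤ exp (-2 : ℤ) := by
    intro Q hQ
    rw [hwdef, map_mul]
    calc Q.1 (algebraMap k⟮x⟯ K u) * Q.1 z ≤ exp (-(N : ℤ)) * exp ((e Q : ℕ) : ℤ) :=
          mul_le_mul' (huS Q hQ) (he Q)
      _ ≤ exp (-2 : ℤ) := by
          rw [← exp_add, exp_le_exp, hN]
          have h1 : e Q ≤ S.sup e := Finset.le_sup hQ
          push_cast
          have h2 : ((e Q : ℕ) : ℤ) ≤ ((S.sup e : ℕ) : ℤ) := by exact_mod_cast h1
          linarith
  obtain ⟨y₀, hy₀⟩ := exists_val_eq_on_finset hK S 1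
  haveI : Infinite k := IsAlgClosed.instInfinite  
  obtain ⟨c, hc⟩ := exists_adjoin_add_smul_eq_top (k := k) (F := k⟮x⟯) y₀ w hw
  refine ⟨y₀ + c • w, ?_, ?_⟩
  · have h1 := IntermediateField.adjoin_adjoin_left k ({x} : Set K) ({y₀ + c • w} : Set K)
    rw [hc, IntermediateField.restrictScalars_top, Set.singleton_union] at h1
    exact h1.symm
  · intro P
    by_cases hP : P ∈ S
    · refine ⟨y₀ + c • w, Submodule.subset_span (by simp), ?_⟩
      have h1 : P.1 (c • w) < P.1 y₀ := by
        rw [hy₀ P hP, Algebra.smul_def, map_mul]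
        calc P.1 (algebraMap k K c) * P.1 w ≤ 1 * exp (-2 : ℤ) :=
              mul_le_mul' (P.2.1 c) (hwS P hP)
          _ < exp (-1 : ℤ) := by
              rw [one_mul, exp_lt_exp]
              norm_num
      rw [Valuation.map_add_eq_of_lt_left _ h1, hy₀ P hP]
    · rw [hS, not_or, not_not, not_lt] at hP
      obtain ⟨hsurj, hx1⟩ := hP
      obtain ⟨a, ha⟩ := Groth.Agent.Lib.Helper68.FunFldRes.exists_const hK P hx1
      obtain ⟨t, ht⟩ := hsurj (exp (-1 : ℤ))
      have hxa0 : x - algebraMap k K a ≠ 0 := by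
        intro h
        apply not_mem_range_of_transcendental hx
        exact ⟨a, (sub_eq_zero.1 h).symm⟩
      have h1 := val_sub_eq_of_mem_adjoin P ha hxa0 t.2 ht
      refine ⟨x - algebraMap k K a, ?_, h1⟩
      rw [Algebra.algebraMap_eq_smul_one]
      exact Submodule.sub_mem _ (Submodule.subset_span (by simp))
        (Submodule.smul_mem _ _ (Submodule.subset_span (by simp)))

end Groth.Agent.Lib.Helper34.FunFldLocParam
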