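import Groth.Agent.Lib.Helper34.FunFldNonsing
import Groth.Agent.S11006
import Mathlib.RingTheory.Valuation.Extension

/-!
# Residue fields at nonsingular places in constant field extensions (helper34)
-/

set_option autoImplicit false

namespace Groth.Agent.Lib.Helper34.FunFldNonsing2

open FunFld WithZero Groth.Agent.Lib.Helper88 Groth.Agent.Lib.Helper88.FF
  Groth.Agent.Lib.Helper44.FFExt Groth.Agent.Lib.Helper34.FunFldIntFin
  Groth.Agent.Lib.Helper34.FunFldNormOrd Groth.Agent.Lib.Helper34.FunFldNonsing
open scoped TensorProduct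

section isOver

variable {k K K' : Type*} [Field k] [Field K] [Field K'] [Algebra k K] [Algebra K K'] [Algebra k K']
  [IsScalarTower k K K']

/-- `HasExtension` implies `IsOver`. -/
theorem isOver_of_hasExtension [Algebra.IsAlgebraic K K'] (P : Place k K) (Q : Place k K')
    [P.1.HasExtension Q.1] : IsOver Q P := by
  obtain ⟨P₀, hP₀⟩ := exists_isOver_below (K := K) Q
  have : P₀ = P := by
    apply place_eq_of_le
    intro y hy
    rw [← Valuation.HasExtension.val_map_le_one_iff P.1 Q.1]
    exact val_algebraMap_le_one hP₀ hy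
  rwa [this] at hP₀

end isOver

section residue

universe u v

variable {k k' : Type u} {K K' : Type v} [Field k] [Field k'] [Field K] [Field K']
  [Algebra k k'] [FiniteDimensional k k'] [Algebra k K] [Algebra K K'] [Algebra k' K'] [Algebra k K']
  [IsScalarTower k k' K'] [IsScalarTower k K K']

/-- **Residue field at a nonsingular place**: `F_Q = k' F_P`. -/
theorem adjoin_residue_eq_top
    (h : Function.Bijective (Algebra.TensorProduct.productMap
      (IsScalarTower.toAlgHom k k' K') (IsScalarTower.toAlgHom k K K')))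
    (hK : IsFunctionField k K)
    (P : Place k K) [Algebra P.O K'] [IsScalarTower P.O K K']
    (hns : (integralClosure P.O K').toSubring =
      (Algebra.adjoin P.O (Set.range (algebraMap k' K'))).toSubring)
    (Q : Place k K') [P.1.HasExtension Q.1] (hk' : ∀ c : k', Q.1 (algebraMap k' K' c) ≤ 1) :
    Algebra.adjoin (IsLocalRing.ResidueField P.O)
      (Set.range fun c : k' => IsLocalRing.residue Q.O ⟨algebraMap k' K' c, hk' c⟩) = ⊤ := by
  classical
  haveI : Module.Finite K K' := (Groth.Agent.S11006.finrank_K' k k' K K' h).1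
  have hQP : IsOver Q P := isOver_of_hasExtension P Q
  rw [eq_top_iff]
  intro y _
  obtain ⟨z, rfl⟩ := IsLocalRing.residue_surjective y
  -- approximate `z` by an element of `B'`
  obtain ⟨r, hr⟩ := weak_approx (Qs (K' := K') hK P) (fun Q' => if Q' = Q then (z : K') else 0) 1
  have hrQ : Q.1 (r - (z : K')) ≤ exp (-1 : ℤ) := by
    have := hr Q ((mem_Qs hK P Q).2 hQP)
    rwa [if_pos rfl] at this
  have hlt : exp (-1 : ℤ) < (1 : ℤᵐ⁰) := by
    rw [← exp_zero, exp_lt_exp]
    norm_num
  have hrB : r ∈ Bp (K' := K') hK P := by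
    rw [mem_Bp]
    intro Q' hQ'
    by_cases hQQ : Q' = Q
    · subst hQQ
      have h1 : r = (r - (z : K')) + (z : K') := by ring
      rw [h1]
      exact (Q'.1.map_add _ _).trans (max_le (hrQ.trans hlt.le) z.2)
    · have := hr Q' ((mem_Qs hK P Q').2 hQ')
      rw [if_neg hQQ, sub_zero] at this
      exact this.trans hlt.le
  have hrQ1 : Q.1 r ≤ 1 := (mem_Bp hK P).1 hrB Q hQP
  -- `r` is integral hence in `O_P[k']`
  obtain ⟨b, -, hint, -, -⟩ := integral_structure (K' := K') hK P
  have hrint : IsIntegral P.O r := (hint r).2 hrB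
  have hradj : r ∈ Algebra.adjoin P.O (Set.range (algebraMap k' K')) := by
    have h1 : r ∈ (integralClosure P.O K').toSubring := hrint
    rw [hns] at h1
    exact h1
  obtain ⟨τ, hτ⟩ := (mem_adjoin_iff P r).1 hradj
  -- residues
  have hres : IsLocalRing.residue Q.O z = IsLocalRing.residue Q.O ⟨r, hrQ1⟩ := by
    rw [← sub_eq_zero, ← map_sub, IsLocalRing.residue_eq_zero_iff, Valuation.mem_maximalIdeal_iff]
    have h2 : Q.1 ((z : K') - r) ≤ exp (-1 : ℤ) := by
      rw [← Valuation.map_neg]
      have : -((z : K') - r) = r - (z : K') := by ring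
      rw [this]
      exact hrQ
    exact lt_of_le_of_lt h2 hlt
  rw [hres]
  -- induction over the tensor
  have key : ∀ τ : k' ⊗[k] P.O, ∃ hmem : Q.1 (iota (K' := K') P τ) ≤ 1,
      IsLocalRing.residue Q.O ⟨iota (K' := K') P τ, hmem⟩ ∈
        Algebra.adjoin (IsLocalRing.ResidueField P.O)
          (Set.range fun c : k' => IsLocalRing.residue Q.O ⟨algebraMap k' K' c, hk' c⟩) := by
    intro τ
    induction τ using TensorProduct.induction_on with
    | zero =>
      have h0 : Q.1 (iota (k' := k') (K' := K') P 0) ≤ 1 := by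
        rw [map_zero, map_zero]
        exact zero_le'
      refine ⟨h0, ?_⟩
      have : (⟨iota (k' := k') (K' := K') P 0, h0⟩ : Q.O) = 0 := by
        apply Subtype.ext
        exact map_zero _
      rw [this, map_zero]
      exact Subalgebra.zero_mem _
    | tmul c x =>
      have hx : Q.1 (algebraMap K K' (x : K)) ≤ 1 := val_algebraMap_le_one hQP x.2
      have hmem : Q.1 (iota (K' := K') P (c ⊗ₜ x)) ≤ 1 := by
        rw [iota_tmul, map_mul]
        exact mul_le_one' (hk' c) hx
      refine ⟨hmem, ?_⟩
      have h1 : (⟨iota (K' := K') P (c ⊗ₜ x), hmem⟩ : Q.O) =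
          ⟨algebraMap k' K' c, hk' c⟩ * ⟨algebraMap K K' (x : K), hx⟩ := by
        apply Subtype.ext
        rfl
      rw [h1, map_mul]
      refine Subalgebra.mul_mem _ (Algebra.subset_adjoin ⟨c, rfl⟩) ?_
      have h2 : IsLocalRing.residue Q.O ⟨algebraMap K K' (x : K), hx⟩ =
          algebraMap (IsLocalRing.ResidueField P.O) (IsLocalRing.ResidueField Q.O)
            (IsLocalRing.residue P.O x) := rfl
      rw [h2]
      exact Subalgebra.algebraMap_mem _ _
    | add x y hx hy =>
      obtain ⟨hx1, hx2⟩ := hx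
      obtain ⟨hy1, hy2⟩ := hy
      have hmem : Q.1 (iota (K' := K') P (x + y)) ≤ 1 := by
        rw [map_add]
        exact (Q.1.map_add _ _).trans (max_le hx1 hy1)
      refine ⟨hmem, ?_⟩
      have h1 : (⟨iota (K' := K') P (x + y), hmem⟩ : Q.O) =
          ⟨iota (K' := K') P x, hx1⟩ + ⟨iota (K' := K') P y, hy1⟩ := by
        apply Subtype.ext
        exact map_add _ _ _
      rw [h1, map_add]
      exact Subalgebra.add_mem _ hx2 hy2
  obtain ⟨hmem, hkey⟩ := key τ
  have h3 : (⟨r, hrQ1⟩ : Q.O) = ⟨iota (K' := K') P τ, hmem⟩ := by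
    apply Subtype.ext
    exact hτ.symm
  rw [h3]
  exact hkey

end residue

end Groth.Agent.Lib.Helper34.FunFldNonsing2
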