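import Groth.Agent.Lib.Helper34.FunFldNonsing2

/-!
# `R / O_P[k']` is finite-dimensional and `O_P[k']` contains a nonzero ideal of `R` (helper34)
-/

set_option autoImplicit false

namespace Groth.Agent.Lib.Helper34.FunFldNonsing3

open FunFld WithZero Groth.Agent.Lib.Helper88 Groth.Agent.Lib.Helper88.FF
  Groth.Agent.Lib.Helper44.FFExt Groth.Agent.Lib.Helper34.FunFldIntFin
  Groth.Agent.Lib.Helper34.FunFldNormOrd Groth.Agent.Lib.Helper34.FunFldNonsing
open scoped TensorProduct

universe u v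

variable {k k' : Type u} {K K' : Type v} [Field k] [Field k'] [Field K] [Field K']
  [Algebra k k'] [FiniteDimensional k k'] [Algebra k K] [Algebra K K'] [Algebra k' K'] [Algebra k K']
  [IsScalarTower k k' K'] [IsScalarTower k K K']

/-- A common conductor exponent: `t^N R ⊆ O_P[k']`, with the structure of `R`. -/
theorem exists_conductor
    (h : Function.Bijective (Algebra.TensorProduct.productMap
      (IsScalarTower.toAlgHom k k' K') (IsScalarTower.toAlgHom k K K')))
    (hK : IsFunctionField k K)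
    (P : Place k K) [Algebra P.O K'] [IsScalarTower P.O K K'] :
    ∃ (n : ℕ) (b : Fin n → K') (t : P.O) (N : ℕ), P.1 (t : K) = exp (-1 : ℤ) ∧
      (∀ z : K', IsIntegral P.O z ↔ ∃ g : Fin n → P.O, z = ∑ i, algebraMap P.O K' (g i) * b i) ∧
      ∀ i, algebraMap P.O K' (t ^ N) * b i ∈ Algebra.adjoin P.O (Set.range (algebraMap k' K')) := by
  classical
  haveI : Module.Finite K K' := (Groth.Agent.S11006.finrank_K' k k' K K' h).1
  obtain ⟨b, -, -, -, hrep⟩ := integral_structure (K' := K') hK P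
  obtain ⟨t₀, ht₀⟩ := exists_uniformizer P
  have ht₀mem : t₀ ∈ P.O := by
    rw [mem_O_iff, ht₀, ← exp_zero, exp_le_exp]
    norm_num
  obtain ⟨t, ht⟩ : ∃ t : P.O, P.1 (t : K) = exp (-1 : ℤ) := ⟨⟨t₀, ht₀mem⟩, ht₀⟩
  choose Ni τi hτi using fun i => exists_pow_mul_mem (k' := k') P h.2 ht (b i)
  refine ⟨_, b, t, Finset.univ.sup Ni, ht, ?_, ?_⟩
  · intro z
    rw [hrep]
    constructor
    · rintro ⟨g, hg, rfl⟩
      refine ⟨fun i => ⟨g i, hg i⟩, ?_⟩
      apply Finset.sum_congr rfl
      intro i _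
      rw [algebraMap_O_apply]
    · rintro ⟨g, rfl⟩
      refine ⟨fun i => (g i : K), fun i => (g i).2, ?_⟩
      apply Finset.sum_congr rfl
      intro i _
      rw [algebraMap_O_apply]
  · intro i
    have hle : Ni i ≤ Finset.univ.sup Ni := Finset.le_sup (Finset.mem_univ i)
    obtain ⟨d, hd⟩ := Nat.exists_eq_add_of_le hle
    rw [hd, pow_add, map_mul, mul_comm (algebraMap P.O K' (t ^ Ni i)), mul_assoc,
      map_pow (algebraMap P.O K') t (Ni i), ← hτi i]
    exact Subalgebra.mul_mem _ (Subalgebra.algebraMap_mem _ _)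
      ((mem_adjoin_iff P _).2 ⟨τi i, rfl⟩)

lemma coe_ne_zero_of_unif {P : Place k K} {t : P.O} (ht : P.1 (t : K) = exp (-1 : ℤ)) : t ≠ 0 := by
  intro h
  rw [h, ZeroMemClass.coe_zero, map_zero] at ht
  exact exp_ne_zero ht.symm

/-- `O_P[k']` contains a nonzero ideal of the integral closure. -/
theorem conductor_part
    (h : Function.Bijective (Algebra.TensorProduct.productMap
      (IsScalarTower.toAlgHom k k' K') (IsScalarTower.toAlgHom k K K')))
    (hK : IsFunctionField k K)
    (P : Place k K) [Algebra P.O K'] [IsScalarTower P.O K K'] :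
    ∃ c ∈ integralClosure P.O K', c ≠ 0 ∧ ∀ r ∈ integralClosure P.O K',
        c * r ∈ Algebra.adjoin P.O (Set.range (algebraMap k' K')) := by
  obtain ⟨n, b, t, N, ht, hstr, hcond⟩ := exists_conductor h hK P
  have ht0 : t ≠ 0 := coe_ne_zero_of_unif ht
  refine ⟨algebraMap P.O K' (t ^ N), isIntegral_algebraMap, ?_, ?_⟩
  · rw [algebraMap_O_apply]
    intro h0
    have h1 : ((t ^ N : P.O) : K) = 0 := (map_eq_zero _).1 h0
    exact pow_ne_zero N ht0 (Subtype.ext h1)
  · intro r hr
    obtain ⟨g, rfl⟩ := (hstr r).1 hr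
    rw [Finset.mul_sum]
    refine Subalgebra.sum_mem _ (fun i _ => ?_)
    rw [mul_left_comm]
    exact Subalgebra.mul_mem _ (Subalgebra.algebraMap_mem _ _) (hcond i)

lemma algebraMap_O_smul (P : Place k K) [Algebra P.O K'] [IsScalarTower P.O K K'] (c : k)
    (x : P.O) : algebraMap P.O K' (c • x) = c • algebraMap P.O K' x := by
  rw [algebraMap_O_apply, algebraMap_O_apply, coe_smul_O, Algebra.smul_def c (x : K), map_mul,
    ← IsScalarTower.algebraMap_apply k K K', ← Algebra.smul_def]

/-- The integral closure is `O_P[k']` plus a finite-dimensional `k`-space. -/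
theorem finite_part
    (h : Function.Bijective (Algebra.TensorProduct.productMap
      (IsScalarTower.toAlgHom k k' K') (IsScalarTower.toAlgHom k K K')))
    (hK : IsFunctionField k K)
    (P : Place k K) [Algebra P.O K'] [IsScalarTower P.O K K'] :
    ∃ V : Submodule k K', FiniteDimensional k V ∧ ∀ r ∈ integralClosure P.O K',
        ∃ s ∈ Algebra.adjoin P.O (Set.range (algebraMap k' K')), r - s ∈ V := by
  classical
  obtain ⟨n, b, t, N, ht, hstr, hcond⟩ := exists_conductor h hK P
  have ht0 : t ≠ 0 := coe_ne_zero_of_unif ht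
  have htN0 : t ^ N ≠ 0 := pow_ne_zero _ ht0
  have hfin : Module.Finite k (P.O ⧸ Ideal.span {t ^ N}) := (finrank_quot_span hK P htN0).1
  obtain ⟨S, hS⟩ := Module.finite_def.1 hfin
  let q : P.O →ₗ[k] (P.O ⧸ Ideal.span {t ^ N}) :=
    (Submodule.mkQ (Ideal.span {t ^ N})).restrictScalars k
  have hq : ∀ x, q x = Submodule.Quotient.mk x := fun x => rfl
  have hqsurj : Function.Surjective q := Submodule.mkQ_surjective _
  let u : (P.O ⧸ Ideal.span {t ^ N}) → P.O := Function.surjInv hqsurj
  have hu : ∀ s, q (u s) = s := Function.surjInv_eq hqsurj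
  have hdec : ∀ g : P.O, ∃ (c : (P.O ⧸ Ideal.span {t ^ N}) → k) (g' : P.O),
      g = ∑ s ∈ S, c s • u s + g' * t ^ N := by
    intro g
    have hmem : q g ∈ Submodule.span k (S : Set (P.O ⧸ Ideal.span {t ^ N})) := by
      rw [hS]
      trivial
    obtain ⟨c, -, hc⟩ := Submodule.mem_span_finset.1 hmem
    have h1 : q (g - ∑ s ∈ S, c s • u s) = 0 := by
      rw [map_sub, map_sum, ← hc, sub_eq_zero]
      apply Finset.sum_congr rfl
      intro s _
      rw [map_smul, hu]
    rw [hq, Submodule.Quotient.mk_eq_zero, Ideal.mem_span_singleton'] at h1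
    obtain ⟨g', hg'⟩ := h1
    refine ⟨c, g', ?_⟩
    rw [hg']
    ring
  refine ⟨Submodule.span k (Set.range (fun p : S × Fin n => algebraMap P.O K' (u p.1) * b p.2)),
    FiniteDimensional.span_of_finite k (Set.finite_range _), ?_⟩
  intro r hr
  obtain ⟨g, rfl⟩ := (hstr r).1 hr
  choose c g' hg using fun i => hdec (g i)
  refine ⟨∑ i, algebraMap P.O K' (g' i) * (algebraMap P.O K' (t ^ N) * b i),
    Subalgebra.sum_mem _ (fun i _ =>
      Subalgebra.mul_mem _ (Subalgebra.algebraMap_mem _ _) (hcond i)), ?_⟩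
  rw [← Finset.sum_sub_distrib]
  refine Submodule.sum_mem _ (fun i _ => ?_)
  have h2 : algebraMap P.O K' (g i) * b i -
      algebraMap P.O K' (g' i) * (algebraMap P.O K' (t ^ N) * b i) =
      ∑ s ∈ S, c i s • (algebraMap P.O K' (u s) * b i) := by
    conv_lhs => rw [hg i]
    rw [map_add, map_sum, map_mul, add_mul, Finset.sum_mul]
    have : ∀ s ∈ S, algebraMap P.O K' (c i s • u s) * b i =
        c i s • (algebraMap P.O K' (u s) * b i) := by
      intro s _
      rw [algebraMap_O_smul, smul_mul_assoc]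
    rw [Finset.sum_congr rfl this]
    ring
  rw [h2]
  refine Submodule.sum_mem _ (fun s hs => Submodule.smul_mem _ _ ?_)
  exact Submodule.subset_span ⟨(⟨s, hs⟩, i), rfl⟩

end Groth.Agent.Lib.Helper34.FunFldNonsing3
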