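import Groth.Agent.Lib.Helper34.FunFldIntFin
import Groth.Agent.Lib.Helper34.FunFldCond
import Mathlib.RingTheory.Norm.Basic
import Mathlib.LinearAlgebra.FreeModule.Finite.Quotient
import Mathlib.LinearAlgebra.FreeModule.PID
import Mathlib.LinearAlgebra.Determinant
import Mathlib.RingTheory.Norm.Defs

/-!
# Order of a norm: `deg P · v_P(N x) = ∑_{Q | P} deg Q · v_Q(x)` (helper34)
-/

set_option autoImplicit false

namespace Groth.Agent.Lib.Helper34.FunFldNormOrd

open FunFld WithZero Groth.Agent.Lib.Helper88 Groth.Agent.Lib.Helper88.FF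
  Groth.Agent.Lib.Helper44.FFExt Groth.Agent.Lib.Helper34.FunFldZetaSplit
  Groth.Agent.Lib.Helper34.FunFldBox Groth.Agent.Lib.Helper34.FunFldIntFin

section pid

variable {k K : Type*} [Field k] [Field K] [Algebra k K]

lemma mem_O_iff (P : Place k K) {x : K} : x ∈ P.O ↔ P.1 x ≤ 1 := Iff.rfl

lemma coe_ne_zero (P : Place k K) {x : P.O} (hx : x ≠ 0) : (x : K) ≠ 0 := by
  intro h
  exact hx (Subtype.ext h)

lemma ord_nonneg (P : Place k K) {x : P.O} (hx : x ≠ 0) : 0 ≤ P.ord (x : K) :=
  (val_le_one_iff P (coe_ne_zero P hx)).1 x.2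

/-- `O_P` is a principal ideal ring. -/
instance isPrincipalIdealRing_O (P : Place k K) : IsPrincipalIdealRing P.O := by
  classical
  refine ⟨fun I => ?_⟩
  by_cases hI : I = ⊥
  · rw [hI]
    exact bot_isPrincipal
  obtain ⟨x, hxI, hx0⟩ := Submodule.exists_mem_ne_zero_of_ne_bot hI
  have hex : ∃ n : ℕ, ∃ y ∈ I, y ≠ 0 ∧ P.ord (y : K) = n :=
    ⟨(P.ord (x : K)).toNat, x, hxI, hx0, (Int.toNat_of_nonneg (ord_nonneg P hx0)).symm⟩
  obtain ⟨y, hyI, hy0, hy⟩ := Nat.find_spec hex
  refine ⟨⟨y, ?_⟩⟩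
  apply le_antisymm
  · intro z hz
    by_cases hz0 : z = 0
    · rw [hz0]
      exact zero_mem _
    have hle : Nat.find hex ≤ (P.ord (z : K)).toNat :=
      Nat.find_min' hex ⟨z, hz, hz0, (Int.toNat_of_nonneg (ord_nonneg P hz0)).symm⟩
    have hle' : P.ord (y : K) ≤ P.ord (z : K) := by
      rw [hy]
      have := Int.toNat_of_nonneg (ord_nonneg P hz0)
      omega
    have hmem : (z : K) / (y : K) ∈ P.O := by
      rw [mem_O_iff, val_le_one_iff P (div_ne_zero (coe_ne_zero P hz0) (coe_ne_zero P hy0)),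
        div_eq_mul_inv, ord_mul P (coe_ne_zero P hz0) (inv_ne_zero (coe_ne_zero P hy0)), ord_inv]
      linarith
    rw [Ideal.submodule_span_eq, Ideal.mem_span_singleton']
    refine ⟨⟨(z : K) / (y : K), hmem⟩, ?_⟩
    apply Subtype.ext
    show (z : K) / (y : K) * (y : K) = z
    exact div_mul_cancel₀ _ (coe_ne_zero P hy0)
  · rw [Ideal.submodule_span_eq, Ideal.span_singleton_le_iff_mem]
    exact hyI

end pid

section locdim

variable {k K : Type*} [Field k] [Field K] [Algebra k K]

lemma coe_smul_O (P : Place k K) (c : k) (r : P.O) : ((c • r : P.O) : K) = c • (r : K) := by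
  rw [Algebra.smul_def, Algebra.smul_def]
  rfl

/-- The inclusion of the unit ball into `O_P` as a `k`-linear map. -/
noncomputable def toO (P : Place k K) : box ({P} : Finset (Place k K)) (fun _ => 0) →ₗ[k] P.O where
  toFun z := ⟨z.1, by
    have := (mem_box.1 z.2) P (Finset.mem_singleton_self P)
    rwa [exp_zero] at this⟩
  map_add' _ _ := rfl
  map_smul' c z := by
    apply Subtype.ext
    rw [RingHom.id_apply, coe_smul_O]
    rfl

lemma coe_toO (P : Place k K) (z : box ({P} : Finset (Place k K)) (fun _ => 0)) :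
    ((toO P z : P.O) : K) = z.1 := rfl

lemma mem_span_singleton_iff (P : Place k K) {a : P.O} (ha : a ≠ 0) (r : P.O) :
    r ∈ Ideal.span ({a} : Set P.O) ↔ P.1 (r : K) ≤ P.1 (a : K) := by
  have ha' := coe_ne_zero P ha
  have hpos : 0 < P.1 (a : K) := zero_lt_iff.2 ((Valuation.ne_zero_iff _).2 ha')
  rw [Ideal.mem_span_singleton']
  constructor
  · rintro ⟨c, rfl⟩
    show P.1 ((c : K) * (a : K)) ≤ _
    rw [map_mul]
    calc P.1 (c : K) * P.1 (a : K) ≤ 1 * P.1 (a : K) := mul_le_mul' c.2 le_rfl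
      _ = _ := one_mul _
  · intro h
    have hmem : (r : K) / (a : K) ∈ P.O := by
      rw [mem_O_iff, map_div₀, div_le_iff₀ hpos, one_mul]
      exact h
    refine ⟨⟨(r : K) / (a : K), hmem⟩, ?_⟩
    apply Subtype.ext
    show (r : K) / (a : K) * (a : K) = r
    exact div_mul_cancel₀ _ ha'

/-- **Local dimension**: `dim_k O_P/(a) = deg P · v_P(a)`. -/
theorem finrank_quot_span (hK : IsFunctionField k K) (P : Place k K) {a : P.O} (ha : a ≠ 0) :
    Module.Finite k (P.O ⧸ Ideal.span ({a} : Set P.O)) ∧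
    (Module.finrank k (P.O ⧸ Ideal.span ({a} : Set P.O)) : ℤ) = P.deg * P.ord (a : K) := by
  classical
  have ha' := coe_ne_zero P ha
  obtain ⟨m, hm⟩ : ∃ m : ℕ, P.ord (a : K) = m :=
    ⟨(P.ord (a : K)).toNat, (Int.toNat_of_nonneg (ord_nonneg P ha)).symm⟩
  have hfin : ∀ Q ∈ ({P} : Finset (Place k K)), Module.Finite k (IsLocalRing.ResidueField Q.O) :=
    fun Q _ => finiteDimensional_residueField hK Q
  obtain ⟨h1, h2⟩ := finrank_box_quot ({P} : Finset (Place k K)) hfin (fun _ => 0) m (fun _ => m)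
    (by rw [Finset.sum_singleton])
  rw [Finset.sum_singleton] at h2
  let ψ : box ({P} : Finset (Place k K)) (fun _ => 0) →ₗ[k] (P.O ⧸ Ideal.span ({a} : Set P.O)) :=
    ((Submodule.mkQ (Ideal.span ({a} : Set P.O))).restrictScalars k).comp (toO P)
  have hψ : ∀ z, ψ z = Submodule.Quotient.mk (toO P z) := fun z => rfl
  have hsurj : Function.Surjective ψ := by
    intro y
    induction y using Submodule.Quotient.induction_on with
    | _ r =>
      refine ⟨⟨(r : K), ?_⟩, ?_⟩
      · rw [mem_box]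
        intro Q _
        rw [exp_zero]
        rw [Finset.mem_singleton] at *
        subst_vars
        exact r.2
      · rw [hψ]
        rfl
  have hker : ∀ z : box ({P} : Finset (Place k K)) (fun _ => 0), ψ z = 0 ↔
      (z : K) ∈ box ({P} : Finset (Place k K)) (fun _ => (0 : ℤ) - (m : ℤ)) := by
    intro z
    rw [hψ, Submodule.Quotient.mk_eq_zero, mem_span_singleton_iff P ha, coe_toO, mem_box]
    rw [val_eq_exp_neg_ord P ha', hm]
    constructor
    · intro h Q hQ
      rw [Finset.mem_singleton] at hQ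
      subst hQ
      rw [zero_sub]
      exact h
    · intro h
      have := h P (Finset.mem_singleton_self P)
      rwa [zero_sub] at this
  let e := relQuotEquivOfSurjective ψ hsurj hker
  refine ⟨Module.Finite.equiv e, ?_⟩
  rw [← LinearEquiv.finrank_eq e, h2, hm]
  push_cast
  ring

end locdim

section detidx

variable {k K : Type*} [Field k] [Field K] [Algebra k K]

lemma val_unit (P : Place k K) {u : P.O} (hu : IsUnit u) : P.1 (u : K) = 1 := by
  obtain ⟨v, hv⟩ := hu.exists_right_inv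
  have h1 : P.1 (u : K) * P.1 (v : K) = 1 := by
    rw [← map_mul]
    have : ((u * v : P.O) : K) = 1 := by rw [hv]; rfl
    rw [show (u : K) * (v : K) = ((u * v : P.O) : K) from rfl, this, map_one]
  apply le_antisymm u.2
  calc (1 : ℤᵐ⁰) = P.1 (u : K) * P.1 (v : K) := h1.symm
    _ ≤ P.1 (u : K) * 1 := mul_le_mul' le_rfl v.2
    _ = _ := mul_one _

lemma ord_associated (P : Place k K) {x y : P.O} (h : Associated x y) :
    P.ord (x : K) = P.ord (y : K) := by
  obtain ⟨u, rfl⟩ := h
  have : ((x * (u : P.O) : P.O) : K) = (x : K) * ((u : P.O) : K) := rfl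
  rw [Place.ord, Place.ord, this, map_mul, val_unit P u.isUnit, mul_one]

lemma ord_prod (P : Place k K) {ι : Type*} (s : Finset ι) (a : ι → P.O) (ha : ∀ i ∈ s, a i ≠ 0) :
    P.ord ((∏ i ∈ s, a i : P.O) : K) = ∑ i ∈ s, P.ord (a i : K) := by
  classical
  induction s using Finset.induction_on with
  | empty =>
    rw [Finset.prod_empty, Finset.sum_empty]
    exact ord_one P
  | insert i s hi ih =>
    rw [Finset.prod_insert hi, Finset.sum_insert hi]
    have h1 : a i ≠ 0 := ha i (Finset.mem_insert_self i s)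
    have h2 : ∏ j ∈ s, a j ≠ 0 :=
      Finset.prod_ne_zero_iff.2 (fun j hj => ha j (Finset.mem_insert_of_mem hj))
    show P.ord ((a i : K) * ((∏ j ∈ s, a j : P.O) : K)) = _
    rw [ord_mul P (coe_ne_zero P h1) (coe_ne_zero P h2),
      ih (fun j hj => ha j (Finset.mem_insert_of_mem hj))]

variable {ι M : Type*} [Fintype ι] [AddCommGroup M]

/-- **Determinant–index formula over `O_P`**: for an injective endomorphism `T` of a finite free
`O_P`-module, `dim_k coker T = deg P · v_P(det T)`. -/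
theorem finrank_quot_range (hK : IsFunctionField k K) (P : Place k K)
    [Module P.O M] [Module k M] [IsScalarTower k P.O M]
    (b : Module.Basis ι P.O M) (T : M →ₗ[P.O] M) (hT : Function.Injective T) :
    (Module.finrank k (M ⧸ LinearMap.range T) : ℤ) =
      P.deg * P.ord ((LinearMap.det T : P.O) : K) := by
  classical
  obtain ⟨N, hN⟩ : ∃ N : Submodule P.O M, N = LinearMap.range T := ⟨_, rfl⟩
  rw [← hN]
  let e₀ : M ≃ₗ[P.O] N := (LinearEquiv.ofInjective T hT).trans (LinearEquiv.ofEq _ _ hN.symm)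
  have he₀ : ∀ x, (e₀ x : M) = T x := fun x => rfl
  have h : Module.finrank P.O N = Module.finrank P.O M := (LinearEquiv.finrank_eq e₀).symm
  have ab_eq := Submodule.smithNormalFormBotBasis_def b h
  have ha0 : ∀ i, Submodule.smithNormalFormCoeffs b h i ≠ 0 :=
    Submodule.smithNormalFormCoeffs_ne_zero b h
  haveI : ∀ i, Module.Finite k (P.O ⧸ Ideal.span {Submodule.smithNormalFormCoeffs b h i}) :=
    fun i => (finrank_quot_span hK P (ha0 i)).1
  have h1 := Submodule.finrank_quotient_eq_sum k b h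
  rw [h1]
  push_cast
  have h2 : ∀ i, (Module.finrank k (P.O ⧸ Ideal.span {Submodule.smithNormalFormCoeffs b h i}) : ℤ)
      = P.deg * P.ord ((Submodule.smithNormalFormCoeffs b h i : P.O) : K) :=
    fun i => (finrank_quot_span hK P (ha0 i)).2
  rw [Finset.sum_congr rfl (fun i _ => h2 i), ← Finset.mul_sum]
  congr 1
  -- determinant
  let e' : M ≃ₗ[P.O] N := (Submodule.smithNormalFormTopBasis b h).equiv
    (Submodule.smithNormalFormBotBasis b h) (Equiv.refl _)
  let f : M →ₗ[P.O] M := N.subtype.comp (e' : M →ₗ[P.O] N)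
  have hf : ∀ i, f (Submodule.smithNormalFormTopBasis b h i) =
      Submodule.smithNormalFormCoeffs b h i • Submodule.smithNormalFormTopBasis b h i := by
    intro i
    show ((e' (Submodule.smithNormalFormTopBasis b h i) : N) : M) = _
    rw [Module.Basis.equiv_apply, Equiv.refl_apply, ab_eq]
  have hdetf : LinearMap.det f = ∏ i, Submodule.smithNormalFormCoeffs b h i := by
    rw [← LinearMap.det_toMatrix (Submodule.smithNormalFormTopBasis b h)]
    have : LinearMap.toMatrix (Submodule.smithNormalFormTopBasis b h)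
        (Submodule.smithNormalFormTopBasis b h) f =
        Matrix.diagonal (Submodule.smithNormalFormCoeffs b h) := by
      ext i j
      rw [LinearMap.toMatrix_apply, hf, map_smul, Finsupp.smul_apply, Module.Basis.repr_self,
        Matrix.diagonal_apply, Finsupp.single_apply, smul_eq_mul]
      by_cases hij : i = j
      · subst hij
        simp
      · rw [if_neg hij, if_neg (Ne.symm hij), mul_zero]
    rw [this, Matrix.det_diagonal]
  have hassoc : Associated (LinearMap.det T) (LinearMap.det f) := by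
    have hT' : T = N.subtype.comp (e₀ : M →ₗ[P.O] N) := by
      ext x
      exact (he₀ x).symm
    rw [hT']
    exact LinearMap.associated_det_comp_equiv _ _ _
  rw [ord_associated P hassoc, hdetf, ord_prod P _ _ (fun i _ => ha0 i)]

end detidx

section glue

open scoped Matrix

variable {k K K' : Type*} [Field k] [Field K] [Field K'] [Algebra k K] [Algebra K K']
  [Algebra k K'] [IsScalarTower k K K'] [FiniteDimensional K K']
  (hK : IsFunctionField k K) (P : Place k K)

lemma mul_mem_Bp {x z : K'} (hx : x ∈ Bp (K' := K') hK P) (hz : z ∈ Bp (K' := K') hK P) :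
    x * z ∈ Bp (K' := K') hK P := by
  rw [mem_Bp] at *
  intro Q hQ
  rw [map_mul]
  exact mul_le_one' (hx Q hQ) (hz Q hQ)

/-- The norm formula for integral elements. -/
theorem deg_mul_ord_norm_of_mem_Bp {x : K'} (hx : x ∈ Bp (K' := K') hK P) (hx0 : x ≠ 0) :
    (P.deg : ℤ) * P.ord (Algebra.norm K x) =
      ∑ Q ∈ Qs (K' := K') hK P, (Q.deg : ℤ) * Q.ord x := by
  classical
  obtain ⟨b, hli, hb, hrep⟩ := exists_basis (K' := K') hK P
  haveI : Nonempty (Fin (Module.finrank K K')) := ⟨⟨0, Module.finrank_pos⟩⟩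
  obtain ⟨B, hB⟩ : ∃ B : Module.Basis (Fin (Module.finrank K K')) K K', ⇑B = b :=
    ⟨basisOfLinearIndependentOfCardEqFinrank hli (by rw [Fintype.card_fin]),
      coe_basisOfLinearIndependentOfCardEqFinrank hli _⟩
  have hcoord : ∀ z ∈ Bp (K' := K') hK P, ∀ i, P.1 (B.repr z i) ≤ 1 := by
    intro z hz i
    obtain ⟨g, hg, rfl⟩ := hrep z hz
    have : ∑ i, algebraMap K K' (g i) * b i = ∑ i, g i • B i := by
      apply Finset.sum_congr rfl
      intro j _
      rw [hB, Algebra.smul_def]
    rw [this, B.repr_sum_self]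
    exact hg i
  -- the coordinate map
  let coord : Bp (K' := K') hK P →ₗ[k] (Fin (Module.finrank K K') → P.O) :=
    { toFun := fun z i => ⟨B.repr z.1 i, hcoord z.1 z.2 i⟩
      map_add' := fun z w => by
        funext i
        apply Subtype.ext
        show B.repr (z.1 + w.1) i = B.repr z.1 i + B.repr w.1 i
        rw [map_add, Finsupp.add_apply]
      map_smul' := fun c z => by
        funext i
        apply Subtype.ext
        rw [RingHom.id_apply, Pi.smul_apply, coe_smul_O]
        show B.repr (c • z.1) i = c • B.repr z.1 i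
        rw [← algebraMap_smul K c z.1, map_smul, Finsupp.smul_apply, smul_eq_mul,
          Algebra.smul_def] }
  have hcoord_apply : ∀ z i, ((coord z i : P.O) : K) = B.repr z.1 i := fun z i => rfl
  have hcoord_inj : ∀ z w, coord z = coord w → z.1 = w.1 := by
    intro z w h
    apply B.repr.injective
    ext i
    rw [← hcoord_apply, ← hcoord_apply, h]
  have hlift : ∀ c : Fin (Module.finrank K K') → P.O,
      ∑ i, ((c i : P.O) : K) • B i ∈ Bp (K' := K') hK P := by
    intro c
    refine Submodule.sum_mem _ (fun i _ => ?_)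
    rw [Algebra.smul_def, hB]
    exact (mem_Bp hK P).2 (smul_mem_Bp P (c i).2 ((mem_Bp hK P).1 (hb i)))
  have hcoord_lift : ∀ c, coord ⟨_, hlift c⟩ = c := by
    intro c
    funext i
    apply Subtype.ext
    rw [hcoord_apply]
    show B.repr (∑ i, ((c i : P.O) : K) • B i) i = _
    rw [B.repr_sum_self]
  -- the matrix of multiplication by `x`
  let A : Matrix (Fin (Module.finrank K K')) (Fin (Module.finrank K K')) P.O :=
    fun i j => ⟨B.repr (x * b j) i, hcoord _ (mul_mem_Bp hK P hx (hb j)) i⟩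
  have hA : A.map P.O.subtype = Algebra.leftMulMatrix B x := by
    ext i j
    rw [Matrix.map_apply, Algebra.leftMulMatrix_eq_repr_mul, hB]
    rfl
  have hdetA : ((A.det : P.O) : K) = Algebra.norm K x := by
    rw [Algebra.norm_eq_matrix_det B x, ← hA]
    exact (P.O.subtype).map_det A
  have hdet0 : A.det ≠ 0 := by
    intro h0
    rw [h0] at hdetA
    exact (Algebra.norm_ne_zero_iff_of_basis B).2 hx0 hdetA.symm
  let T : (Fin (Module.finrank K K') → P.O) →ₗ[P.O] (Fin (Module.finrank K K') → P.O) :=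
    Matrix.toLin' A
  have hTinj : Function.Injective T := by
    rw [← LinearMap.ker_eq_bot, LinearMap.ker_eq_bot']
    intro v hv
    exact Matrix.eq_zero_of_mulVec_eq_zero hdet0 (by rwa [Matrix.toLin'_apply] at hv)
  have hGL := finrank_quot_range hK P (Pi.basisFun P.O (Fin (Module.finrank K K'))) T hTinj
  rw [LinearMap.det_toLin', hdetA] at hGL
  have hmulcoord : ∀ (z : Bp (K' := K') hK P),
      coord ⟨x * z.1, mul_mem_Bp hK P hx z.2⟩ = T (coord z) := by
    intro z
    funext i
    apply Subtype.ext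
    rw [hcoord_apply, Matrix.toLin'_apply]
    show B.repr (x * z.1) i = P.O.subtype ((A *ᵥ coord z) i)
    rw [← Algebra.leftMulMatrix_mulVec_repr B x z.1, ← hA]
    simp only [Matrix.mulVec, dotProduct, Matrix.map_apply, map_sum, map_mul]
    rfl
  let ψ : Bp (K' := K') hK P →ₗ[k] ((Fin (Module.finrank K K') → P.O) ⧸ LinearMap.range T) :=
    ((Submodule.mkQ (LinearMap.range T)).restrictScalars k).comp coord
  have hψ : ∀ z, ψ z = Submodule.Quotient.mk (coord z) := fun z => rfl
  have hsurj : Function.Surjective ψ := by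
    intro y
    induction y using Submodule.Quotient.induction_on with
    | _ c => exact ⟨⟨_, hlift c⟩, by rw [hψ, hcoord_lift]⟩
  obtain ⟨cQ, hcQ⟩ : ∃ cQ : Place k K' → ℕ, ∀ Q, IsOver Q P → Q.ord x = cQ Q := by
    refine ⟨fun Q => (Q.ord x).toNat, fun Q hQ => ?_⟩
    exact (Int.toNat_of_nonneg ((val_le_one_iff Q hx0).1 ((mem_Bp hK P).1 hx Q hQ))).symm
  have hker : ∀ z : Bp (K' := K') hK P, ψ z = 0 ↔
      (z : K') ∈ box (Qs (K' := K') hK P) (fun Q => (fun _ => (0 : ℤ)) Q - (cQ Q : ℕ)) := by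
    intro z
    rw [hψ, Submodule.Quotient.mk_eq_zero, LinearMap.mem_range, mem_box]
    constructor
    · rintro ⟨c, hc⟩
      have hz : z.1 = x * ∑ i, ((c i : P.O) : K) • B i := by
        have h1 := hmulcoord ⟨_, hlift c⟩
        rw [hcoord_lift, hc] at h1
        exact (hcoord_inj _ _ h1).symm
      intro Q hQ
      have hQ' := (mem_Qs hK P Q).1 hQ
      rw [hz, map_mul, zero_sub, ← hcQ Q hQ', ← val_eq_exp_neg_ord Q hx0]
      calc Q.1 x * Q.1 (∑ i, ((c i : P.O) : K) • B i) ≤ Q.1 x * 1 :=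
            mul_le_mul' le_rfl ((mem_Bp hK P).1 (hlift c) Q hQ')
        _ = _ := mul_one _
    · intro h
      have hw : x⁻¹ * z.1 ∈ Bp (K' := K') hK P := by
        rw [mem_Bp]
        intro Q hQ
        have := h Q ((mem_Qs hK P Q).2 hQ)
        rw [zero_sub, ← hcQ Q hQ, ← val_eq_exp_neg_ord Q hx0] at this
        have hpos : 0 < Q.1 x := zero_lt_iff.2 ((Valuation.ne_zero_iff _).2 hx0)
        rw [map_mul, map_inv₀, inv_mul_le_iff₀ hpos, mul_one]
        exact this
      refine ⟨coord ⟨_, hw⟩, ?_⟩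
      show T (coord ⟨_, hw⟩) = coord z
      rw [← hmulcoord]
      congr 1
      apply Subtype.ext
      show x * (x⁻¹ * z.1) = z.1
      rw [mul_inv_cancel_left₀ hx0]
  let e := relQuotEquivOfSurjective ψ hsurj hker
  have hfin : ∀ Q ∈ Qs (K' := K') hK P, Module.Finite k (IsLocalRing.ResidueField Q.O) :=
    fun Q _ => Module.finite_of_finrank_pos (deg_pos' hK Q)
  obtain ⟨-, h2⟩ := finrank_box_quot (Qs (K' := K') hK P) hfin (fun _ => 0) _ cQ rfl
  rw [← hGL, ← LinearEquiv.finrank_eq e]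
  have h3 : Module.finrank k (RelQuot (box (Qs (K' := K') hK P)
      (fun Q => (fun _ => (0 : ℤ)) Q - (cQ Q : ℕ))) (Bp (K' := K') hK P)) =
      ∑ Q ∈ Qs (K' := K') hK P, cQ Q * Q.deg := h2
  rw [h3]
  push_cast
  apply Finset.sum_congr rfl
  intro Q hQ
  rw [hcQ Q ((mem_Qs hK P Q).1 hQ)]
  ring

/-- Every element of `K'` has a nonzero multiple by an element of `O_P` in `B'`. -/
lemma exists_mul_mem_Bp (x : K') : ∃ d : K, d ≠ 0 ∧ P.1 d ≤ 1 ∧
    algebraMap K K' d * x ∈ Bp (K' := K') hK P := by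
  classical
  obtain ⟨t, ht⟩ := exists_uniformizer P
  choose e he using fun Q : Place k K' => FunFldCond.exists_le_exp_nat (Q.1 x)
  obtain ⟨N, hN⟩ : ∃ N : ℕ, N = (Qs (K' := K') hK P).sup e := ⟨_, rfl⟩
  have ht0 : t ≠ 0 := by
    intro h
    rw [h, map_zero] at ht
    exact exp_ne_zero ht.symm
  have htN : P.1 (t ^ N) ≤ 1 := by
    rw [map_pow, ht]
    exact pow_le_one₀ zero_le' (by rw [← exp_zero, exp_le_exp]; norm_num)
  refine ⟨t ^ N, pow_ne_zero _ ht0, htN, ?_⟩
  rw [mem_Bp]
  intro Q hQ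
  have h1 : Q.1 (algebraMap K K' (t ^ N)) ≤ exp (-(N : ℤ)) := by
    rw [map_pow, map_pow, val_algebraMap_unif hQ ht, exp_pow', exp_le_exp]
    have : 1 ≤ ramIdx Q P := ramIdx_pos hQ
    have h2 : (N : ℤ) * 1 ≤ (N : ℤ) * (ramIdx Q P : ℤ) :=
      mul_le_mul_of_nonneg_left (by exact_mod_cast this) (Int.natCast_nonneg _)
    linarith
  have h3 : Q.1 x ≤ exp (N : ℤ) := by
    refine (he Q).trans ?_
    rw [exp_le_exp, hN]
    exact_mod_cast Finset.le_sup ((mem_Qs hK P Q).2 hQ)
  rw [map_mul]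
  calc Q.1 (algebraMap K K' (t ^ N)) * Q.1 x ≤ exp (-(N : ℤ)) * exp (N : ℤ) := mul_le_mul' h1 h3
    _ = 1 := by rw [← exp_add, neg_add_cancel, exp_zero]

include hK in
/-- **Order of a norm**: `deg P · v_P(N_{K'/K} x) = ∑_{Q | P} deg Q · v_Q(x)`. -/
theorem deg_mul_ord_norm (x : K') (S : Finset (Place k K')) (hS : ∀ Q, Q ∈ S ↔ IsOver Q P) :
    (P.deg : ℤ) * P.ord (Algebra.norm K x) = ∑ Q ∈ S, (Q.deg : ℤ) * Q.ord x := by
  classical
  have hSeq : S = Qs (K' := K') hK P := by
    ext Q
    rw [hS, mem_Qs]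
  rw [hSeq]
  rcases eq_or_ne x 0 with rfl | hx0
  · rw [Algebra.norm_zero, ord_zero, mul_zero]
    symm
    apply Finset.sum_eq_zero
    intro Q _
    rw [ord_zero, mul_zero]
  obtain ⟨d, hd0, hd1, hdx⟩ := exists_mul_mem_Bp hK P x
  have hd' : algebraMap K K' d ≠ 0 := (map_ne_zero _).2 hd0
  have hdB : algebraMap K K' d ∈ Bp (K' := K') hK P := by
    rw [mem_Bp]
    intro Q hQ
    exact val_algebraMap_le_one hQ hd1
  have h1 := deg_mul_ord_norm_of_mem_Bp hK P hdx (mul_ne_zero hd' hx0)
  have h2 := deg_mul_ord_norm_of_mem_Bp hK P hdB hd'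
  have hn1 : Algebra.norm K (algebraMap K K' d) ≠ 0 := Algebra.norm_ne_zero_iff.2 hd'
  have hn2 : Algebra.norm K x ≠ 0 := Algebra.norm_ne_zero_iff.2 hx0
  rw [map_mul, ord_mul P hn1 hn2] at h1
  have h3 : ∑ Q ∈ Qs (K' := K') hK P, (Q.deg : ℤ) * Q.ord (algebraMap K K' d * x) =
      ∑ Q ∈ Qs (K' := K') hK P, (Q.deg : ℤ) * Q.ord (algebraMap K K' d) +
      ∑ Q ∈ Qs (K' := K') hK P, (Q.deg : ℤ) * Q.ord x := by
    rw [← Finset.sum_add_distrib]
    apply Finset.sum_congr rfl
    intro Q _
    rw [ord_mul Q hd' hx0, mul_add]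
  rw [h3] at h1
  linarith

end glue

end Groth.Agent.Lib.Helper34.FunFldNormOrd
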