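/-
Function fields of one variable over an algebraically closed constant field:
plane models `(1 : x : y)`: the divisor of the map, generic coordinate change `x ↦ x + c y`
making the pole divisor of the first coordinate equal to the divisor of the map.
Author: helper34
-/
import Groth.Agent.Lib.Helper34.FunFldMapDiv

set_option autoImplicit false

namespace Groth.Agent.Lib.Helper34.FunFldPlane

open FunFld WithZero Groth.Agent.Lib.Helper88.FF Groth.Agent.Lib.Helper34.FunFldCond
  Groth.Agent.Lib.Helper34.FunFldMapDiv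

variable {k K : Type*} [Field k] [Field K] [Algebra k K]

section basic

variable (hK : IsFunctionField k K) (x y : K)
include hK

lemma neg_ord_le_mapDiv (Q : Place k K) (i : Fin 3) :
    -Q.ord (![(1 : K), x, y] i) ≤ mapDiv k ![(1 : K), x, y] Q := by
  rw [mapDiv_apply hK]
  exact neg_le_neg (Finset.inf'_le _ (Finset.mem_univ i))

lemma mapDiv_nonneg (Q : Place k K) : 0 ≤ mapDiv k ![(1 : K), x, y] Q := by
  have := neg_ord_le_mapDiv hK x y Q 0
  simpa [Place.ord] using this

lemma exists_mapDiv_eq (Q : Place k K) :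
    ∃ i : Fin 3, mapDiv k ![(1 : K), x, y] Q = -Q.ord (![(1 : K), x, y] i) := by
  obtain ⟨i, -, hi⟩ := Finset.exists_mem_eq_inf' Finset.univ_nonempty
    (fun i => Q.ord (![(1 : K), x, y] i))
  exact ⟨i, by rw [mapDiv_apply hK, hi]⟩

lemma val_le_exp_mapDiv (Q : Place k K) (i : Fin 3) :
    Q.1 (![(1 : K), x, y] i) ≤ exp (mapDiv k ![(1 : K), x, y] Q) := by
  by_cases h0 : ![(1 : K), x, y] i = 0
  · rw [h0, map_zero]
    exact zero_le'
  · rw [val_eq_exp_neg_ord Q h0, exp_le_exp]
    exact neg_ord_le_mapDiv hK x y Q i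

lemma x_mem_L : x ∈ L (mapDiv k ![(1 : K), x, y]) := fun Q => val_le_exp_mapDiv hK x y Q 1

lemma y_mem_L : y ∈ L (mapDiv k ![(1 : K), x, y]) := fun Q => val_le_exp_mapDiv hK x y Q 2

/-- At a place where `[φ]` is positive, `x` or `y` has exact pole order `[φ](Q)`. -/
lemma val_eq_of_pos (Q : Place k K) (hpos : 0 < mapDiv k ![(1 : K), x, y] Q) :
    Q.1 x = exp (mapDiv k ![(1 : K), x, y] Q) ∨ Q.1 y = exp (mapDiv k ![(1 : K), x, y] Q) := by
  obtain ⟨i, hi⟩ := exists_mapDiv_eq hK x y Q
  have key : ∀ z : K, mapDiv k ![(1 : K), x, y] Q = -Q.ord z →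
      Q.1 z = exp (mapDiv k ![(1 : K), x, y] Q) := by
    intro z hz
    have hz0 : z ≠ 0 := by
      rintro rfl
      rw [hz, ord_zero] at hpos
      simp at hpos
    rw [val_eq_exp_neg_ord Q hz0, hz]
  fin_cases i
  · exfalso
    rw [hi] at hpos
    simp [Place.ord] at hpos
  · exact Or.inl (key x hi)
  · exact Or.inr (key y hi)

end basic

/-- **Generic coordinate change**: for some `c`, the function `x + c y` has pole divisor exactly
the divisor `[φ]` of the plane model `(1 : x : y)`. -/
theorem exists_generic [IsAlgClosed k] (hK : IsFunctionField k K) (x y : K) :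
    ∃ c : k, ∀ Q : Place k K,
      (0 < mapDiv k ![(1 : K), x, y] Q →
        Q.1 (x + c • y) = exp (mapDiv k ![(1 : K), x, y] Q)) ∧
      (mapDiv k ![(1 : K), x, y] Q = 0 → Q.1 (x + c • y) ≤ 1) := by
  classical
  set D := mapDiv k ![(1 : K), x, y] with hD
  -- the bad constants
  have hα : ∀ Q : Place k K, ∃ a : k, Q.1 y = exp (D Q) → Q.1 (x / y - algebraMap k K a) < 1 := by
    intro Q
    by_cases h : Q.1 y = exp (D Q)
    · have hy0 : y ≠ 0 := by
        rintro rfl
        rw [map_zero] at h
        exact exp_ne_zero h.symm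
      have h1 : Q.1 (x / y) ≤ 1 := by
        rw [map_div₀, h]
        exact (div_le_one₀ (zero_lt_iff.2 exp_ne_zero)).2 (x_mem_L hK x y Q)
      obtain ⟨a, ha⟩ := Groth.Agent.Lib.Helper68.FunFldRes.exists_const hK Q h1
      exact ⟨a, fun _ => ha⟩
    · exact ⟨0, fun h' => (h h').elim⟩
  choose α hα using hα
  have hinf : Infinite k := IsAlgClosed.instInfinite
  obtain ⟨c, hc⟩ := Infinite.exists_notMem_finset (D.support.image fun Q => -α Q)
  refine ⟨c, fun Q => ⟨fun hpos => ?_, fun hzero => ?_⟩⟩
  · have hQsupp : Q ∈ D.support := by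
      rw [Finsupp.mem_support_iff]
      exact hpos.ne'
    have hcα : c + α Q ≠ 0 := by
      intro h
      apply hc
      rw [Finset.mem_image]
      exact ⟨Q, hQsupp, by linear_combination -h⟩
    by_cases hy : Q.1 y = exp (D Q)
    · have hy0 : y ≠ 0 := by
        rintro rfl
        rw [map_zero] at hy
        exact exp_ne_zero hy.symm
      have h1 := hα Q hy
      have h2 : Q.1 (algebraMap k K (c + α Q)) = 1 := val_algebraMap Q hcα
      have e : x + c • y = y * ((x / y - algebraMap k K (α Q)) + algebraMap k K (c + α Q)) := by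
        rw [Algebra.smul_def, map_add]
        field_simp
        ring
      rw [e, map_mul, Valuation.map_add_eq_of_lt_right _ (by rw [h2]; exact h1), h2, mul_one, hy]
    · have hylt : Q.1 y < exp (D Q) := lt_of_le_of_ne (y_mem_L hK x y Q) hy
      have hx : Q.1 x = exp (D Q) := (val_eq_of_pos hK x y Q hpos).resolve_right hy
      have h1 : Q.1 (c • y) < Q.1 x := by
        rw [hx]
        exact lt_of_le_of_lt (val_smul_le Q c y) hylt
      rw [Valuation.map_add_eq_of_lt_left _ h1, hx]
  · have hx1 : Q.1 x ≤ 1 := by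
      have := x_mem_L hK x y Q
      rwa [← hD, hzero, exp_zero] at this
    have hy1 : Q.1 y ≤ 1 := by
      have := y_mem_L hK x y Q
      rwa [← hD, hzero, exp_zero] at this
    exact (Q.1.map_add _ _).trans (max_le hx1 ((val_smul_le Q c y).trans hy1))

/-- For the generic coordinate, the pole divisor is the divisor of the map. -/
theorem poleDiv_eq_mapDiv (hK : IsFunctionField k K) (x y : K) (z : K)
    (hz : ∀ Q : Place k K,
      (0 < mapDiv k ![(1 : K), x, y] Q → Q.1 z = exp (mapDiv k ![(1 : K), x, y] Q)) ∧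
      (mapDiv k ![(1 : K), x, y] Q = 0 → Q.1 z ≤ 1)) :
    ((-FunFld.div k z) ⊔ 0 : Divisor k K) = mapDiv k ![(1 : K), x, y] := by
  ext Q
  have h0 := mapDiv_nonneg hK x y Q
  have e := poleDiv_apply hK z Q
  unfold poleDiv at e
  rw [e]
  rcases h0.lt_or_eq with hpos | hzero
  · have h1 := (hz Q).1 hpos
    have hz0 : z ≠ 0 := by
      rintro rfl
      rw [map_zero] at h1
      exact exp_ne_zero h1.symm
    rw [val_eq_exp_neg_ord Q hz0] at h1
    have h2 := exp_injective h1
    rw [h2]
    exact max_eq_left hpos.le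
  · have h1 := (hz Q).2 hzero.symm
    rw [← hzero]
    apply max_eq_right
    by_cases hz0 : z = 0
    · rw [hz0, ord_zero]; simp
    · have := (val_le_one_iff Q hz0).1 h1
      omega

end Groth.Agent.Lib.Helper34.FunFldPlane
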