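import Groth.Agent.Lib.Helper34.FunFldZetaSplit2
import Groth.Agent.Lib.Helper44.FunFldExt5
import Groth.Agent.Lib.Helper34.FunFldCond
import Mathlib.FieldTheory.PrimitiveElement

/-!
# Unramified places in finite separable extensions of function fields (helper34)

* `exists_place_of_ideal`: a proper ideal of `O_P[Y]` containing the minimal polynomial of `y`
  and `m_P` gives a place of `K' = K(y)` over `P` whose maximal ideal contains the image of the
  ideal.
-/

set_option autoImplicit false

namespace Groth.Agent.Lib.Helper34.FunFldRam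

open FunFld Polynomial WithZero Groth.Agent.Lib.Helper88.FF Groth.Agent.Lib.Helper44.FFExt
  Groth.Agent.Lib.Helper34.FunFldZetaSplit

variable {k K K' : Type*} [Field k] [Field K] [Field K'] [Algebra k K] [Algebra K K']
  [Algebra k K'] [IsScalarTower k K K']

/-- The kernel of `O_P[Y] → K'`, `Y ↦ y`, is generated by a monic lift of the minimal polynomial. -/
theorem dvd_of_eval₂_eq_zero (P : Place k K) {y : K'} (hy : IsIntegral K y)
    {GO : Polynomial P.O} (hGO : GO.Monic) (hmap : GO.map P.O.subtype = minpoly K y)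
    (g : Polynomial P.O)
    (hg : Polynomial.eval₂ ((algebraMap K K').comp P.O.subtype) y g = 0) : GO ∣ g := by
  have hφ : ∃ φ : P.O →+* K', φ = (algebraMap K K').comp P.O.subtype := ⟨_, rfl⟩
  obtain ⟨φ, hφ⟩ := hφ
  rw [← hφ] at hg
  have hinj : Function.Injective P.O.subtype := Subtype.val_injective
  have hdiv := Polynomial.modByMonic_add_div g GO
  have hψG : Polynomial.eval₂ φ y GO = 0 := by
    rw [hφ, ← Polynomial.eval₂_map, hmap, ← Polynomial.aeval_def, minpoly.aeval]
  have hψr : Polynomial.eval₂ φ y (g %ₘ GO) = 0 := by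
    have := congrArg (Polynomial.eval₂ φ y) hdiv
    rw [Polynomial.eval₂_add, Polynomial.eval₂_mul, hψG, zero_mul, add_zero, hg] at this
    exact this
  have hr0 : g %ₘ GO = 0 := by
    by_contra hne
    have hneK : (g %ₘ GO).map P.O.subtype ≠ 0 := by
      rwa [Ne, Polynomial.map_eq_zero_iff hinj]
    have hroot : aeval y ((g %ₘ GO).map P.O.subtype) = 0 := by
      rw [Polynomial.aeval_def, Polynomial.eval₂_map, ← hφ]
      exact hψr
    have h1 := minpoly.degree_le_of_ne_zero K y hneK hroot
    rw [← hmap, Polynomial.degree_map_eq_of_injective hinj,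
      Polynomial.degree_map_eq_of_injective hinj] at h1
    have h2 := Polynomial.degree_modByMonic_lt g hGO
    exact absurd (lt_of_le_of_lt h1 h2) (lt_irrefl _)
  rw [hr0, zero_add] at hdiv
  exact ⟨_, hdiv.symm⟩

/-- A proper ideal `J` of `O_P[Y]` containing `GO` and (the constants of) `m_P` yields a place
`Q` of `K'` over `P` with `b(y) ∈ m_Q` for all `b ∈ J`. -/
theorem exists_place_of_ideal [FiniteDimensional K K'] (hK : IsFunctionField k K) (P : Place k K)
    {y : K'} {GO : Polynomial P.O} (hGO : GO.Monic) (hmap : GO.map P.O.subtype = minpoly K y)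
    (J : Ideal (Polynomial P.O)) (hJ : J ≠ ⊤) (hGJ : GO ∈ J)
    (hmJ : ∀ x : P.O, P.1 x.1 < 1 → Polynomial.C x ∈ J) :
    ∃ Q : Place k K', IsOver Q P ∧
      ∀ b ∈ J, Q.1 (Polynomial.eval₂ ((algebraMap K K').comp P.O.subtype) y b) < 1 := by
  classical
  have hy : IsIntegral K y := Algebra.IsIntegral.isIntegral y
  let φ : P.O →+* K' := (algebraMap K K').comp P.O.subtype
  let ψ : Polynomial P.O →+* K' := Polynomial.eval₂RingHom φ y
  have hker : RingHom.ker ψ ≤ J := by
    intro g hg
    obtain ⟨q, rfl⟩ := dvd_of_eval₂_eq_zero P hy hGO hmap g hg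
    exact J.mul_mem_right _ hGJ
  let A : Subring K' := ψ.range
  let ψ' : Polynomial P.O →+* A := ψ.rangeRestrict
  have hsurj : Function.Surjective ψ' := ψ.rangeRestrict_surjective
  let I : Ideal A := Ideal.map ψ' J
  have hI : I ≠ ⊤ := by
    intro h
    have h1 := Ideal.comap_map_of_surjective ψ' hsurj J
    rw [show Ideal.map ψ' J = ⊤ from h, Ideal.comap_top] at h1
    have h2 : Ideal.comap ψ' ⊥ ≤ J := by
      intro g hg
      apply hker
      rw [Ideal.mem_comap, Ideal.mem_bot] at hg
      rw [RingHom.mem_ker]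
      exact congrArg Subtype.val hg
    apply hJ
    rw [eq_top_iff, h1]
    exact sup_le le_rfl h2
  obtain ⟨V, hAV, hIV⟩ := Ideal.image_subset_nonunits_valuationSubring I hI
  have hV1 : ∀ g : Polynomial P.O, ψ g ∈ V := fun g => hAV ⟨g, rfl⟩
  have hV2 : ∀ g : Polynomial P.O, g ∈ J → ψ g ∈ V.nonunits := by
    intro g hg
    apply hIV
    exact ⟨ψ' g, Ideal.mem_map_of_mem _ hg, rfl⟩
  have hψC : ∀ x : P.O, ψ (Polynomial.C x) = algebraMap K K' x.1 := by
    intro x
    show Polynomial.eval₂ φ y (Polynomial.C x) = _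
    rw [Polynomial.eval₂_C]
    rfl
  have hmP : ∀ x : K, P.1 x < 1 → algebraMap K K' x ∈ V.nonunits := by
    intro x hx
    have hxO : x ∈ P.O := le_of_lt hx
    have := hV2 (Polynomial.C ⟨x, hxO⟩) (hmJ ⟨x, hxO⟩ hx)
    rwa [hψC] at this
  have hOP : ∀ x : K, P.1 x ≤ 1 → algebraMap K K' x ∈ V := by
    intro x hx
    have := hV1 (Polynomial.C ⟨x, hx⟩)
    rwa [hψC] at this
  obtain ⟨t, ht⟩ := exists_uniformizer P
  have ht0 : t ≠ 0 := by
    rintro rfl
    rw [map_zero] at ht
    exact exp_ne_zero ht.symm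
  have ht1 : P.1 t < 1 := by
    rw [ht, ← exp_zero, exp_lt_exp]; norm_num
  have htV := hmP t ht1
  have ht'0 : algebraMap K K' t ≠ 0 := (_root_.map_ne_zero _).2 ht0
  have htinv : (algebraMap K K' t)⁻¹ ∉ V := by
    rcases (ValuationSubring.mem_nonunits_iff_or V).1 htV with h | h
    · exact absurd h ht'0
    · exact h
  have hkV : ∀ c : k, algebraMap k K' c ∈ V := by
    intro c
    rw [IsScalarTower.algebraMap_apply k K K']
    exact hOP _ (P.2.1 c)
  obtain ⟨Q, hQ⟩ := exists_place_of_valuationSubring' hK V hkV htinv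
  have hQnon : ∀ w : K', w ∈ V.nonunits → Q.1 w < 1 := by
    intro w hw
    rcases (ValuationSubring.mem_nonunits_iff_or V).1 hw with h | h
    · rw [h, map_zero]; exact zero_lt_one
    · have hw0 : w ≠ 0 := by
        rintro rfl
        rw [inv_zero] at h
        exact h V.zero_mem
      have h1 : ¬ Q.1 w⁻¹ ≤ 1 := fun hle => h ((hQ _).1 hle)
      rw [not_le, map_inv₀] at h1
      by_contra hcon
      rw [not_lt] at hcon
      have : (Q.1 w)⁻¹ ≤ 1 := inv_le_one_of_one_le₀ hcon
      exact absurd h1 (not_lt.2 this)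
  refine ⟨Q, ?_, ?_⟩
  · apply isOver_of_val_le_one_iff
    intro x
    constructor
    · intro hx
      by_contra hcon
      rw [not_le] at hcon
      have hx0 : x ≠ 0 := by
        rintro rfl
        rw [map_zero] at hcon
        exact absurd hcon (by simp)
      have h1 : P.1 x⁻¹ < 1 := by
        rw [map_inv₀]
        exact inv_lt_one_of_one_lt₀ hcon
      have h2 := hQnon _ (hmP _ h1)
      rw [map_inv₀, map_inv₀] at h2
      have hQx : Q.1 (algebraMap K K' x) ≠ 0 :=
        (Q.1.ne_zero_iff).2 ((_root_.map_ne_zero _).2 hx0)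
      have h3 : 1 < Q.1 (algebraMap K K' x) := by
        by_contra hcon2
        rw [not_lt] at hcon2
        have : 1 ≤ (Q.1 (algebraMap K K' x))⁻¹ := (one_le_inv₀ (zero_lt_iff.2 hQx)).2 hcon2
        exact absurd h2 (not_lt.2 this)
      exact absurd hx (not_le.2 h3)
    · intro hx
      exact (hQ _).2 (hOP x hx)
  · intro b hb
    exact hQnon _ (hV2 b hb)


/-- Reduction of `b(y)` at a place `Q` over `P`, computed from the reduction of `b` mod `m_P`. -/
theorem eval₂_map_residue {Q : Place k K'} {P : Place k K} (hQ : IsOver Q P) {y : K'}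
    (hy : y ∈ Q.O) (b : Polynomial P.O) :
    Polynomial.eval₂ (IsLocalRing.ResidueField.map (toO hQ)) (IsLocalRing.residue Q.O ⟨y, hy⟩)
      (b.map (IsLocalRing.residue P.O)) =
    IsLocalRing.residue Q.O (Polynomial.eval₂ (toO hQ) ⟨y, hy⟩ b) := by
  rw [Polynomial.eval₂_map, Polynomial.hom_eval₂]
  congr 1

theorem coe_eval₂_toO {Q : Place k K'} {P : Place k K} (hQ : IsOver Q P) {y : K'}
    (hy : y ∈ Q.O) (b : Polynomial P.O) :
    ((Polynomial.eval₂ (toO hQ) ⟨y, hy⟩ b : Q.O) : K') =
      Polynomial.eval₂ ((algebraMap K K').comp P.O.subtype) y b := by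
  have := Polynomial.hom_eval₂ b (toO hQ) Q.O.subtype ⟨y, hy⟩
  exact this

theorem eval₂_map_residue_eq_zero_iff {Q : Place k K'} {P : Place k K} (hQ : IsOver Q P) {y : K'}
    (hy : y ∈ Q.O) (b : Polynomial P.O) :
    Polynomial.eval₂ (IsLocalRing.ResidueField.map (toO hQ)) (IsLocalRing.residue Q.O ⟨y, hy⟩)
      (b.map (IsLocalRing.residue P.O)) = 0 ↔
    Q.1 (Polynomial.eval₂ ((algebraMap K K').comp P.O.subtype) y b) < 1 := by
  rw [eval₂_map_residue, IsLocalRing.residue_eq_zero_iff, Valuation.mem_maximalIdeal_iff,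
    coe_eval₂_toO]


theorem mem_O_of_isOver {Q : Place k K'} {P : Place k K} (hQ : IsOver Q P) {y : K'}
    {GO : Polynomial P.O} (hGO : GO.Monic) (hmap : GO.map P.O.subtype = minpoly K y) :
    y ∈ Q.O := by
  letI : Algebra P.O K' := ((algebraMap K K').comp P.O.subtype).toAlgebra
  obtain ⟨e, he⟩ := hQ
  have h : ∀ r : P.O, Q.1 (algebraMap P.O K' r) ≤ 1 := by
    intro r
    show Q.1 (algebraMap K K' r.1) ≤ 1
    rw [isOverWith_val_le_one_iff he]
    exact r.2
  have hx : IsIntegral P.O y := by
    refine ⟨GO, hGO, ?_⟩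
    show Polynomial.eval₂ ((algebraMap K K').comp P.O.subtype) y GO = 0
    rw [← Polynomial.eval₂_map, hmap, ← Polynomial.aeval_def, minpoly.aeval]
  exact val_le_one_of_isIntegral (R := P.O) Q.1 h hx

/-- Key lemma: a polynomial over the residue field of `P` vanishing at the reduction of `y` at
every place over `P` is divisible by the reduction of the minimal polynomial of `y`, if
`G'(y)` is a unit at all places over `P`. -/
theorem dvd_of_forall_eval₂_eq_zero [FiniteDimensional K K'] (hK : IsFunctionField k K)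
    (P : Place k K) {y : K'} {GO : Polynomial P.O} (hGO : GO.Monic)
    (hmap : GO.map P.O.subtype = minpoly K y)
    (hunit : ∀ Q : Place k K', IsOver Q P → Q.1 (aeval y (derivative (minpoly K y))) = 1)
    (a : Polynomial (IsLocalRing.ResidueField P.O))
    (ha : ∀ (Q : Place k K') (hQ : IsOver Q P) (hy : y ∈ Q.O),
      Polynomial.eval₂ (IsLocalRing.ResidueField.map (toO hQ))
        (IsLocalRing.residue Q.O ⟨y, hy⟩) a = 0) :
    GO.map (IsLocalRing.residue P.O) ∣ a := by
  classical
  by_contra hnd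
  obtain ⟨Gbar, hGbar⟩ : ∃ Gbar, Gbar = GO.map (IsLocalRing.residue P.O) := ⟨_, rfl⟩
  rw [← hGbar] at hnd
  let J' : Ideal (Polynomial (IsLocalRing.ResidueField P.O)) :=
    { carrier := {c | Gbar ∣ c * a}
      add_mem' := by
        intro c₁ c₂ h₁ h₂
        show Gbar ∣ (c₁ + c₂) * a
        rw [add_mul]
        exact dvd_add h₁ h₂
      zero_mem' := by
        show Gbar ∣ 0 * a
        rw [zero_mul]
        exact dvd_zero _
      smul_mem' := by
        intro r c hc
        show Gbar ∣ (r • c) * a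
        rw [smul_eq_mul, mul_assoc]
        exact Dvd.dvd.mul_left hc r }
  let J : Ideal (Polynomial P.O) :=
    Ideal.comap (Polynomial.mapRingHom (IsLocalRing.residue P.O)) J'
  have hmemJ : ∀ b : Polynomial P.O, b ∈ J ↔ Gbar ∣ b.map (IsLocalRing.residue P.O) * a := by
    intro b
    rfl
  have hJtop : J ≠ ⊤ := by
    intro h
    have h1 : (1 : Polynomial P.O) ∈ J := by rw [h]; trivial
    rw [hmemJ, Polynomial.map_one, one_mul] at h1
    exact hnd h1
  have hGJ : GO ∈ J := by
    rw [hmemJ, ← hGbar]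
    exact Dvd.intro _ rfl
  have hmJ : ∀ x : P.O, P.1 x.1 < 1 → Polynomial.C x ∈ J := by
    intro x hx
    rw [hmemJ, Polynomial.map_C]
    have : IsLocalRing.residue P.O x = 0 := by
      rw [IsLocalRing.residue_eq_zero_iff, Valuation.mem_maximalIdeal_iff]
      exact hx
    rw [this, map_zero, zero_mul]
    exact dvd_zero _
  obtain ⟨Q, hQ, hJQ⟩ := exists_place_of_ideal hK P hGO hmap J hJtop hGJ hmJ
  have hy : y ∈ Q.O := mem_O_of_isOver hQ hGO hmap
  have hev : ∀ b : Polynomial P.O, b ∈ J →
      Polynomial.eval₂ (IsLocalRing.ResidueField.map (toO hQ))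
        (IsLocalRing.residue Q.O ⟨y, hy⟩) (b.map (IsLocalRing.residue P.O)) = 0 := by
    intro b hb
    rw [eval₂_map_residue_eq_zero_iff]
    exact hJQ b hb
  -- gcd
  obtain ⟨c, hc⟩ := EuclideanDomain.gcd_dvd_left Gbar a
  obtain ⟨a₁, ha₁⟩ := EuclideanDomain.gcd_dvd_right Gbar a
  have hcJ' : Gbar ∣ c * a := by
    refine ⟨a₁, ?_⟩
    rw [hc]
    conv_lhs => rw [ha₁]
    ring
  obtain ⟨c₀, hc₀⟩ := Polynomial.map_surjective (IsLocalRing.residue P.O)
    IsLocalRing.residue_surjective c
  have hc₀J : c₀ ∈ J := by rw [hmemJ, hc₀]; exact hcJ'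
  have evc := hev c₀ hc₀J
  rw [hc₀] at evc
  have evG := hev GO hGJ
  rw [← hGbar] at evG
  have eva := ha Q hQ hy
  have evγ : Polynomial.eval₂ (IsLocalRing.ResidueField.map (toO hQ))
      (IsLocalRing.residue Q.O ⟨y, hy⟩) (EuclideanDomain.gcd Gbar a) = 0 := by
    rw [EuclideanDomain.gcd_eq_gcd_ab, Polynomial.eval₂_add, Polynomial.eval₂_mul,
      Polynomial.eval₂_mul, evG, eva, zero_mul, zero_mul, add_zero]
  have evD : Polynomial.eval₂ (IsLocalRing.ResidueField.map (toO hQ))
      (IsLocalRing.residue Q.O ⟨y, hy⟩) (derivative Gbar) = 0 := by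
    conv_lhs => rw [hc]
    rw [Polynomial.derivative_mul, Polynomial.eval₂_add, Polynomial.eval₂_mul,
      Polynomial.eval₂_mul, evc, evγ, mul_zero, zero_mul, add_zero]
  rw [hGbar, Polynomial.derivative_map, eval₂_map_residue_eq_zero_iff] at evD
  have h1 : Polynomial.eval₂ ((algebraMap K K').comp P.O.subtype) y (derivative GO) =
      aeval y (derivative (minpoly K y)) := by
    rw [← hmap, Polynomial.derivative_map, Polynomial.aeval_def, Polynomial.eval₂_map]
  rw [h1, hunit Q hQ] at evD
  exact lt_irrefl _ evD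


theorem map_toO_algebraMap {Q : Place k K'} {P : Place k K} (hQ : IsOver Q P) (c : k) :
    IsLocalRing.ResidueField.map (toO hQ) (algebraMap k (IsLocalRing.ResidueField P.O) c) =
      algebraMap k (IsLocalRing.ResidueField Q.O) c := by
  show IsLocalRing.ResidueField.map (toO hQ) (IsLocalRing.residue P.O (algebraMap k P.O c)) =
    IsLocalRing.residue Q.O (algebraMap k Q.O c)
  rw [IsLocalRing.ResidueField.map_residue]
  congr 1
  apply Subtype.ext
  exact (IsScalarTower.algebraMap_apply k K K' c).symm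

/-- `n · deg P ≤ ∑_{Q | P} deg Q` when `G'(y)` is a unit at all places over `P`. -/
theorem natDegree_mul_deg_le [FiniteDimensional K K'] (hK : IsFunctionField k K)
    (P : Place k K) {y : K'} {GO : Polynomial P.O} (hGO : GO.Monic)
    (hmap : GO.map P.O.subtype = minpoly K y)
    (hunit : ∀ Q : Place k K', IsOver Q P → Q.1 (aeval y (derivative (minpoly K y))) = 1) :
    (minpoly K y).natDegree * P.deg ≤ ∑ Q ∈ (finite_isOver (K' := K') hK P).toFinset, Q.deg := by
  classical
  have hfin := finite_isOver (K' := K') hK P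
  letI : Fintype ↥{Q : Place k K' | IsOver Q P} := hfin.fintype
  have hGbar : (GO.map (IsLocalRing.residue P.O)).Monic := hGO.map _
  have hyO : ∀ Q : ↥{Q : Place k K' | IsOver Q P}, y ∈ Q.1.O :=
    fun Q => mem_O_of_isOver Q.2 hGO hmap
  have hroot : ∀ Q : ↥{Q : Place k K' | IsOver Q P},
      Polynomial.eval₂ (IsLocalRing.ResidueField.map (toO Q.2))
        (IsLocalRing.residue Q.1.O ⟨y, hyO Q⟩) (GO.map (IsLocalRing.residue P.O)) = 0 := by
    intro Q
    rw [eval₂_map_residue_eq_zero_iff, ← Polynomial.eval₂_map, hmap, ← Polynomial.aeval_def,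
      minpoly.aeval, map_zero]
    exact zero_lt_one
  let ψ : ∀ Q : ↥{Q : Place k K' | IsOver Q P},
      AdjoinRoot (GO.map (IsLocalRing.residue P.O)) →+* IsLocalRing.ResidueField Q.1.O :=
    fun Q => AdjoinRoot.lift (IsLocalRing.ResidueField.map (toO Q.2))
      (IsLocalRing.residue Q.1.O ⟨y, hyO Q⟩) (hroot Q)
  let lin : ∀ Q : ↥{Q : Place k K' | IsOver Q P},
      AdjoinRoot (GO.map (IsLocalRing.residue P.O)) →ₗ[k] IsLocalRing.ResidueField Q.1.O :=
    fun Q => AlgHom.toLinearMap
      { toRingHom := ψ Q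
        commutes' := by
          intro c
          rw [AdjoinRoot.algebraMap_eq' k]
          show AdjoinRoot.lift _ _ _ (AdjoinRoot.of _ (algebraMap k _ c)) = _
          rw [AdjoinRoot.lift_of, map_toO_algebraMap] }
  let Ψ : AdjoinRoot (GO.map (IsLocalRing.residue P.O)) →ₗ[k]
      (∀ Q : ↥{Q : Place k K' | IsOver Q P}, IsLocalRing.ResidueField Q.1.O) :=
    LinearMap.pi lin
  have hinj : Function.Injective Ψ := by
    rw [← LinearMap.ker_eq_bot, LinearMap.ker_eq_bot']
    intro x hx
    obtain ⟨a, rfl⟩ := AdjoinRoot.mk_surjective x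
    rw [AdjoinRoot.mk_eq_zero]
    apply dvd_of_forall_eval₂_eq_zero hK P hGO hmap hunit a
    intro Q hQ hy
    have := congrFun hx ⟨Q, hQ⟩
    have h2 : ψ ⟨Q, hQ⟩ (AdjoinRoot.mk _ a) = 0 := this
    rw [AdjoinRoot.lift_mk] at h2
    exact h2
  have hfinQ : ∀ Q : ↥{Q : Place k K' | IsOver Q P},
      Module.Finite k (IsLocalRing.ResidueField Q.1.O) :=
    fun Q => Module.finite_of_finrank_pos (deg_pos' hK Q.1)
  have hfinP : Module.Finite k (IsLocalRing.ResidueField P.O) :=
    finiteDimensional_residueField hK P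
  have hfinA : Module.Finite (IsLocalRing.ResidueField P.O)
      (AdjoinRoot (GO.map (IsLocalRing.residue P.O))) := hGbar.finite_adjoinRoot
  have h1 := LinearMap.finrank_le_finrank_of_injective hinj
  rw [Module.finrank_pi_fintype] at h1
  have h2 : Module.finrank k (AdjoinRoot (GO.map (IsLocalRing.residue P.O))) =
      P.deg * (minpoly K y).natDegree := by
    have htw := @Module.finrank_mul_finrank k (IsLocalRing.ResidueField P.O)
      (AdjoinRoot (GO.map (IsLocalRing.residue P.O))) _ _ _ _ _ _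
      (IsScalarTower.of_algebraMap_eq (fun c => rfl)) _ _ _ _
    rw [← htw, (AdjoinRoot.powerBasis' hGbar).finrank,
      AdjoinRoot.powerBasis'_dim, hGO.natDegree_map, ← hmap,
      Polynomial.natDegree_map_eq_of_injective Subtype.val_injective]
    rfl
  rw [h2] at h1
  rw [mul_comm]
  refine h1.trans (le_of_eq ?_)
  have h3 := Finset.sum_set_coe {Q : Place k K' | IsOver Q P} (f := fun Q => Q.deg)
  exact h3


/-- Under the unit hypothesis and `K' = K(y)`, every place over `P` is unramified. -/
theorem isOverWith_one [FiniteDimensional K K'] (hK : IsFunctionField k K)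
    (P : Place k K) {y : K'} (hprim : Module.finrank K K' = (minpoly K y).natDegree)
    {GO : Polynomial P.O} (hGO : GO.Monic)
    (hmap : GO.map P.O.subtype = minpoly K y)
    (hunit : ∀ Q : Place k K', IsOver Q P → Q.1 (aeval y (derivative (minpoly K y))) = 1)
    {Q : Place k K'} (hQ : IsOver Q P) : IsOverWith Q P 1 := by
  classical
  have hfin := finite_isOver (K' := K') hK P
  have h1 := natDegree_mul_deg_le hK P hGO hmap hunit
  have h2 := sum_ramIdx_mul_deg hK P hfin.toFinset
    (fun Q => by rw [Set.Finite.mem_toFinset]; rfl)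
  rw [hprim] at h2
  have hle : ∀ Q ∈ hfin.toFinset, Q.deg ≤ ramIdx Q P * Q.deg := by
    intro Q hQ
    rw [Set.Finite.mem_toFinset] at hQ
    exact Nat.le_mul_of_pos_left _ (ramIdx_pos hQ)
  have h3 : ∑ Q ∈ hfin.toFinset, Q.deg = ∑ Q ∈ hfin.toFinset, ramIdx Q P * Q.deg := by
    refine le_antisymm (Finset.sum_le_sum hle) ?_
    rw [h2]
    exact h1
  have h4 := (Finset.sum_eq_sum_iff_of_le hle).1 h3 Q
    (by rw [Set.Finite.mem_toFinset]; exact hQ)
  have h5 : ramIdx Q P = 1 := by
    have hpos := deg_pos' hK Q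
    have : 1 * Q.deg = ramIdx Q P * Q.deg := by rw [one_mul]; exact h4
    exact (Nat.eq_of_mul_eq_mul_right hpos this).symm
  have := isOverWith_ramIdx hQ
  rwa [h5] at this

/-- **Finiteness of ramification** in a finite separable extension of function fields. -/
theorem finite_ramified [FiniteDimensional K K'] (hK : IsFunctionField k K)
    [Algebra.IsSeparable K K'] :
    {Q : Place k K' | ¬ Function.Surjective (Q.1.comap (algebraMap K K'))}.Finite := by
  classical
  obtain ⟨y, hy⟩ := Field.exists_primitive_element K K'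
  have hint : IsIntegral K y := Algebra.IsIntegral.isIntegral y
  have hsep : (minpoly K y).Separable := Algebra.IsSeparable.isSeparable K y
  have hprim : Module.finrank K K' = (minpoly K y).natDegree := by
    rw [← IntermediateField.adjoin.finrank hint, hy, IntermediateField.finrank_top']
  obtain ⟨d, hd⟩ : ∃ d, d = aeval y (derivative (minpoly K y)) := ⟨_, rfl⟩
  have hd0 : d ≠ 0 := by
    rw [hd]
    exact hsep.aeval_derivative_ne_zero (minpoly.aeval K y)
  choose below hbelow using fun Q : Place k K' => exists_isOver_below (K := K) Q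
  let B1 : Set (Place k K) :=
    {P | ∃ i : Fin ((minpoly K y).natDegree + 1), 1 < P.1 ((minpoly K y).coeff i)}
  have hB1 : B1.Finite :=
    Groth.Agent.Lib.Helper34.FunFldCond.finite_poles hK
      (fun i : Fin ((minpoly K y).natDegree + 1) => (minpoly K y).coeff i)
  let B2 : Set (Place k K') := Function.support fun Q : Place k K' => Q.ord d
  have hB2 : B2.Finite := finite_support_ord' hK d
  have hBad : (B1 ∪ below '' B2).Finite := hB1.union (hB2.image below)
  refine (Set.Finite.biUnion hBad (fun P _ => finite_isOver (K' := K') hK P)).subset ?_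
  intro Q hQ
  by_contra hcon
  apply hQ
  have hP : below Q ∉ B1 ∪ below '' B2 := by
    intro h
    apply hcon
    rw [Set.mem_iUnion₂]
    exact ⟨below Q, h, hbelow Q⟩
  rw [Set.mem_union, not_or] at hP
  obtain ⟨hP1, hP2⟩ := hP
  -- lift the minimal polynomial
  have hlift : minpoly K y ∈ Polynomial.lifts (below Q).O.subtype := by
    rw [Polynomial.lifts_iff_coeff_lifts]
    intro n
    by_cases hn : n ≤ (minpoly K y).natDegree
    · have h1 : ¬ 1 < (below Q).1 ((minpoly K y).coeff n) := by
        intro h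
        exact hP1 ⟨⟨n, Nat.lt_succ_of_le hn⟩, h⟩
      exact ⟨⟨_, not_lt.1 h1⟩, rfl⟩
    · rw [Polynomial.coeff_eq_zero_of_natDegree_lt (not_le.1 hn)]
      exact ⟨0, rfl⟩
  obtain ⟨GO, hmap, -, hGO⟩ :=
    Polynomial.lifts_and_natDegree_eq_and_monic hlift (minpoly.monic hint)
  have hunit : ∀ Q' : Place k K', IsOver Q' (below Q) →
      Q'.1 (aeval y (derivative (minpoly K y))) = 1 := by
    intro Q' hQ'
    rw [← hd]
    have hQ'2 : Q' ∉ B2 := by
      intro h
      apply hP2
      exact ⟨Q', h, isOver_unique_below (hbelow Q') hQ'⟩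
    have h0 : Q'.ord d = 0 := by
      by_contra h
      exact hQ'2 h
    have hne : Q'.1 d ≠ 0 := (Valuation.ne_zero_iff _).2 hd0
    have hlog : WithZero.log (Q'.1 d) = 0 := by
      have : Q'.ord d = -WithZero.log (Q'.1 d) := rfl
      omega
    rw [← WithZero.exp_log hne, hlog, WithZero.exp_zero]
  have h1 := isOverWith_one hK (below Q) hprim hGO hmap hunit (hbelow Q)
  have heq : (Q.1.comap (algebraMap K K') : K → ℤᵐ⁰) = (below Q).1 := by
    funext x
    rw [Valuation.comap_apply, h1 x, pow_one]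
  rw [heq]
  exact (below Q).2.2

end Groth.Agent.Lib.Helper34.FunFldRam
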