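/-
Function fields of one variable over an algebraically closed constant field:
linear systems `W ⊆ L(D)`: one-step codimension count, and the criterion
"separates points and tangent vectors at `P` ⇒ nonsingular at `P`" for an arbitrary linear system.
Author: helper34
-/
import Groth.Agent.Lib.Helper34.FunFldEmb

set_option autoImplicit false

namespace Groth.Agent.Lib.Helper34.FunFldSep

open FunFld WithZero Groth.Agent.Lib.Helper88.FF Groth.Agent.Lib.Helper34.FunFldCond
  Groth.Agent.Lib.Helper34.FunFldLocRing Groth.Agent.Lib.Helper34.FunFldNak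
  Groth.Agent.Lib.Helper34.FunFldEmb

variable {k K : Type*} [Field k] [Field K] [Algebra k K]

lemma L_sub_single_le (E : Divisor k K) (Q : Place k K) : L (E - Finsupp.single Q 1) ≤ L E :=
  L_mono (sub_le_self _ (Finsupp.single_nonneg.2 zero_le_one))

/-- An element of `L(E)` outside `L(E - Q)` has exact value `exp (E Q)` at `Q`. -/
lemma exact_of_mem_not_mem (E : Divisor k K) (Q : Place k K) {s : K} (hs : s ∈ L E)
    (hns : s ∉ L (E - Finsupp.single Q 1)) : Q.1 s = exp (E Q) := by
  classical
  have hf'' : ¬ ∀ Q' : Place k K, Q'.1 s ≤ exp ((E - Finsupp.single Q 1 : Divisor k K) Q') := hns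
  rw [not_forall] at hf''
  obtain ⟨Q', hQ'⟩ := hf''
  have hQQ : Q' = Q := by
    by_contra hne
    apply hQ'
    rw [Finsupp.sub_apply, Finsupp.single_apply, if_neg (Ne.symm hne), sub_zero]
    exact hs Q'
  subst hQQ
  rw [Finsupp.sub_apply, Finsupp.single_eq_same] at hQ'
  exact eq_exp_of_le_of_not_le (hs Q') hQ'

/-- Membership in `L(E - Q)` for an element of `L(E)`: a strict inequality at `Q`. -/
lemma mem_L_sub_single_of_lt (E : Divisor k K) (Q : Place k K) {s : K} (hs : s ∈ L E)
    (hlt : Q.1 s < exp (E Q)) : s ∈ L (E - Finsupp.single Q 1) := by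
  classical
  intro Q'
  by_cases h : Q' = Q
  · subst h
    rw [Finsupp.sub_apply, Finsupp.single_eq_same]
    apply lt_exp_succ_iff.1
    simpa using hlt
  · rw [Finsupp.sub_apply, Finsupp.single_apply, if_neg (Ne.symm h), sub_zero]
    exact hs Q'

/-- One step of the codimension count for a linear system `W`. -/
theorem one_step [IsAlgClosed k] (hK : IsFunctionField k K) (W : Submodule k K)
    [FiniteDimensional k W] (E : Divisor k K) (Q : Place k K) :
    ((∃ s ∈ W ⊓ L E, s ∉ L (E - Finsupp.single Q 1)) →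
      Module.finrank k ↥(W ⊓ L E) = Module.finrank k ↥(W ⊓ L (E - Finsupp.single Q 1)) + 1) ∧
    ((¬ ∃ s ∈ W ⊓ L E, s ∉ L (E - Finsupp.single Q 1)) →
      Module.finrank k ↥(W ⊓ L E) = Module.finrank k ↥(W ⊓ L (E - Finsupp.single Q 1))) := by
  have hle : W ⊓ L (E - Finsupp.single Q 1) ≤ W ⊓ L E :=
    inf_le_inf_left W (L_sub_single_le E Q)
  have hfdU : FiniteDimensional k ↥(W ⊓ L E) :=
    Submodule.finiteDimensional_of_le (inf_le_left : W ⊓ L E ≤ W)
  constructor
  · rintro ⟨s, hs, hns⟩
    have hsQ := exact_of_mem_not_mem E Q hs.2 hns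
    have hs0 : s ≠ 0 := by
      rintro rfl
      rw [map_zero] at hsQ
      exact exp_ne_zero hsQ.symm
    have hsup : W ⊓ L E ≤ (W ⊓ L (E - Finsupp.single Q 1)) ⊔ Submodule.span k {s} := by
      intro z hz
      have hzQ : Q.1 z ≤ Q.1 s := by rw [hsQ]; exact hz.2 Q
      obtain ⟨c, hc⟩ := exists_sub_smul_lt hK Q hs0 hzQ
      rw [hsQ] at hc
      have h1 : z - c • s ∈ W ⊓ L E := Submodule.sub_mem _ hz (Submodule.smul_mem _ _ hs)
      have h2 : z - c • s ∈ W ⊓ L (E - Finsupp.single Q 1) :=
        ⟨h1.1, mem_L_sub_single_of_lt E Q h1.2 hc⟩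
      have e : z = (z - c • s) + c • s := by ring
      rw [e]
      exact Submodule.add_mem_sup h2 (Submodule.smul_mem _ _ (Submodule.subset_span rfl))
    have hlt : W ⊓ L (E - Finsupp.single Q 1) < W ⊓ L E := by
      refine lt_of_le_of_ne hle ?_
      intro heq
      apply hns
      have : s ∈ W ⊓ L (E - Finsupp.single Q 1) := by rw [heq]; exact hs
      exact this.2
    have h3 := Submodule.finrank_lt_finrank_of_lt hlt
    have hfd2 : FiniteDimensional k
        ↥((W ⊓ L (E - Finsupp.single Q 1)) ⊔ Submodule.span k {s}) := by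
      have : FiniteDimensional k ↥(W ⊓ L (E - Finsupp.single Q 1)) :=
        Submodule.finiteDimensional_of_le (inf_le_left : W ⊓ L (E - Finsupp.single Q 1) ≤ W)
      infer_instance
    have h4 := Submodule.finrank_mono hsup
    have h5 := Submodule.finrank_add_le_finrank_add_finrank
      (W ⊓ L (E - Finsupp.single Q 1)) (Submodule.span k {s})
    have h6 : Module.finrank k ↥(Submodule.span k {s}) ≤ 1 := by
      have := finrank_span_le_card (R := k) ({s} : Set K)
      simpa using this
    omega
  · intro hno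
    have hge : W ⊓ L E ≤ W ⊓ L (E - Finsupp.single Q 1) := by
      intro z hz
      refine ⟨hz.1, ?_⟩
      by_contra hcon
      exact hno ⟨z, hz, hcon⟩
    rw [le_antisymm hge hle]

/-- **Criterion for an arbitrary linear system**: let `W = span φ ⊆ L(D)` be without base points
(at every place some element of `W` has exact value `exp (D Q)`), and suppose that for every `Q`
some element of `W ∩ L(D - P)` does not lie in `L(D - P - Q)`. Then `φ` is nonsingular at `P`. -/
theorem isNonsingularAt_of_sections [IsAlgClosed k] (hK : IsFunctionField k K) {ι : Type*}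
    [Finite ι] [Nonempty ι] (φ : ι → K) (hφ0 : ∀ i, φ i ≠ 0) (D : Divisor k K)
    (hWL : Submodule.span k (Set.range φ) ≤ L D) (P : Place k K)
    (h1 : ∀ Q : Place k K, ∃ f ∈ Submodule.span k (Set.range φ), Q.1 f = exp (D Q))
    (h2 : ∀ Q : Place k K, ∃ s ∈ Submodule.span k (Set.range φ) ⊓ L (D - Finsupp.single P 1),
      s ∉ L (D - Finsupp.single P 1 - Finsupp.single Q 1)) :
    IsNonsingularAt φ P := by
  classical
  have hmemL : ∀ i, φ i ∈ L D := fun i => hWL (Submodule.subset_span ⟨i, rfl⟩)
  have hexact : ∀ (Q : Place k K) (j : ι), (∀ i, Q.1 (φ i) ≤ Q.1 (φ j)) →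
      Q.1 (φ j) = exp (D Q) := by
    intro Q j hj
    refine le_antisymm (hmemL j Q) ?_
    obtain ⟨f, hf, hfQ⟩ := h1 Q
    rw [← hfQ]
    exact val_le_of_mem_span φ Q j hj hf
  have hexp : (exp (-1 : ℤ) : ℤᵐ⁰) < 1 := lt_one_iff_le_exp_neg_one.2 le_rfl
  have hfibP : ∀ Q : Place k K, SameImage φ P Q → Q = P := by
    intro Q hQ
    by_contra hne
    obtain ⟨j', hj'0, hPj', hQj', -⟩ := id hQ
    obtain ⟨s, hs, hsn⟩ := h2 Q
    have hsQ := exact_of_mem_not_mem _ Q hs.2 hsn
    have hsA := div_mem_adjoin φ j' hs.1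
    have hin : InLocRing φ P (s / φ j') :=
      ⟨j', hj'0, hPj', _, hsA, 1, Subalgebra.one_mem _, map_one _, mul_one _⟩
    have hfw := (Groth.Agent.S11078.forward φ P Q hQ _ hin).2
    have hPs : P.1 (s / φ j') < 1 := by
      rw [map_div₀, hexact P j' hPj']
      have h3 := hs.2 P
      rw [Finsupp.sub_apply, Finsupp.single_eq_same] at h3
      have h4 : P.1 s / exp (D P) ≤ exp (D P - 1) / exp (D P) :=
        div_le_div_of_nonneg_right h3 (by simp)
      refine lt_of_le_of_lt h4 ?_
      rw [← exp_sub]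
      simpa using hexp
    have hQs : Q.1 (s / φ j') = 1 := by
      rw [map_div₀, hexact Q j' hQj', hsQ, Finsupp.sub_apply, Finsupp.single_apply,
        if_neg (Ne.symm hne), sub_zero]
      exact div_self exp_ne_zero
    have := hfw.2 hPs
    rw [hQs] at this
    exact lt_irrefl _ this
  obtain ⟨j, hjmax⟩ := Finite.exists_max (fun i => P.1 (φ i))
  obtain ⟨s, hs, hsn⟩ := h2 P
  have hsP := exact_of_mem_not_mem _ P hs.2 hsn
  have hsA := div_mem_adjoin φ j hs.1
  have hin : InLocRing φ P (s / φ j) :=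
    ⟨j, hφ0 j, hjmax, _, hsA, 1, Subalgebra.one_mem _, map_one _, mul_one _⟩
  have hval : P.1 (s / φ j) = exp (-1) := by
    rw [map_div₀, hexact P j hjmax, hsP, Finsupp.sub_apply, Finsupp.single_eq_same, ← exp_sub]
    congr 1
    ring
  exact isNonsingularAt_of_fibre_of_uniformizer φ hK hφ0 P hfibP _ hin hval

end Groth.Agent.Lib.Helper34.FunFldSep
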