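import Groth.Agent.Lib.Helper34.FunFldZetaSplit2
import Mathlib.FieldTheory.PrimitiveElement

/-!
# Constant field extensions of function fields, part 4 (helper34)

* `finrank_algebraicClosure`: in `K' = K(α)`, `f(α) = 0`, `f ∈ k[X]` monic irreducible of degree
  `[K' : K]`, `k` finite, the algebraic closure of `k` in `K'` has degree `deg f` over `k`.
-/

set_option autoImplicit false

namespace Groth.Agent.Lib.Helper34.FunFldZetaSplit

open FunFld Polynomial WithZero Groth.Agent.Lib.Helper88.FF Groth.Agent.Lib.Helper44.FFExt
  Groth.Agent.Lib.Helper34.FunFldZetaIrr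

variable {k K K' : Type*} [Field k] [Field K] [Field K'] [Algebra k K] [Algebra K K']
  [Algebra k K'] [IsScalarTower k K K']

theorem finrank_algebraicClosure [Finite k] [FiniteDimensional K K'] (hK : IsFunctionField k K)
    {f : k[X]} (hf : f.Monic) (hirr : Irreducible f) {α : K'} (hα : aeval α f = 0)
    (hrank : Module.finrank K K' = f.natDegree) :
    Module.finrank k (algebraicClosure k K') = f.natDegree := by
  have hfd := finiteDimensional_algebraicClosure (K' := K') hK
  apply le_antisymm
  · obtain ⟨γ, hγ⟩ := Field.exists_primitive_element k (algebraicClosure k K')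
    rw [Field.primitive_element_iff_minpoly_natDegree_eq] at hγ
    have hint : IsIntegral k γ := Algebra.IsIntegral.isIntegral γ
    have hroot : aeval (γ : K') (minpoly k γ) = 0 := by
      rw [IntermediateField.aeval_coe, minpoly.aeval, ZeroMemClass.coe_zero]
    have h1 := minpoly_eq hK (minpoly.monic hint) (minpoly.irreducible hint) hroot
    have h2 := minpoly.natDegree_le (A := K) (γ : K')
    rw [h1, Polynomial.natDegree_map, hγ, hrank] at h2
    exact h2
  · have hαmem : α ∈ algebraicClosure k K' :=
      mem_algebraicClosure_iff.2 ⟨f, hf.ne_zero, hα⟩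
    have hroot : aeval (⟨α, hαmem⟩ : algebraicClosure k K') f = 0 := by
      apply Subtype.ext
      rw [← IntermediateField.aeval_coe, ZeroMemClass.coe_zero]
      exact hα
    have h1 := minpoly.eq_of_irreducible_of_monic hirr hroot hf
    have h2 := minpoly.natDegree_le (A := k) (⟨α, hαmem⟩ : algebraicClosure k K')
    rw [← h1] at h2
    exact h2

end Groth.Agent.Lib.Helper34.FunFldZetaSplit
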