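import Groth.Agent.Lib.Helper91.FunFldFin
import Mathlib.Tactic.Ring
import Mathlib.Tactic.Linarith

/-!
# Lifting divisors along two disjoint sections of places (helper34)

Given two injective maps `S₁ S₂ : Place k K → Place k₂ K₂` with disjoint ranges and
`deg P = d · deg (Sᵢ P)`, pairs of effective divisors of `K` inject into effective divisors of
`K₂`; this gives the convolution inequality `sum_card_mul_le`.
-/

set_option autoImplicit false

namespace Groth.Agent.Lib.Helper34.FunFldZetaCount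

open FunFld Groth.Agent.Lib.Helper88.FF Groth.Agent.Lib.Helper91.FunFldFin

variable {k K k₂ K₂ : Type*} [Field k] [Field K] [Algebra k K] [Field k₂] [Field K₂]
  [Algebra k₂ K₂]

/-- Push a divisor forward along a map of places. -/
noncomputable def lift (S : Place k K → Place k₂ K₂) (D : Divisor k K) : Divisor k₂ K₂ :=
  Finsupp.mapDomain S D

theorem lift_nonneg (S : Place k K → Place k₂ K₂) {D : Divisor k K} (hD : 0 ≤ D) :
    0 ≤ lift S D := by
  unfold lift Finsupp.mapDomain Finsupp.sum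
  apply Finset.sum_nonneg
  intro P _
  intro Q
  classical
  rw [Finsupp.single_apply]
  split_ifs
  · exact hD P
  · exact le_rfl

theorem lift_apply {S : Place k K → Place k₂ K₂} (hS : Function.Injective S) (D : Divisor k K)
    (P : Place k K) : lift S D (S P) = D P :=
  Finsupp.mapDomain_apply hS D P

theorem lift_apply_of_notMem {S : Place k K → Place k₂ K₂} (D : Divisor k K)
    {Q : Place k₂ K₂} (hQ : Q ∉ Set.range S) : lift S D Q = 0 :=
  Finsupp.mapDomain_notin_range D Q hQ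

theorem deg_lift {S : Place k K → Place k₂ K₂} {d : ℕ} (hd : ∀ P, P.deg = d * (S P).deg)
    (D : Divisor k K) : (d : ℤ) * (lift S D).deg = D.deg := by
  unfold lift Divisor.deg
  rw [Finsupp.sum_mapDomain_index (fun _ => zero_mul _) (fun _ _ _ => add_mul _ _ _),
    Finsupp.mul_sum]
  apply Finsupp.sum_congr
  intro P _
  rw [hd P]
  push_cast
  ring


section pair

variable {S₁ S₂ : Place k K → Place k₂ K₂}

theorem pair_apply₁ (h₁ : Function.Injective S₁) (hdisj : ∀ P P', S₁ P ≠ S₂ P')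
    (D₁ D₂ : Divisor k K) (P : Place k K) : (lift S₁ D₁ + lift S₂ D₂) (S₁ P) = D₁ P := by
  rw [Finsupp.add_apply, lift_apply h₁, lift_apply_of_notMem, add_zero]
  rintro ⟨P', hP'⟩
  exact hdisj P P' hP'.symm

theorem pair_apply₂ (h₂ : Function.Injective S₂) (hdisj : ∀ P P', S₁ P ≠ S₂ P')
    (D₁ D₂ : Divisor k K) (P : Place k K) : (lift S₁ D₁ + lift S₂ D₂) (S₂ P) = D₂ P := by
  rw [Finsupp.add_apply, lift_apply h₂, lift_apply_of_notMem, zero_add]
  rintro ⟨P', hP'⟩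
  exact hdisj P' P hP'

theorem deg_pair {d : ℕ} (hd0 : 0 < d) (hd₁ : ∀ P, P.deg = d * (S₁ P).deg)
    (hd₂ : ∀ P, P.deg = d * (S₂ P).deg) {a b c : ℕ} (habc : a + b = c) {D₁ D₂ : Divisor k K}
    (h1 : D₁.deg = ((a * d : ℕ) : ℤ)) (h2 : D₂.deg = ((b * d : ℕ) : ℤ)) :
    (lift S₁ D₁ + lift S₂ D₂).deg = (c : ℤ) := by
  have hd0' : (d : ℤ) ≠ 0 := by exact_mod_cast hd0.ne'
  apply mul_left_cancel₀ hd0'
  rw [deg_add, mul_add, deg_lift hd₁, deg_lift hd₂, h1, h2, ← habc]
  push_cast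
  ring

/-- The convolution inequality. -/
theorem sum_card_mul_le (h₁ : Function.Injective S₁) (h₂ : Function.Injective S₂)
    (hdisj : ∀ P P', S₁ P ≠ S₂ P') {d : ℕ} (hd0 : 0 < d)
    (hd₁ : ∀ P, P.deg = d * (S₁ P).deg) (hd₂ : ∀ P, P.deg = d * (S₂ P).deg)
    (n₀ M : ℕ) [Finite (Eff k₂ K₂ (2 * n₀ + M - 1))] [∀ N, Finite (Eff k K N)] :
    ∑ j : Fin M, Nat.card (Eff k K ((n₀ + j) * d)) *
        Nat.card (Eff k K ((n₀ + (M - 1 - j)) * d)) ≤
      Nat.card (Eff k₂ K₂ (2 * n₀ + M - 1)) := by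
  classical
  have habc : ∀ j : Fin M, (n₀ + (j : ℕ)) + (n₀ + (M - 1 - j)) = 2 * n₀ + M - 1 := by
    intro j
    have := j.2
    omega
  let Φ : (Σ j : Fin M, Eff k K ((n₀ + j) * d) × Eff k K ((n₀ + (M - 1 - j)) * d)) →
      Eff k₂ K₂ (2 * n₀ + M - 1) := fun x =>
    ⟨lift S₁ x.2.1.1 + lift S₂ x.2.2.1,
      add_nonneg (lift_nonneg S₁ x.2.1.2.1) (lift_nonneg S₂ x.2.2.2.1),
      deg_pair hd0 hd₁ hd₂ (habc x.1) x.2.1.2.2 x.2.2.2.2⟩
  have hΦ : Function.Injective Φ := by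
    rintro ⟨j, E₁, E₂⟩ ⟨j', E₁', E₂'⟩ h
    have hval : lift S₁ E₁.1 + lift S₂ E₂.1 = lift S₁ E₁'.1 + lift S₂ E₂'.1 :=
      congrArg Subtype.val h
    have hE₁ : E₁.1 = E₁'.1 := by
      ext P
      rw [← pair_apply₁ h₁ hdisj E₁.1 E₂.1 P, hval, pair_apply₁ h₁ hdisj]
    have hE₂ : E₂.1 = E₂'.1 := by
      ext P
      rw [← pair_apply₂ h₂ hdisj E₁.1 E₂.1 P, hval, pair_apply₂ h₂ hdisj]
    have hj : j = j' := by
      have h1 := E₁.2.2
      have h2 := E₁'.2.2
      rw [hE₁, h2] at h1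
      have h3 : (n₀ + (j' : ℕ)) * d = (n₀ + (j : ℕ)) * d := by exact_mod_cast h1
      have h4 := Nat.eq_of_mul_eq_mul_right hd0 h3
      apply Fin.ext
      omega
    subst hj
    have e1 : E₁ = E₁' := Subtype.ext hE₁
    have e2 : E₂ = E₂' := Subtype.ext hE₂
    rw [e1, e2]
  have := Nat.card_le_card_of_injective Φ hΦ
  rw [Nat.card_sigma] at this
  simp_rw [Nat.card_prod] at this
  exact this

end pair

end Groth.Agent.Lib.Helper34.FunFldZetaCount
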