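import Groth.Agent.Lib.Helper44.FunFldExt4
import Groth.Agent.Lib.Helper91.FunFldFin
import Mathlib.RingTheory.Polynomial.GaussLemma
import Mathlib.FieldTheory.Minpoly.Field

/-!
# Constant field extensions of function fields, part 1 (helper34)

* `irreducible_map`: a monic irreducible polynomial over `k` stays irreducible over a field `K`
  in which `k` is algebraically closed.
-/

set_option autoImplicit false

namespace Groth.Agent.Lib.Helper34.FunFldZetaIrr

open FunFld Polynomial

variable {k K : Type*} [Field k] [Field K] [Algebra k K]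

/-- A monic divisor (over `K`) of a polynomial over `k` has coefficients in `k`, when `k` is
algebraically closed in `K`. -/
theorem exists_map_eq_of_monic_dvd (hK : ∀ y : K, IsAlgebraic k y → y ∈ Set.range (algebraMap k K))
    {f : k[X]} (hf : f.Monic) {g : K[X]} (hg : g.Monic) (hd : g ∣ f.map (algebraMap k K)) :
    ∃ g₀ : k[X], g₀.map (algebraMap k K) = g := by
  have h := integralClosure.mem_lifts_of_monic_of_dvd_map K hf hg hd
  rw [lifts_iff_coeff_lifts] at h
  have hc : ∀ n, ∃ c : k, algebraMap k K c = g.coeff n := by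
    intro n
    obtain ⟨⟨y, hy⟩, hy'⟩ := h n
    have : y = g.coeff n := hy'
    obtain ⟨c, hc⟩ := hK y hy.isAlgebraic
    exact ⟨c, hc.trans this⟩
  choose c hc using hc
  refine ⟨∑ n ∈ Finset.range (g.natDegree + 1), Polynomial.monomial n (c n), ?_⟩
  rw [Polynomial.map_sum]
  simp_rw [Polynomial.map_monomial, hc]
  exact (g.as_sum_range' _ (Nat.lt_succ_self _)).symm

theorem irreducible_map (hK : ∀ y : K, IsAlgebraic k y → y ∈ Set.range (algebraMap k K))
    {f : k[X]} (hf : f.Monic) (hirr : Irreducible f) : Irreducible (f.map (algebraMap k K)) := by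
  have hinj : Function.Injective (algebraMap k K) := (algebraMap k K).injective
  rw [Polynomial.Monic.irreducible_iff_natDegree' (hf.map _)]
  refine ⟨?_, ?_⟩
  · intro h1
    have : f = 1 := by
      apply Polynomial.map_injective _ hinj
      rw [h1, Polynomial.map_one]
    exact hirr.ne_one this
  · intro a b ha hb hab
    have hda : a ∣ f.map (algebraMap k K) := ⟨b, hab.symm⟩
    have hdb : b ∣ f.map (algebraMap k K) := ⟨a, by rw [← hab, mul_comm]⟩
    obtain ⟨a₀, rfl⟩ := exists_map_eq_of_monic_dvd hK hf ha hda
    obtain ⟨b₀, rfl⟩ := exists_map_eq_of_monic_dvd hK hf hb hdb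
    rw [← Polynomial.map_mul] at hab
    have hab' : a₀ * b₀ = f := Polynomial.map_injective _ hinj hab
    have hmon := (Polynomial.Monic.irreducible_iff_natDegree' hf).1 hirr
    have ha₀ : a₀.Monic := Polynomial.monic_of_injective hinj ha
    have hb₀ : b₀.Monic := Polynomial.monic_of_injective hinj hb
    have := hmon.2 a₀ b₀ ha₀ hb₀ hab'
    simpa only [Polynomial.natDegree_map] using this

end Groth.Agent.Lib.Helper34.FunFldZetaIrr
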