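import Groth.Agent.Lib.Helper34.FunFldZetaCount

/-!
# Bounds for the number of effective divisors (helper34)
-/

set_option autoImplicit false

namespace Groth.Agent.Lib.Helper34.FunFldZetaCount

open FunFld Groth.Agent.Lib.Helper88.FF Groth.Agent.Lib.Helper91.FunFldFin

variable {k K : Type*} [Field k] [Field K] [Algebra k K]

theorem pow_le_card_Eff [Finite k] (hK : IsFunctionField k K) (D₁ : Divisor k K) {N : ℕ}
    (h₁ : D₁.deg = N) (hN : 2 * genus k K ≤ N + 1) (hg : genus k K ≤ N) :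
    Nat.card k ^ (N - genus k K) ≤ Nat.card (Eff k K N) := by
  have hcard := card_Eff hK D₁ h₁ hN
  have hq : 1 < Nat.card k := Finite.one_lt_card
  have hfin := finite_Pic0 hK
  have hh : 1 ≤ Nat.card (Pic0 k K) := Nat.card_pos
  have he : N + 1 - genus k K = (N - genus k K) + 1 := by omega
  rw [he] at hcard
  generalize N - genus k K = e at hcard ⊢
  generalize Nat.card k = q at *
  generalize Nat.card (Pic0 k K) = h at *
  generalize Nat.card (Eff k K N) = a at *
  have hpe : 1 ≤ q ^ e := Nat.one_le_pow _ _ (by omega)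
  have h1 : (q - 1) * q ^ e + 1 ≤ q ^ (e + 1) := by
    calc (q - 1) * q ^ e + 1 ≤ (q - 1) * q ^ e + q ^ e := by omega
      _ = ((q - 1) + 1) * q ^ e := by ring
      _ = q * q ^ e := by rw [Nat.sub_add_cancel (by omega)]
      _ = q ^ (e + 1) := by ring
  have h2 : (q - 1) * q ^ e ≤ q ^ (e + 1) - 1 := by omega
  have h3 : q ^ (e + 1) - 1 ≤ h * (q ^ (e + 1) - 1) := Nat.le_mul_of_pos_left _ hh
  have h4 : (q - 1) * q ^ e ≤ (q - 1) * a := by rw [hcard]; exact h2.trans h3
  exact Nat.le_of_mul_le_mul_left h4 (by omega)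

theorem card_Eff_le [Finite k] (hK : IsFunctionField k K) (D₁ : Divisor k K) {N : ℕ}
    (h₁ : D₁.deg = N) (hN : 2 * genus k K ≤ N + 1) :
    Nat.card (Eff k K N) ≤ Nat.card (Pic0 k K) * Nat.card k ^ (N + 1) := by
  have hcard := card_Eff hK D₁ h₁ hN
  have hq : 1 < Nat.card k := Finite.one_lt_card
  generalize Nat.card k = q at *
  generalize Nat.card (Pic0 k K) = h at *
  generalize Nat.card (Eff k K N) = a at *
  have h1 : a ≤ (q - 1) * a := Nat.le_mul_of_pos_left _ (by omega)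
  have h2 : q ^ (N + 1 - genus k K) - 1 ≤ q ^ (N + 1) :=
    (Nat.sub_le _ _).trans (Nat.pow_le_pow_right (by omega) (Nat.sub_le _ _))
  calc a ≤ (q - 1) * a := h1
    _ = h * (q ^ (N + 1 - genus k K) - 1) := hcard
    _ ≤ h * q ^ (N + 1) := Nat.mul_le_mul_left _ h2


variable {k₂ K₂ : Type*} [Field k₂] [Field K₂] [Algebra k₂ K₂]

/-- Two disjoint degree-compatible sections of places into a function field over the constant
field with `q ^ d` elements cannot exist (pole order comparison of the zeta functions, in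
elementary form). -/
theorem false_of_sections [Finite k] [Finite k₂] (hK : IsFunctionField k K)
    (hK₂ : IsFunctionField k₂ K₂) {d : ℕ} (hd0 : 0 < d) (Dd : Divisor k K) (hDd : Dd.deg = d)
    (hq₂ : Nat.card k₂ = Nat.card k ^ d) {S₁ S₂ : Place k K → Place k₂ K₂}
    (h₁ : Function.Injective S₁) (h₂ : Function.Injective S₂)
    (hdisj : ∀ P P', S₁ P ≠ S₂ P') (hd₁ : ∀ P, P.deg = d * (S₁ P).deg)
    (hd₂ : ∀ P, P.deg = d * (S₂ P).deg) : False := by
  classical
  have hq : 1 < Nat.card k := Finite.one_lt_card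
  have hqpos : 0 < Nat.card k := by omega
  obtain ⟨n₀, hn₀⟩ : ∃ n₀, n₀ = 2 * genus k K + genus k₂ K₂ + 1 := ⟨_, rfl⟩
  obtain ⟨M, hM⟩ : ∃ M, M = Nat.card (Pic0 k₂ K₂) * Nat.card k ^ (2 * genus k K + d) + 1 :=
    ⟨_, rfl⟩
  obtain ⟨n, hn⟩ : ∃ n, n = 2 * n₀ + M - 1 := ⟨_, rfl⟩
  have inst1 : ∀ N, Finite (Eff k K N) := finite_Eff hK
  have inst2 : Finite (Eff k₂ K₂ (2 * n₀ + M - 1)) := finite_Eff hK₂ _
  have key := sum_card_mul_le h₁ h₂ hdisj hd0 hd₁ hd₂ n₀ M
  rw [← hn] at key inst2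
  -- lower bound for each term
  have hlow1 : ∀ i : ℕ, n₀ ≤ i → Nat.card k ^ (i * d - genus k K) ≤ Nat.card (Eff k K (i * d)) := by
    intro i hi
    have hid : i ≤ i * d := Nat.le_mul_of_pos_right _ hd0
    apply pow_le_card_Eff hK (i • Dd)
    · rw [deg_nsmul, hDd]; push_cast; ring
    · omega
    · omega
  have hlow : ∀ j : Fin M, Nat.card k ^ (n * d - 2 * genus k K) ≤
      Nat.card (Eff k K ((n₀ + j) * d)) * Nat.card (Eff k K ((n₀ + (M - 1 - j)) * d)) := by
    intro j
    have hj := j.2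
    have e1 := hlow1 (n₀ + j) (by omega)
    have e2 := hlow1 (n₀ + (M - 1 - j)) (by omega)
    have hid1 : n₀ + j ≤ (n₀ + j) * d := Nat.le_mul_of_pos_right _ hd0
    have hid2 : n₀ + (M - 1 - j) ≤ (n₀ + (M - 1 - j)) * d := Nat.le_mul_of_pos_right _ hd0
    have hsum : (n₀ + j) * d + (n₀ + (M - 1 - j)) * d = n * d := by
      rw [← add_mul, hn]
      congr 1
      omega
    have hexp : n * d - 2 * genus k K =
        ((n₀ + j) * d - genus k K) + ((n₀ + (M - 1 - j)) * d - genus k K) := by omega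
    rw [hexp, pow_add]
    exact Nat.mul_le_mul e1 e2
  have hsumlow : M * Nat.card k ^ (n * d - 2 * genus k K) ≤
      ∑ j : Fin M, Nat.card (Eff k K ((n₀ + j) * d)) *
        Nat.card (Eff k K ((n₀ + (M - 1 - j)) * d)) := by
    have := Finset.card_nsmul_le_sum (Finset.univ : Finset (Fin M)) _ _ (fun j _ => hlow j)
    rwa [Finset.card_univ, Fintype.card_fin, smul_eq_mul] at this
  have hpos : 0 < Nat.card (Eff k₂ K₂ n) := by
    refine lt_of_lt_of_le ?_ (hsumlow.trans key)
    apply Nat.mul_pos (by omega)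
    exact Nat.pow_pos hqpos
  obtain ⟨⟨E⟩, -⟩ := Nat.card_pos_iff.1 hpos
  have hup := card_Eff_le hK₂ E.1 E.2.2 (by omega)
  rw [hq₂, ← pow_mul] at hup
  have hnd : 2 * genus k K ≤ n * d := by
    have : n ≤ n * d := Nat.le_mul_of_pos_right _ hd0
    omega
  have hexp2 : d * (n + 1) = (2 * genus k K + d) + (n * d - 2 * genus k K) := by
    have : d * (n + 1) = n * d + d := by ring
    omega
  rw [hexp2, pow_add, ← mul_assoc] at hup
  have hfinal := (hsumlow.trans key).trans hup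
  have hcancel := Nat.le_of_mul_le_mul_right hfinal (Nat.pow_pos hqpos)
  omega

end Groth.Agent.Lib.Helper34.FunFldZetaCount
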