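import Groth.Agent.Lib.Helper34.FunFldZetaPoly

/-!
# `L(1) = h` (helper34)
-/

set_option autoImplicit false

namespace Groth.Agent.Lib.Helper34.FunFldZetaPoly

open FunFld Groth.Agent.Lib.Helper88.FF Groth.Agent.Lib.Helper91.FunFldFin
  Groth.Agent.Lib.Helper34.FunFldZetaSchmidt

variable (k K : Type*) [Field k] [Field K] [Algebra k K]

theorem sum_coeff_numerZ (N : ℕ) :
    ∑ i ∈ Finset.range (N + 2), PowerSeries.coeff i (numerZ k K) =
      (effDivCount k K (N + 1) : ℤ) - (Nat.card k : ℤ) * (effDivCount k K N : ℤ) := by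
  induction N with
  | zero =>
    rw [Finset.sum_range_succ, Finset.sum_range_one, coeff_numerZ_zero, coeff_numerZ_one]
    ring
  | succ N ih =>
    rw [Finset.sum_range_succ, ih, coeff_numerZ_add_two]
    ring

variable {k K}

theorem eval_one_eq [Finite k] (hK : IsFunctionField k K) (p : Polynomial ℤ)
    (hp : (p : PowerSeries ℤ) = numerZ k K) : p.eval 1 = (classNum k K : ℤ) := by
  obtain ⟨N, hN⟩ : ∃ N, N = p.natDegree + 2 * genus k K := ⟨_, rfl⟩
  rw [Polynomial.eval_eq_sum_range' (show p.natDegree < N + 2 by omega)]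
  have h1 : ∀ i, p.coeff i * 1 ^ i = PowerSeries.coeff i (numerZ k K) := by
    intro i
    rw [one_pow, mul_one, ← hp, Polynomial.coeff_coe]
  simp_rw [h1]
  rw [sum_coeff_numerZ]
  apply mul_left_cancel₀ (card_sub_one_ne_zero (k := k))
  rw [mul_sub, mul_left_comm _ (Nat.card k : ℤ), effDivCount_formula hK (N + 1) (by omega),
    effDivCount_formula hK N (by omega)]
  have e1 : N + 1 + 1 - genus k K = (N + 1 - genus k K) + 1 := by omega
  rw [e1]
  ring

end Groth.Agent.Lib.Helper34.FunFldZetaPoly
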