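import Groth.Agent.Lib.Helper34.QRecip
import Mathlib.Algebra.BigOperators.Fin
import Mathlib.Algebra.BigOperators.Intervals

/-!
# Reciprocal roots of a `Q`-self-reciprocal polynomial, numbered so that `αᵢ α_{rev i} = Q`
(helper34)
-/

set_option autoImplicit false

namespace Groth.Agent.Lib.Helper34.QRecip

open Polynomial

variable {Q : ℂ}

theorem exists_root_quad (hQ : Q ≠ 0) (β : ℂ) :
    ∃ a : ℂ, a ≠ 0 ∧ quad Q β = (1 - C a * X) * (1 - C (Q / a) * X) := by
  have hdeg : (C (1 : ℂ) * X ^ 2 + C (-β) * X + C Q).degree ≠ 0 := by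
    rw [degree_quadratic one_ne_zero]
    norm_num
  obtain ⟨a, ha⟩ := IsAlgClosed.exists_root _ hdeg
  rw [IsRoot.def] at ha
  simp only [eval_add, eval_mul, eval_C, eval_pow, eval_X] at ha
  have ha0 : a ≠ 0 := by
    rintro rfl
    apply hQ
    simpa using ha
  refine ⟨a, ha0, ?_⟩
  unfold quad
  have hβ : β = a + Q / a := by
    field_simp
    linear_combination (-1 : ℂ) * ha
  have h1 : (C a : ℂ[X]) * C (Q / a) = C Q := by
    rw [← C_mul]; congr 1; field_simp
  rw [hβ, C_add]
  linear_combination (-(X : ℂ[X]) ^ 2) * h1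

theorem exists_alpha (hQ : Q ≠ 0) (g : ℕ) (L : ℂ[X]) (hFE : FE Q (2 * g) (Q ^ g) L)
    (h0 : L.coeff 0 = 1) :
    ∃ α : Fin (2 * g) → ℂ, (∀ i, α i ≠ 0) ∧ L = ∏ i, (1 - C (α i) * X) ∧
      ∀ i, α i * α (Fin.rev i) = Q := by
  obtain ⟨β, hβ⟩ := exists_factorization hQ g L hFE h0
  choose a ha0 ha using fun i => exists_root_quad hQ (β i)
  let A : ℕ → ℂ := fun n => if h : n < g then a ⟨n, h⟩ else 1
  have hA0 : ∀ n, A n ≠ 0 := by
    intro n
    simp only [A]
    split_ifs
    · exact ha0 _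
    · exact one_ne_zero
  let α' : ℕ → ℂ := fun n => if n < g then A n else Q / A (2 * g - 1 - n)
  refine ⟨fun j => α' j, ?_, ?_, ?_⟩
  · intro j
    simp only [α']
    split_ifs
    · exact hA0 _
    · exact div_ne_zero hQ (hA0 _)
  · rw [hβ]
    have e1 : ∏ j : Fin (2 * g), (1 - C (α' j) * X) =
        ∏ n ∈ Finset.range (2 * g), (1 - C (α' n) * X) :=
      (Finset.prod_range (fun n => (1 - C (α' n) * X))).symm
    rw [e1, two_mul, Finset.prod_range_add]
    have e2 : ∏ x ∈ Finset.range g, (1 - C (α' x) * X) =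
        ∏ x ∈ Finset.range g, (1 - C (A x) * X) := by
      apply Finset.prod_congr rfl
      intro x hx
      rw [Finset.mem_range] at hx
      simp only [α', if_pos hx]
    have e3 : ∏ x ∈ Finset.range g, (1 - C (α' (g + x)) * X) =
        ∏ x ∈ Finset.range g, (1 - C (Q / A x) * X) := by
      rw [← Finset.prod_range_reflect (fun x => (1 - C (Q / A x) * X)) g]
      apply Finset.prod_congr rfl
      intro x hx
      rw [Finset.mem_range] at hx
      have h1 : ¬ (g + x < g) := by omega
      have h2 : g + g - 1 - (g + x) = g - 1 - x := by omega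
      simp only [α', if_neg h1, ← two_mul]
      rw [two_mul, h2]
    rw [e2, e3, ← Finset.prod_mul_distrib, Finset.prod_range]
    apply Finset.prod_congr rfl
    intro i _
    rw [ha i]
    simp only [A, dif_pos i.2]
  · intro j
    have hj := j.2
    have hrev : ((Fin.rev j : Fin (2 * g)) : ℕ) = 2 * g - (j + 1) := Fin.val_rev j
    simp only [α', hrev]
    by_cases h : (j : ℕ) < g
    · have h1 : ¬ (2 * g - ((j : ℕ) + 1) < g) := by omega
      have h2 : 2 * g - 1 - (2 * g - ((j : ℕ) + 1)) = j := by omega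
      rw [if_pos h, if_neg h1, h2]
      field_simp [hA0 j]
    · have h1 : 2 * g - ((j : ℕ) + 1) < g := by omega
      have h2 : 2 * g - 1 - (j : ℕ) = 2 * g - ((j : ℕ) + 1) := by omega
      rw [if_neg h, if_pos h1, h2]
      field_simp [hA0 (2 * g - ((j : ℕ) + 1))]

end Groth.Agent.Lib.Helper34.QRecip
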