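import Groth.Agent.Lib.Helper34.FunFldZetaFE
import Groth.Agent.Lib.Helper34.QRecip2
import Mathlib.RingTheory.IntegralClosure.IsIntegral.Basic

/-!
# Reciprocal roots of the zeta numerator (helper34)
-/

set_option autoImplicit false

namespace Groth.Agent.Lib.Helper34.FunFldZetaRoots

open FunFld Polynomial Groth.Agent.Lib.Helper88.FF Groth.Agent.Lib.Helper91.FunFldFin
  Groth.Agent.Lib.Helper34.FunFldZetaSchmidt Groth.Agent.Lib.Helper34.FunFldZetaPoly
  Groth.Agent.Lib.Helper34.FunFldZetaFE Groth.Agent.Lib.Helper34.QRecip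

variable {k K : Type*} [Field k] [Field K] [Algebra k K]

theorem exists_roots [Finite k] (hK : IsFunctionField k K) :
    ∃ α : Fin (2 * genus k K) → ℂ, (∀ i, IsIntegral ℤ (α i)) ∧
      PowerSeries.map (Int.castRingHom ℂ) (numerZ k K) =
        ((∏ i, (1 - Polynomial.C (α i) * Polynomial.X) : Polynomial ℂ) : PowerSeries ℂ) ∧
      ∀ i, α i * α (Fin.rev i) = (Nat.card k : ℂ) := by
  obtain ⟨p, hp⟩ := exists_poly_numerZ hK
  have hq : 1 < Nat.card k := Finite.one_lt_card
  have hQ : (Nat.card k : ℂ) ≠ 0 := by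
    have : Nat.card k ≠ 0 := by omega
    exact_mod_cast this
  have hcoeff : ∀ j, p.coeff j = PowerSeries.coeff j (numerZ k K) := by
    intro j
    rw [← hp, Polynomial.coeff_coe]
  have hp0 : p.coeff 0 = 1 := by
    rw [hcoeff, coeff_numerZ_zero, effDivCount_zero hK]
    rfl
  have hLcoeff : ∀ j, (p.map (Int.castRingHom ℂ)).coeff j =
      ((PowerSeries.coeff j (numerZ k K) : ℤ) : ℂ) := by
    intro j
    rw [coeff_map, hcoeff]
    rfl
  have hdeg : (p.map (Int.castRingHom ℂ)).natDegree ≤ 2 * genus k K := by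
    rw [natDegree_le_iff_coeff_eq_zero]
    intro n hn
    rw [hLcoeff, coeff_numerZ_eq_zero hK n hn, Int.cast_zero]
  have hFE : FE (Nat.card k : ℂ) (2 * genus k K) ((Nat.card k : ℂ) ^ genus k K)
      (p.map (Int.castRingHom ℂ)) := by
    apply FE_of_coeff hdeg
    intro j hj
    rw [hLcoeff, hLcoeff]
    have h := functional_eq' hK j hj
    have hq0 : (Nat.card k : ℚ) ≠ 0 := by
      have : Nat.card k ≠ 0 := by omega
      exact_mod_cast this
    have h2 : ((PowerSeries.coeff (2 * genus k K - j) (numerZ k K) : ℤ) : ℚ) *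
        (Nat.card k : ℚ) ^ j = (Nat.card k : ℚ) ^ genus k K *
          ((PowerSeries.coeff j (numerZ k K) : ℤ) : ℚ) := by
      rw [h, mul_right_comm, ← zpow_natCast, ← zpow_add₀ hq0, sub_add_cancel, zpow_natCast]
    have h3 := congrArg (fun x : ℚ => (x : ℂ)) h2
    beta_reduce at h3
    push_cast at h3
    exact h3.symm
  have hL0 : (p.map (Int.castRingHom ℂ)).coeff 0 = 1 := by
    rw [coeff_map, hp0]
    simp
  obtain ⟨α, hα0, hα, hpair⟩ := exists_alpha hQ (genus k K) _ hFE hL0
  refine ⟨α, ?_, ?_, hpair⟩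
  · intro i
    refine ⟨p.reverse, ?_, ?_⟩
    · unfold Polynomial.Monic
      rw [reverse_leadingCoeff, trailingCoeff]
      have : p.natTrailingDegree = 0 := by
        rw [natTrailingDegree_eq_zero]
        right
        rw [hp0]
        exact one_ne_zero
      rw [this, hp0]
    · have hdvd : (1 - C (α i) * X) ∣ p.map (Int.castRingHom ℂ) := by
        rw [hα]
        exact Finset.dvd_prod_of_mem _ (Finset.mem_univ i)
      have hroot : eval₂ (Int.castRingHom ℂ) (α i)⁻¹ p = 0 := by
        rw [← eval_map]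
        obtain ⟨r, hr⟩ := hdvd
        rw [hr, eval_mul, eval_sub, eval_one, eval_mul, eval_C, eval_X,
          mul_inv_cancel₀ (hα0 i), sub_self, zero_mul]
      letI : Invertible (α i)⁻¹ := invertibleOfNonzero (inv_ne_zero (hα0 i))
      have := (eval₂_reverse_eq_zero_iff (Int.castRingHom ℂ) (α i)⁻¹ p).2 hroot
      rw [invOf_eq_inv, inv_inv] at this
      exact this
  · rw [← hα, ← hp]
    exact (Polynomial.polynomial_map_coe).symm

end Groth.Agent.Lib.Helper34.FunFldZetaRoots
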