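import Groth.Agent.Lib.Helper34.FunFldZetaConst
import Groth.Agent.Lib.Helper34.FunFldZetaNum
import Groth.Agent.Lib.Helper44.FunFldExt5
import Mathlib.GroupTheory.Archimedean
import Mathlib.RingTheory.AdjoinRoot

/-!
# F. K. Schmidt's theorem: a function field over a finite field has a divisor of degree one
(helper34)
-/

set_option autoImplicit false

namespace Groth.Agent.Lib.Helper34.FunFldZetaSchmidt

open FunFld Polynomial Groth.Agent.Lib.Helper88.FF Groth.Agent.Lib.Helper44.FFExt
  Groth.Agent.Lib.Helper34.FunFldZetaIrr Groth.Agent.Lib.Helper34.FunFldZetaSplit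
  Groth.Agent.Lib.Helper34.FunFldZetaCount Groth.Agent.Lib.Helper91.FunFldFin

section abstract

variable {k K K' : Type*} [Field k] [Field K] [Field K'] [Algebra k K] [Algebra K K']
  [Algebra k K'] [IsScalarTower k K K']

/-- The constant field extension of degree `d ≥ 2`, where `d` divides all degrees of places,
cannot exist. -/
theorem false_of_ext [Finite k] [FiniteDimensional K K'] (hK : IsFunctionField k K) {f : k[X]}
    (hf : f.Monic) (hirr : Irreducible f) {α : K'} (hα : aeval α f = 0)
    (hrank : Module.finrank K K' = f.natDegree) (hd2 : 2 ≤ f.natDegree) (Dd : Divisor k K)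
    (hDd : Dd.deg = f.natDegree) (hdvd : ∀ P : Place k K, f.natDegree ∣ P.deg) : False := by
  classical
  have hK₂ := isFunctionField_algebraicClosure (K' := K') hK
  have hfd := finiteDimensional_algebraicClosure (K' := K') hK
  have hfin₂ : Finite (algebraicClosure k K') := Module.finite_of_finite k
  have hrk := finrank_algebraicClosure hK hf hirr hα hrank
  have hq₂ : Nat.card (algebraicClosure k K') = Nat.card k ^ f.natDegree := by
    rw [← hrk]; exact Module.natCard_eq_pow_finrank
  have hsec : ∀ P : Place k K, ∃ Q₁ Q₂ : Place k K', Q₁ ≠ Q₂ ∧ IsOver Q₁ P ∧ IsOver Q₂ P ∧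
      Q₁.deg = P.deg ∧ Q₂.deg = P.deg := by
    intro P
    obtain ⟨S, hScard, hS⟩ := exists_places_above hK hf hirr hα hrank P (hdvd P)
    have h1 : 1 < S.card := by omega
    obtain ⟨Q₁, hQ₁, Q₂, hQ₂, hne⟩ := Finset.one_lt_card.1 h1
    exact ⟨Q₁, Q₂, hne, (hS Q₁ hQ₁).1, (hS Q₂ hQ₂).1, (hS Q₁ hQ₁).2, (hS Q₂ hQ₂).2⟩
  choose s₁ s₂ hne ho₁ ho₂ hdeg₁ hdeg₂ using hsec
  have hinj₁ : Function.Injective (fun P => toAlgClosurePlace (s₁ P)) := by
    intro P P' h
    have h' : s₁ P = s₁ P' := toAlgClosurePlace_injective h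
    have := ho₁ P'
    rw [← h'] at this
    exact isOver_unique_below (ho₁ P) this
  have hinj₂ : Function.Injective (fun P => toAlgClosurePlace (s₂ P)) := by
    intro P P' h
    have h' : s₂ P = s₂ P' := toAlgClosurePlace_injective h
    have := ho₂ P'
    rw [← h'] at this
    exact isOver_unique_below (ho₂ P) this
  have hdisj : ∀ P P', (fun P => toAlgClosurePlace (s₁ P)) P ≠
      (fun P => toAlgClosurePlace (s₂ P)) P' := by
    intro P P' h
    have h' : s₁ P = s₂ P' := toAlgClosurePlace_injective h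
    have h2 := ho₂ P'
    rw [← h'] at h2
    have hPP' : P = P' := isOver_unique_below (ho₁ P) h2
    subst hPP'
    exact hne P h'
  have hd₁ : ∀ P : Place k K, P.deg = f.natDegree * (toAlgClosurePlace (s₁ P)).deg := by
    intro P
    rw [← hdeg₁ P, deg_eq_finrank_mul_deg (s₁ P), hrk]
  have hd₂ : ∀ P : Place k K, P.deg = f.natDegree * (toAlgClosurePlace (s₂ P)).deg := by
    intro P
    rw [← hdeg₂ P, deg_eq_finrank_mul_deg (s₂ P), hrk]
  exact false_of_sections hK hK₂ (by omega) Dd hDd hq₂ hinj₁ hinj₂ hdisj hd₁ hd₂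

end abstract

variable {k K : Type*} [Field k] [Field K] [Algebra k K]

/-- **F. K. Schmidt.** Over a finite constant field the degree map is onto `ℤ`. -/
theorem deg_surjective [Finite k] (hK : IsFunctionField k K) :
    Function.Surjective (Divisor.deg : Divisor k K → ℤ) := by
  classical
  obtain ⟨a, ha⟩ := Int.subgroup_cyclic (FunFld.degHom k K).range
  have hmem : ∀ D : Divisor k K, ∃ m : ℤ, m * a = D.deg := by
    intro D
    have h1 : D.deg ∈ (FunFld.degHom k K).range := ⟨D, Groth.Agent.Lib.Helper91.FunFldFin.degHom_apply D⟩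
    rw [ha, AddSubgroup.mem_closure_singleton] at h1
    obtain ⟨m, hm⟩ := h1
    exact ⟨m, by rw [← hm, smul_eq_mul]⟩
  have hamem : a ∈ (FunFld.degHom k K).range := by
    rw [ha]; exact AddSubgroup.subset_closure rfl
  obtain ⟨Da, hDa⟩ := hamem
  rw [Groth.Agent.Lib.Helper91.FunFldFin.degHom_apply] at hDa
  obtain ⟨P₀⟩ := exists_place hK
  have hP₀ := deg_pos hK P₀
  have ha0 : a ≠ 0 := by
    rintro rfl
    obtain ⟨m, hm⟩ := hmem (Finsupp.single P₀ 1)
    rw [deg_single, mul_zero, one_mul] at hm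
    have : (P₀.deg : ℤ) = 0 := hm.symm
    have : P₀.deg = 0 := by exact_mod_cast this
    omega
  have hdvd : ∀ P : Place k K, a.natAbs ∣ P.deg := by
    intro P
    obtain ⟨m, hm⟩ := hmem (Finsupp.single P 1)
    rw [deg_single, one_mul] at hm
    have h1 : a ∣ (P.deg : ℤ) := ⟨m, by rw [← hm, mul_comm]⟩
    have h2 := Int.natAbs_dvd_natAbs.2 h1
    rwa [Int.natAbs_natCast] at h2
  have hDd : ∃ Dd : Divisor k K, Dd.deg = (a.natAbs : ℤ) := by
    rcases Int.natAbs_eq a with h | h
    · exact ⟨Da, by rw [hDa]; exact h⟩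
    · refine ⟨-Da, ?_⟩
      rw [deg_neg, hDa]
      omega
  obtain ⟨Dd, hDd⟩ := hDd
  by_cases h1 : a.natAbs = 1
  · intro n
    refine ⟨n • Dd, ?_⟩
    rw [deg_zsmul, hDd, h1]
    simp
  · exfalso
    have hd2 : 2 ≤ a.natAbs := by
      have : a.natAbs ≠ 0 := Int.natAbs_ne_zero.2 ha0
      omega
    obtain ⟨p, hp⟩ := CharP.exists k
    haveI : Fact p.Prime := ⟨CharP.char_is_prime k p⟩
    haveI : NeZero a.natAbs := ⟨by omega⟩
    obtain ⟨γ, hγ⟩ := Field.exists_primitive_element k (FiniteField.Extension k p a.natAbs)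
    rw [Field.primitive_element_iff_minpoly_natDegree_eq,
      FiniteField.finrank_extension k p a.natAbs] at hγ
    have hint : IsIntegral k γ := Algebra.IsIntegral.isIntegral γ
    have hf := minpoly.monic hint
    have hirr := minpoly.irreducible hint
    generalize minpoly k γ = f at hγ hf hirr
    haveI : Fact (Irreducible (f.map (algebraMap k K))) := ⟨irreducible_map hK.2 hf hirr⟩
    have hα : aeval (AdjoinRoot.root (f.map (algebraMap k K))) f = 0 := by
      rw [AdjoinRoot.aeval_eq_of_algebra, AdjoinRoot.mk_self]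
    have hrank : Module.finrank K (AdjoinRoot (f.map (algebraMap k K))) = f.natDegree := by
      rw [(AdjoinRoot.powerBasis' (hf.map (algebraMap k K))).finrank, AdjoinRoot.powerBasis'_dim,
        Polynomial.natDegree_map]
    have hfd : FiniteDimensional K (AdjoinRoot (f.map (algebraMap k K))) :=
      (AdjoinRoot.powerBasis' (hf.map (algebraMap k K))).finite
    rw [← hγ] at hd2 hDd hdvd
    exact false_of_ext hK hf hirr hα hrank hd2 Dd hDd hdvd

end Groth.Agent.Lib.Helper34.FunFldZetaSchmidt
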