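import Groth.Agent.Lib.Helper34.FunFldZetaIrr
import Mathlib.RingTheory.Valuation.LocalSubring
import Mathlib.FieldTheory.Finite.Extension

/-!
# Constant field extensions of function fields, part 2 (helper34)

Setting: `K'/K` finite, generated by a root `α` of a monic irreducible `f ∈ k[X]` with
`[K' : K] = deg f`.

* `exists_place_root`: for each simple root `b mod P` of `f` in the residue field of a place `P`
  of `K` there is a place `Q` of `K'` over `P` with `α ≡ b mod Q`.
-/

set_option autoImplicit false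

namespace Groth.Agent.Lib.Helper34.FunFldZetaSplit

open FunFld Polynomial WithZero Groth.Agent.Lib.Helper88.FF Groth.Agent.Lib.Helper44.FFExt
  Groth.Agent.Lib.Helper34.FunFldZetaIrr

variable {k K K' : Type*} [Field k] [Field K] [Field K'] [Algebra k K] [Algebra K K']
  [Algebra k K'] [IsScalarTower k K K']

theorem minpoly_eq (hK : IsFunctionField k K) {f : k[X]} (hf : f.Monic)
    (hirr : Irreducible f) {α : K'} (hα : aeval α f = 0) :
    minpoly K α = f.map (algebraMap k K) := by
  symm
  apply minpoly.eq_of_irreducible_of_monic (irreducible_map hK.2 hf hirr) _ (hf.map _)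
  rw [Polynomial.aeval_map_algebraMap, hα]

/-- The kernel of `O_P[X] → K'`, `X ↦ α`, is contained in the kernel of any evaluation
`O_P[X] → F_P` at a root of `f`. -/
theorem ker_le_ker (hK : IsFunctionField k K) {f : k[X]} (hf : f.Monic)
    (hirr : Irreducible f) {α : K'} (hα : aeval α f = 0) (P : Place k K) {b : K} (hb : b ∈ P.O)
    (hfb : P.1 (aeval b f) < 1) (g : Polynomial P.O)
    (hg : Polynomial.eval₂ ((algebraMap K K').comp P.O.subtype) α g = 0) :
    Polynomial.eval₂ (IsLocalRing.residue P.O) (IsLocalRing.residue P.O ⟨b, hb⟩) g = 0 := by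
  have hφ : ∃ φ : P.O →+* K', φ = (algebraMap K K').comp P.O.subtype := ⟨_, rfl⟩
  obtain ⟨φ, hφ⟩ := hφ
  rw [← hφ] at hg
  have hfR : (f.map (algebraMap k P.O)).Monic := hf.map _
  have hdiv := Polynomial.modByMonic_add_div g (f.map (algebraMap k P.O))
  have hψf : Polynomial.eval₂ φ α (f.map (algebraMap k P.O)) = 0 := by
    rw [Polynomial.eval₂_map]
    have : φ.comp (algebraMap k P.O) = algebraMap k K' := by
      rw [hφ]
      ext c
      exact (IsScalarTower.algebraMap_apply k K K' c).symm
    rw [this, ← Polynomial.aeval_def, hα]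
  have hψr : Polynomial.eval₂ φ α (g %ₘ f.map (algebraMap k P.O)) = 0 := by
    have := congrArg (Polynomial.eval₂ φ α) hdiv
    rw [Polynomial.eval₂_add, Polynomial.eval₂_mul, hψf, zero_mul, add_zero, hg] at this
    exact this
  have hinj : Function.Injective P.O.subtype := Subtype.val_injective
  have hr0 : g %ₘ f.map (algebraMap k P.O) = 0 := by
    by_contra hne
    have hneK : (g %ₘ f.map (algebraMap k P.O)).map P.O.subtype ≠ 0 := by
      rwa [Ne, Polynomial.map_eq_zero_iff hinj]
    have hroot : aeval α ((g %ₘ f.map (algebraMap k P.O)).map P.O.subtype) = 0 := by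
      rw [Polynomial.aeval_def, Polynomial.eval₂_map, ← hφ]
      exact hψr
    have h1 := minpoly.degree_le_of_ne_zero K α hneK hroot
    rw [minpoly_eq hK hf hirr hα, Polynomial.degree_map_eq_of_injective hinj,
      Polynomial.degree_map] at h1
    have h2 := Polynomial.degree_modByMonic_lt g hfR
    rw [Polynomial.degree_map] at h2
    exact absurd (lt_of_le_of_lt h1 h2) (lt_irrefl _)
  rw [hr0, zero_add] at hdiv
  rw [← hdiv, Polynomial.eval₂_mul]
  have hχf : Polynomial.eval₂ (IsLocalRing.residue P.O) (IsLocalRing.residue P.O ⟨b, hb⟩)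
      (f.map (algebraMap k P.O)) = 0 := by
    rw [Polynomial.eval₂_map, ← Polynomial.hom_eval₂, IsLocalRing.residue_eq_zero_iff,
      Valuation.mem_maximalIdeal_iff]
    have : ((Polynomial.eval₂ (algebraMap k P.O) (⟨b, hb⟩ : P.O) f : P.O) : K) = aeval b f := by
      have := Polynomial.hom_eval₂ f (algebraMap k P.O) P.O.subtype (⟨b, hb⟩ : P.O)
      rw [Polynomial.aeval_def]
      exact this
    rw [this]
    exact hfb
  rw [hχf, zero_mul]


/-- For each root `b mod P` of `f` in the residue field of `P` there is a place of `K'` over `P` at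
which `α ≡ b`. -/
theorem exists_place_root [FiniteDimensional K K'] (hK : IsFunctionField k K) {f : k[X]}
    (hf : f.Monic) (hirr : Irreducible f) {α : K'} (hα : aeval α f = 0) (P : Place k K) {b : K}
    (hb : b ∈ P.O) (hfb : P.1 (aeval b f) < 1) :
    ∃ Q : Place k K', IsOver Q P ∧ Q.1 (α - algebraMap K K' b) < 1 := by
  classical
  let φ : P.O →+* K' := (algebraMap K K').comp P.O.subtype
  let ψ : Polynomial P.O →+* K' := Polynomial.eval₂RingHom φ α
  let χ : Polynomial P.O →+* IsLocalRing.ResidueField P.O :=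
    Polynomial.eval₂RingHom (IsLocalRing.residue P.O) (IsLocalRing.residue P.O ⟨b, hb⟩)
  have hker : RingHom.ker ψ ≤ RingHom.ker χ :=
    fun g hg => ker_le_ker hK hf hirr hα P hb hfb g hg
  let A : Subring K' := ψ.range
  let ψ' : Polynomial P.O →+* A := ψ.rangeRestrict
  have hsurj : Function.Surjective ψ' := ψ.rangeRestrict_surjective
  let I : Ideal A := Ideal.map ψ' (RingHom.ker χ)
  have hI : I ≠ ⊤ := by
    intro h
    have h1 := Ideal.comap_map_of_surjective ψ' hsurj (RingHom.ker χ)
    rw [show Ideal.map ψ' (RingHom.ker χ) = ⊤ from h, Ideal.comap_top] at h1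
    have h2 : Ideal.comap ψ' ⊥ ≤ RingHom.ker χ := by
      intro g hg
      apply hker
      rw [Ideal.mem_comap, Ideal.mem_bot] at hg
      rw [RingHom.mem_ker]
      exact congrArg Subtype.val hg
    have h3 : (⊤ : Ideal (Polynomial P.O)) ≤ RingHom.ker χ := by
      rw [h1]; exact sup_le le_rfl h2
    have h4 : (1 : Polynomial P.O) ∈ RingHom.ker χ := h3 trivial
    rw [RingHom.mem_ker, map_one] at h4
    exact one_ne_zero h4
  obtain ⟨V, hAV, hIV⟩ := Ideal.image_subset_nonunits_valuationSubring I hI
  have hV1 : ∀ g : Polynomial P.O, ψ g ∈ V := fun g => hAV ⟨g, rfl⟩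
  have hV2 : ∀ g : Polynomial P.O, χ g = 0 → ψ g ∈ V.nonunits := by
    intro g hg
    apply hIV
    exact ⟨ψ' g, Ideal.mem_map_of_mem _ hg, rfl⟩
  have hψC : ∀ x : P.O, ψ (Polynomial.C x) = algebraMap K K' x.1 := by
    intro x
    show Polynomial.eval₂ φ α (Polynomial.C x) = _
    rw [Polynomial.eval₂_C]
    rfl
  have hχC : ∀ x : P.O, χ (Polynomial.C x) = IsLocalRing.residue P.O x := by
    intro x
    show Polynomial.eval₂ _ _ (Polynomial.C x) = _
    rw [Polynomial.eval₂_C]
  -- elements of `m_P` become nonunits of `V`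
  have hmP : ∀ x : K, P.1 x < 1 → algebraMap K K' x ∈ V.nonunits := by
    intro x hx
    have hxO : x ∈ P.O := le_of_lt hx
    have := hV2 (Polynomial.C ⟨x, hxO⟩) (by
      rw [hχC, IsLocalRing.residue_eq_zero_iff, Valuation.mem_maximalIdeal_iff]
      exact hx)
    rwa [hψC] at this
  have hOP : ∀ x : K, P.1 x ≤ 1 → algebraMap K K' x ∈ V := by
    intro x hx
    have := hV1 (Polynomial.C ⟨x, hx⟩)
    rwa [hψC] at this
  obtain ⟨t, ht⟩ := exists_uniformizer P
  have ht0 : t ≠ 0 := by
    rintro rfl
    rw [map_zero] at ht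
    exact exp_ne_zero ht.symm
  have ht1 : P.1 t < 1 := by
    rw [ht, ← exp_zero, exp_lt_exp]; norm_num
  have htV := hmP t ht1
  have ht'0 : algebraMap K K' t ≠ 0 := (_root_.map_ne_zero _).2 ht0
  have htinv : (algebraMap K K' t)⁻¹ ∉ V := by
    rcases (ValuationSubring.mem_nonunits_iff_or V).1 htV with h | h
    · exact absurd h ht'0
    · exact h
  have hkV : ∀ c : k, algebraMap k K' c ∈ V := by
    intro c
    rw [IsScalarTower.algebraMap_apply k K K']
    exact hOP _ (P.2.1 c)
  obtain ⟨Q, hQ⟩ := exists_place_of_valuationSubring' hK V hkV htinv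
  have hQnon : ∀ w : K', w ∈ V.nonunits → Q.1 w < 1 := by
    intro w hw
    rcases (ValuationSubring.mem_nonunits_iff_or V).1 hw with h | h
    · rw [h, map_zero]; exact zero_lt_one
    · have hw0 : w ≠ 0 := by
        rintro rfl
        rw [inv_zero] at h
        exact h V.zero_mem
      have h1 : ¬ Q.1 w⁻¹ ≤ 1 := fun hle => h ((hQ _).1 hle)
      rw [not_le, map_inv₀] at h1
      have hQw : Q.1 w ≠ 0 := (Q.1.ne_zero_iff).2 hw0
      by_contra hcon
      rw [not_lt] at hcon
      have : (Q.1 w)⁻¹ ≤ 1 := inv_le_one_of_one_le₀ hcon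
      exact absurd h1 (not_lt.2 this)
  refine ⟨Q, ?_, ?_⟩
  · apply isOver_of_val_le_one_iff
    intro x
    constructor
    · intro hx
      by_contra hcon
      rw [not_le] at hcon
      have hx0 : x ≠ 0 := by
        rintro rfl
        rw [map_zero] at hcon
        exact absurd hcon (by simp)
      have h1 : P.1 x⁻¹ < 1 := by
        rw [map_inv₀]
        exact inv_lt_one_of_one_lt₀ hcon
      have h2 := hQnon _ (hmP _ h1)
      rw [map_inv₀, map_inv₀] at h2
      have hQx : Q.1 (algebraMap K K' x) ≠ 0 := (Q.1.ne_zero_iff).2 ((_root_.map_ne_zero _).2 hx0)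
      have h3 : 1 < Q.1 (algebraMap K K' x) := by
        by_contra hcon2
        rw [not_lt] at hcon2
        have : 1 ≤ (Q.1 (algebraMap K K' x))⁻¹ := (one_le_inv₀ (zero_lt_iff.2 hQx)).2 hcon2
        exact absurd h2 (not_lt.2 this)
      exact absurd hx (not_le.2 h3)
    · intro hx
      exact (hQ _).2 (hOP x hx)
  · have h1 : χ (Polynomial.X - Polynomial.C ⟨b, hb⟩) = 0 := by
      rw [map_sub, hχC]
      show Polynomial.eval₂ _ _ Polynomial.X - _ = 0
      rw [Polynomial.eval₂_X, sub_self]
    have h2 := hV2 _ h1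
    rw [map_sub, hψC] at h2
    have h3 : ψ Polynomial.X = α := by
      show Polynomial.eval₂ φ α Polynomial.X = α
      rw [Polynomial.eval₂_X]
    rw [h3] at h2
    exact hQnon _ h2

end Groth.Agent.Lib.Helper34.FunFldZetaSplit
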