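import Mathlib

/-!
# Glueing ring maps at finitely many maximal ideals (helper34)

`A` Noetherian, `m i` pairwise distinct maximal ideals, `B i` an `A_{m i}`-algebra whose structure map
has kernel and cokernel killed by a power of `m i`.  We construct the glued `A`-algebra as the
`J`-saturation (`J = ⨅ m i`) of the image of `A` inside
`(∏_{M maximal, M ≠ m i} A_M) × ∏ B i`.
-/

namespace Groth.Agent.Lib.Helper34.GlueMax

universe u
open TensorProduct

section Basic
variable {A : Type u} [CommRing A]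

/-- uniform killer of the kernel of a localization (Noetherian). -/
lemma exists_kill_ker [IsNoetherianRing A] (S : Submonoid A) :
    ∃ s ∈ S, ∀ z : A, algebraMap A (Localization S) z = 0 → s * z = 0 := by
  classical
  obtain ⟨G, hG⟩ := (IsNoetherian.noetherian (RingHom.ker (algebraMap A (Localization S))))
  have h1 : ∀ g ∈ G, ∃ s : S, (s : A) * g = 0 := by
    intro g hg
    have : g ∈ RingHom.ker (algebraMap A (Localization S)) := by
      rw [← hG]; exact Submodule.subset_span hg
    rw [RingHom.mem_ker, IsLocalization.map_eq_zero_iff S] at this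
    exact this
  choose! σ hσ using h1
  refine ⟨∏ g ∈ G, (σ g : A), Submonoid.prod_mem _ (fun g _ => (σ g).2), ?_⟩
  intro z hz
  have hz' : z ∈ Submodule.span A (G : Set A) := by rw [hG]; exact hz
  clear hz
  induction hz' using Submodule.span_induction with
  | mem x hx =>
    rw [← Finset.mul_prod_erase G _ hx, mul_right_comm, hσ x hx, zero_mul]
  | zero => simp
  | add x y _ _ hx hy => rw [mul_add, hx, hy, add_zero]
  | smul a x _ hx => rw [smul_eq_mul, mul_left_comm, hx, mul_zero]

lemma exists_pow_notMem (I M : Ideal A) [hI : I.IsMaximal] [hM : M.IsPrime] (h : I ≠ M) (n : ℕ) :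
    ∃ w ∈ I ^ n, w ∉ M := by
  by_contra hcon
  push Not at hcon
  have h1 : I ^ n ≤ M := fun w hw => hcon w hw
  have h2 : I ≤ M := Ideal.IsPrime.le_of_pow_le h1
  exact h (hI.eq_of_le hM.ne_top h2)

/-- cancellation lemma used for all "other" components. -/
lemma cancel_aux {R : Type*} [CommRing R] [Algebra A R] {y U W s a' a'' : A}
    (hU : IsUnit (algebraMap A R U)) (hW : IsUnit (algebraMap A R W))
    (h : s * W * (y * a' - U * a'') = 0) :
    y • (algebraMap A R (s * a') * Ring.inverse (algebraMap A R U)) = algebraMap A R (s * a'') := by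
  have e1 : algebraMap A R U * Ring.inverse (algebraMap A R U) = 1 := Ring.mul_inverse_cancel _ hU
  have h' : s * W * (y * a') = s * W * (U * a'') := by
    rw [mul_sub, sub_eq_zero] at h; exact h
  apply (hW.mul hU).mul_left_cancel
  rw [Algebra.smul_def]
  calc algebraMap A R W * algebraMap A R U *
        (algebraMap A R y * (algebraMap A R (s * a') * Ring.inverse (algebraMap A R U)))
      = algebraMap A R (s * W * (y * a')) *
          (algebraMap A R U * Ring.inverse (algebraMap A R U)) := by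
        simp only [map_mul]; ring
    _ = algebraMap A R (s * W * (U * a'')) := by rw [e1, mul_one, h']
    _ = algebraMap A R W * algebraMap A R U * algebraMap A R (s * a'') := by
        simp only [map_mul]; ring

end Basic

section Main

variable {A : Type u} [CommRing A] {r : ℕ} (m : Fin r → Ideal A) [hm : ∀ i, (m i).IsMaximal]
  (B : Fin r → Type u) [∀ i, CommRing (B i)] [∀ i, Algebra (Localization.AtPrime (m i)) (B i)]
  [∀ i, Algebra A (B i)] [∀ i, IsScalarTower A (Localization.AtPrime (m i)) (B i)]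

/-- the maximal ideals different from all `m i`. -/
def Oth : Type u := {M : MaximalSpectrum A // ∀ i, m i ≠ M.asIdeal}

/-- the ambient product ring. -/
abbrev P : Type u := (∀ M : Oth m, Localization.AtPrime M.1.asIdeal) × (∀ i, B i)

/-- the intersection of the `m i`. -/
abbrev J : Ideal A := ⨅ i, m i

/-- the glued ring: the `J`-saturation of the image of `A` in `P`. -/
def Cring : Subalgebra A (P m B) where
  carrier := {p | ∃ N : ℕ, ∀ y ∈ (J m) ^ N, y • p ∈ (algebraMap A (P m B)).range}
  mul_mem' := by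
    rintro a b ⟨N₁, h₁⟩ ⟨N₂, h₂⟩
    refine ⟨N₁ + N₂, fun y hy => ?_⟩
    rw [pow_add] at hy
    refine Submodule.mul_induction_on hy ?_ ?_
    · intro y₁ hy₁ y₂ hy₂
      rw [← smul_mul_smul_comm]
      exact Subring.mul_mem _ (h₁ y₁ hy₁) (h₂ y₂ hy₂)
    · intro x y hx hy
      rw [add_smul]
      exact Subring.add_mem _ hx hy
  add_mem' := by
    rintro a b ⟨N₁, h₁⟩ ⟨N₂, h₂⟩
    refine ⟨N₁ + N₂, fun y hy => ?_⟩
    rw [smul_add]
    exact Subring.add_mem _ (h₁ y (Ideal.pow_le_pow_right (Nat.le_add_right _ _) hy))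
      (h₂ y (Ideal.pow_le_pow_right (Nat.le_add_left _ _) hy))
  algebraMap_mem' := by
    intro a
    refine ⟨0, fun y _ => ⟨y * a, ?_⟩⟩
    rw [map_mul, Algebra.smul_def]

lemma mem_Cring {p : P m B} :
    p ∈ Cring m B ↔ ∃ N : ℕ, ∀ y ∈ (J m) ^ N, y • p ∈ (algebraMap A (P m B)).range := Iff.rfl

lemma J_le (i : Fin r) : J m ≤ m i := iInf_le _ i

lemma exists_J_notMem (M : Oth m) (N : ℕ) : ∃ y ∈ (J m) ^ N, y ∉ M.1.asIdeal := by
  by_contra hcon
  push Not at hcon
  have h1 : (J m) ^ N ≤ M.1.asIdeal := fun w hw => hcon w hw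
  have h2 : J m ≤ M.1.asIdeal := Ideal.IsPrime.le_of_pow_le h1
  have h3 : (Finset.univ : Finset (Fin r)).inf m ≤ M.1.asIdeal := by
    rw [Finset.inf_univ_eq_iInf]; exact h2
  obtain ⟨i, -, hi⟩ := (Ideal.IsPrime.inf_le' (inferInstance : M.1.asIdeal.IsPrime)).mp h3
  exact M.2 i ((hm i).eq_of_le (inferInstance : M.1.asIdeal.IsPrime).ne_top hi)

/-- the intersection of the `m j`, `j ≠ i`. -/
def Ii (i : Fin r) : Ideal A := (Finset.univ.erase i).inf m

lemma Ii_mul_le (i : Fin r) : Ii m i * m i ≤ J m := by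
  refine le_iInf fun j => ?_
  by_cases hji : j = i
  · subst hji; exact Ideal.mul_le_right
  · exact (Ideal.mul_le_left (I := Ii m i) (J := m i)).trans
      (Finset.inf_le (Finset.mem_erase.mpr ⟨hji, Finset.mem_univ _⟩))

variable (hinj : Function.Injective m)
include hinj

lemma exists_e (i : Fin r) (N : ℕ) : ∃ e ∈ (Ii m i) ^ N, e ∉ m i := by
  by_contra hcon
  push Not at hcon
  have h1 : (Ii m i) ^ N ≤ m i := fun w hw => hcon w hw
  have h2 : Ii m i ≤ m i := Ideal.IsPrime.le_of_pow_le h1
  obtain ⟨j, hj, hji⟩ := (Ideal.IsPrime.inf_le' (inferInstance : (m i).IsPrime)).mp h2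
  have : m j = m i := (hm j).eq_of_le (hm i).ne_top hji
  exact (Finset.mem_erase.mp hj).1 (hinj this)

omit hinj in
lemma e_mul_mem (i : Fin r) (N : ℕ) {e u : A} (he : e ∈ (Ii m i) ^ N) (hu : u ∈ (m i) ^ N) :
    e * u ∈ (J m) ^ N := by
  have : e * u ∈ (Ii m i * m i) ^ N := by
    rw [mul_pow]; exact Ideal.mul_mem_mul he hu
  exact Ideal.pow_right_mono (Ii_mul_le m i) N this

omit hinj in
lemma isUnit_algebraMap_B (j : Fin r) {w : A} (hw : w ∉ m j) : IsUnit (algebraMap A (B j) w) := by
  rw [IsScalarTower.algebraMap_apply A (Localization.AtPrime (m j)) (B j)]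
  exact (IsLocalization.map_units (Localization.AtPrime (m j))
    (⟨w, hw⟩ : (m j).primeCompl)).map _

omit hinj in
lemma isUnit_algebraMap_Oth (M : Oth m) {w : A} (hw : w ∉ M.1.asIdeal) :
    IsUnit (algebraMap A (Localization.AtPrime M.1.asIdeal) w) :=
  IsLocalization.map_units (Localization.AtPrime M.1.asIdeal) (⟨w, hw⟩ : M.1.asIdeal.primeCompl)

/-- the hypotheses in uniform form. -/
structure Hyp (n : ℕ) : Prop where
  ker : ∀ i, ∃ s ∉ m i, ∀ a : A, algebraMap A (B i) a = 0 → ∀ y ∈ (m i) ^ n, s * y * a = 0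
  coker : ∀ i, ∀ b : B i, ∃ t ∉ m i, ∀ y ∈ (m i) ^ n, ∃ a : A, y • t • b = algebraMap A (B i) a

omit hinj in
lemma fst_apply_algebraMap (a : A) (M : Oth m) :
    (algebraMap A (P m B) a).1 M = algebraMap A (Localization.AtPrime M.1.asIdeal) a := rfl

omit hinj in
lemma snd_apply_algebraMap (a : A) (j : Fin r) :
    (algebraMap A (P m B) a).2 j = algebraMap A (B j) a := rfl

variable {m B}

/-- injectivity part of the localization statement. -/
lemma loc_inj {n : ℕ} (h : Hyp m B n) (i : Fin r) (p : P m B) (hpC : p ∈ Cring m B)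
    (hp : p.2 i = 0) : ∃ s ∉ m i, s • p = 0 := by
  obtain ⟨N, hN⟩ := hpC
  obtain ⟨s, hs, hker⟩ := h.ker i
  obtain ⟨e, heI, hei⟩ := exists_e m hinj i N
  refine ⟨e * s, fun hmem => ((hm i).isPrime.mem_or_mem hmem).elim hei hs, ?_⟩
  have key : ∀ y ∈ (J m) ^ N, ∃ a : A, y • p = algebraMap A (P m B) a ∧
      algebraMap A (B i) a = 0 := by
    intro y hy
    obtain ⟨a, ha⟩ := hN y hy
    refine ⟨a, ha.symm, ?_⟩
    have h1 : (algebraMap A (P m B) a).2 i = (y • p).2 i := by rw [ha]
    rw [snd_apply_algebraMap] at h1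
    rw [h1, Prod.smul_snd, Pi.smul_apply, hp, smul_zero]
  refine Prod.ext ?_ ?_
  · funext M
    obtain ⟨y, hy, hyM⟩ := exists_J_notMem m M N
    obtain ⟨w, hw, hwM⟩ := exists_pow_notMem (m i) M.1.asIdeal (M.2 i) n
    obtain ⟨a, ha, hai⟩ := key y hy
    have h1 : s * w * a = 0 := hker a hai w hw
    have h2 : y • p.1 M = algebraMap A (Localization.AtPrime M.1.asIdeal) a := by
      have := congrArg (fun q => q.1 M) ha
      simpa using this
    have hu := (isUnit_algebraMap_Oth m M hwM).mul (isUnit_algebraMap_Oth m M hyM)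
    show (e * s) • p.1 M = 0
    apply (hu.mul_right_eq_zero).mp
    rw [Algebra.smul_def] at h2 ⊢
    calc algebraMap A _ w * algebraMap A _ y * (algebraMap A _ (e * s) * p.1 M)
        = algebraMap A (Localization.AtPrime M.1.asIdeal) (e * s * w) *
            (algebraMap A _ y * p.1 M) := by simp only [map_mul]; ring
      _ = algebraMap A (Localization.AtPrime M.1.asIdeal) (e * (s * w * a)) := by
          rw [h2, ← map_mul]; congr 1; ring
      _ = 0 := by rw [h1, mul_zero, map_zero]
  · funext j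
    show (e * s) • p.2 j = 0
    by_cases hji : j = i
    · subst hji; rw [hp, smul_zero]
    · have hne : m i ≠ m j := fun h => hji (hinj h).symm
      obtain ⟨w, hw, hwj⟩ := exists_pow_notMem (m i) (m j) hne n
      obtain ⟨u, hu, huj⟩ := exists_pow_notMem (m i) (m j) hne N
      obtain ⟨a, ha, hai⟩ := key (e * u) (e_mul_mem m i N heI hu)
      have h1 : s * w * a = 0 := hker a hai w hw
      have h2 : (e * u) • p.2 j = algebraMap A (B j) a := by
        have := congrArg (fun q => q.2 j) ha
        simpa using this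
      have hunit := (isUnit_algebraMap_B m B j hwj).mul (isUnit_algebraMap_B m B j huj)
      apply (hunit.mul_right_eq_zero).mp
      rw [Algebra.smul_def] at h2 ⊢
      calc algebraMap A _ w * algebraMap A _ u * (algebraMap A _ (e * s) * p.2 j)
          = algebraMap A (B j) (s * w) * (algebraMap A _ (e * u) * p.2 j) := by
            simp only [map_mul]; ring
        _ = algebraMap A (B j) (s * w * a) := by rw [h2, ← map_mul]
        _ = 0 := by rw [h1, map_zero]

/-- surjectivity part of the localization statement. -/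
lemma loc_surj {n : ℕ} (h : Hyp m B n) (i : Fin r) (b : B i) :
    ∃ p ∈ Cring m B, ∃ s ∉ m i, p.2 i = s • b := by
  classical
  obtain ⟨t, ht, hcok⟩ := h.coker i b
  choose! a ha using hcok
  obtain ⟨s, hs, hker⟩ := h.ker i
  obtain ⟨e, heI, hei⟩ := exists_e m hinj i n
  have hJle : (J m) ^ n ≤ (m i) ^ n := Ideal.pow_right_mono (J_le m i) n
  -- the d-relation
  have hd : ∀ y ∈ (m i) ^ n, ∀ y' ∈ (m i) ^ n, ∀ w ∈ (m i) ^ n,
      s * w * (y * a y' - y' * a y) = 0 := by
    intro y hy y' hy' w hw
    refine hker _ ?_ w hw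
    rw [map_sub, map_mul, map_mul, ← ha y hy, ← ha y' hy', ← Algebra.smul_def, ← Algebra.smul_def,
      smul_comm y y', sub_self]
  -- choices
  have hyM : ∀ M : Oth m, ∃ y ∈ (J m) ^ n, y ∉ M.1.asIdeal := fun M => exists_J_notMem m M n
  choose yM hyM1 hyM2 using hyM
  have hu : ∀ j, j ≠ i → ∃ u ∈ (m i) ^ n, u ∉ m j := fun j hji =>
    exists_pow_notMem (m i) (m j) (fun h => hji (hinj h).symm) n
  choose! u hu1 hu2 using hu
  obtain ⟨p, hp⟩ : ∃ p : P m B, p =
      (fun M => algebraMap A (Localization.AtPrime M.1.asIdeal) (s * (e * a (yM M))) *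
          Ring.inverse (algebraMap A (Localization.AtPrime M.1.asIdeal) (yM M)),
        Function.update (fun j => algebraMap A (B j) (s * a (e * u j)) *
          Ring.inverse (algebraMap A (B j) (u j))) i ((s * e) • t • b)) := ⟨_, rfl⟩
  have hpi : p.2 i = (s * e) • t • b := by rw [hp]; simp
  have main : ∀ y ∈ (J m) ^ n, y • p = algebraMap A (P m B) (s * (e * a y)) := by
    intro y hy
    refine Prod.ext ?_ ?_
    · funext M
      rw [fst_apply_algebraMap]
      show y • p.1 M = _
      rw [hp]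
      obtain ⟨w, hw, hwM⟩ := exists_pow_notMem (m i) M.1.asIdeal (M.2 i) n
      refine cancel_aux (isUnit_algebraMap_Oth m M (hyM2 M)) (isUnit_algebraMap_Oth m M hwM) ?_
      have := hd y (hJle hy) (yM M) (hJle (hyM1 M)) w hw
      calc s * w * (y * (e * a (yM M)) - yM M * (e * a y))
          = e * (s * w * (y * a (yM M) - yM M * a y)) := by ring
        _ = 0 := by rw [this, mul_zero]
    · funext j
      rw [snd_apply_algebraMap]
      show y • p.2 j = _
      by_cases hji : j = i
      · subst hji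
        rw [hpi, smul_comm y (s * e), ha y (hJle hy), Algebra.smul_def, ← map_mul, mul_assoc]
      · rw [hp]
        simp only [Function.update_of_ne hji]
        refine cancel_aux (isUnit_algebraMap_B m B j (hu2 j hji))
          (isUnit_algebraMap_B m B j (hu2 j hji)) ?_
        have := hd y (hJle hy) (e * u j) (hJle (e_mul_mem m i n heI (hu1 j hji))) (u j) (hu1 j hji)
        calc s * u j * (y * a (e * u j) - u j * (e * a y))
            = s * u j * (y * a (e * u j) - e * u j * a y) := by ring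
          _ = 0 := this
  refine ⟨p, ⟨n, fun y hy => ⟨_, (main y hy).symm⟩⟩, s * e * t, ?_, ?_⟩
  · intro hmem
    rcases (hm i).isPrime.mem_or_mem hmem with h1 | h1
    · rcases (hm i).isPrime.mem_or_mem h1 with h2 | h2
      · exact hs h2
      · exact hei h2
    · exact ht h1
  · rw [hpi, smul_smul]

variable (m B) in
/-- projection of the glued ring to `B i`. -/
noncomputable def evalB (i : Fin r) : Cring m B →ₐ[A] B i :=
  ((Pi.evalAlgHom A B i).comp (AlgHom.snd A _ _)).comp (Cring m B).val

omit hinj in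
lemma evalB_apply (i : Fin r) (c : Cring m B) : evalB m B i c = c.1.2 i := rfl

theorem isLocalization_evalB {n : ℕ} (h : Hyp m B n) (i : Fin r) :
    letI : Algebra (Cring m B) (B i) := (evalB m B i).toRingHom.toAlgebra
    IsLocalization (Algebra.algebraMapSubmonoid (Cring m B) (m i).primeCompl) (B i) := by
  letI : Algebra (Cring m B) (B i) := (evalB m B i).toRingHom.toAlgebra
  have halg : ∀ c : Cring m B, algebraMap (Cring m B) (B i) c = c.1.2 i := fun c => rfl
  refine (isLocalization_iff _ _).mpr ⟨?_, ?_, ?_⟩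
  · rintro ⟨y, s, hs, rfl⟩
    show IsUnit (algebraMap (Cring m B) (B i) (algebraMap A (Cring m B) s))
    rw [halg]
    exact isUnit_algebraMap_B m B i hs
  · intro z
    obtain ⟨p, hpC, s, hs, hps⟩ := loc_surj hinj h i z
    refine ⟨(⟨p, hpC⟩, ⟨algebraMap A (Cring m B) s, s, hs, rfl⟩), ?_⟩
    show z * algebraMap (Cring m B) (B i) (algebraMap A (Cring m B) s) =
      algebraMap (Cring m B) (B i) ⟨p, hpC⟩
    rw [halg, halg]
    show z * algebraMap A (B i) s = p.2 i
    rw [hps, Algebra.smul_def, mul_comm]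
  · intro x y hxy
    rw [halg, halg] at hxy
    obtain ⟨s, hs, hsp⟩ := loc_inj hinj h i (x - y).1 (x - y).2 (by
      show x.1.2 i - y.1.2 i = 0
      rw [hxy, sub_self])
    refine ⟨⟨algebraMap A (Cring m B) s, s, hs, rfl⟩, ?_⟩
    show algebraMap A (Cring m B) s * x = algebraMap A (Cring m B) s * y
    rw [← Algebra.smul_def, ← Algebra.smul_def, ← sub_eq_zero, ← smul_sub]
    exact Subtype.ext hsp

theorem nonempty_equiv {n : ℕ} (h : Hyp m B n) (i : Fin r) :
    Nonempty ((Localization.AtPrime (m i)) ⊗[A] (Cring m B) ≃ₐ[Localization.AtPrime (m i)] B i) := by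
  letI : Algebra (Cring m B) (B i) := (evalB m B i).toRingHom.toAlgebra
  haveI : IsScalarTower A (Cring m B) (B i) :=
    IsScalarTower.of_algebraMap_eq (fun a => ((evalB m B i).commutes a).symm)
  haveI := isLocalization_evalB hinj h i
  haveI h1 : Algebra.IsPushout A (Cring m B) (Localization.AtPrime (m i)) (B i) :=
    Algebra.isPushout_of_isLocalization (m i).primeCompl (Localization.AtPrime (m i))
      (Cring m B) (B i)
  haveI : Algebra.IsPushout A (Localization.AtPrime (m i)) (Cring m B) (B i) :=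
    Algebra.IsPushout.symm h1
  exact ⟨Algebra.IsPushout.equiv A (Localization.AtPrime (m i)) (Cring m B) (B i)⟩

omit hinj in
variable (m) in
lemma ideal_eq_top (𝔟 : Ideal A) (h1 : ∀ i, ∃ s ∈ 𝔟, s ∉ m i)
    (h2 : ∀ M : Oth m, ∃ s ∈ 𝔟, s ∉ M.1.asIdeal) : 𝔟 = ⊤ := by
  by_contra hne
  obtain ⟨M, hM, hle⟩ := Ideal.exists_le_maximal 𝔟 hne
  by_cases hex : ∃ i, m i = M
  · obtain ⟨i, rfl⟩ := hex
    obtain ⟨s, hs, hsn⟩ := h1 i
    exact hsn (hle hs)
  · push Not at hex
    obtain ⟨s, hs, hsn⟩ := h2 ⟨⟨M, hM⟩, hex⟩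
    exact hsn (hle hs)

omit hinj in
lemma ker_killed {n : ℕ} (h : Hyp m B n) (x : A) (hx : algebraMap A (Cring m B) x = 0) (y : A)
    (hy : y ∈ (J m) ^ n) : y * x = 0 := by
  have hx' : algebraMap A (P m B) x = 0 := congrArg Subtype.val hx
  have htop := ideal_eq_top m (LinearMap.ker (LinearMap.toSpanSingleton A A (y * x))) ?_ ?_
  · have : (1 : A) ∈ LinearMap.ker (LinearMap.toSpanSingleton A A (y * x)) := by
      rw [htop]; trivial
    simpa using this
  · intro i
    obtain ⟨s, hs, hker⟩ := h.ker i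
    refine ⟨s, ?_, hs⟩
    have hxi : algebraMap A (B i) x = 0 := by
      rw [← snd_apply_algebraMap m B x i, hx']; rfl
    have := hker x hxi y (Ideal.pow_right_mono (J_le m i) n hy)
    rw [LinearMap.mem_ker, LinearMap.toSpanSingleton_apply, smul_eq_mul, ← mul_assoc, this]
  · intro M
    have hxM : algebraMap A (Localization.AtPrime M.1.asIdeal) x = 0 := by
      rw [← fst_apply_algebraMap m B x M, hx']; rfl
    rw [IsLocalization.map_eq_zero_iff M.1.asIdeal.primeCompl] at hxM
    obtain ⟨s, hs⟩ := hxM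
    refine ⟨s, ?_, s.2⟩
    rw [LinearMap.mem_ker, LinearMap.toSpanSingleton_apply, smul_eq_mul, mul_left_comm, hs,
      mul_zero]

/-- local criterion for membership in a submodule containing the image of `A`. -/
lemma mem_of_local {n : ℕ} (h : Hyp m B n) (N : Submodule A (Cring m B))
    (hN : LinearMap.range (Algebra.linearMap A (Cring m B)) ≤ N) (c : Cring m B)
    (hloc : ∀ i, ∃ q ∈ N, ∃ t ∉ m i, t • evalB m B i c = evalB m B i q) : c ∈ N := by
  have htop := ideal_eq_top m (N.colon {c}) ?_ ?_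
  · have : (1 : A) ∈ N.colon {c} := by rw [htop]; trivial
    rw [Submodule.mem_colon_singleton, one_smul] at this
    exact this
  · intro i
    obtain ⟨q, hq, t, ht, htq⟩ := hloc i
    obtain ⟨s, hs, hsp⟩ := loc_inj hinj h i (t • c - q).1 (t • c - q).2 (by
      have : evalB m B i (t • c - q) = 0 := by rw [map_sub, map_smul, htq, sub_self]
      exact this)
    have hsp' : s • (t • c - q) = 0 := Subtype.ext hsp
    refine ⟨s * t, ?_, fun hmem => ((hm i).isPrime.mem_or_mem hmem).elim hs ht⟩
    rw [Submodule.mem_colon_singleton]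
    have : (s * t) • c = s • q := by
      rw [smul_sub, sub_eq_zero] at hsp'
      rw [← hsp', smul_smul]
    rw [this]
    exact N.smul_mem s hq
  · intro M
    obtain ⟨K, hK⟩ := c.2
    obtain ⟨y, hy, hyM⟩ := exists_J_notMem m M K
    obtain ⟨a, ha⟩ := hK y hy
    refine ⟨y, ?_, hyM⟩
    rw [Submodule.mem_colon_singleton]
    refine hN ⟨a, ?_⟩
    exact Subtype.ext ha

lemma mem_range_of_local {n : ℕ} (h : Hyp m B n) (c : Cring m B)
    (hloc : ∀ i, ∃ a : A, ∃ t ∉ m i, t • evalB m B i c = algebraMap A (B i) a) :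
    c ∈ (algebraMap A (Cring m B)).range := by
  have := mem_of_local hinj h (LinearMap.range (Algebra.linearMap A (Cring m B))) le_rfl c ?_
  · obtain ⟨a, ha⟩ := this
    exact ⟨a, ha⟩
  · intro i
    obtain ⟨a, t, ht, hta⟩ := hloc i
    exact ⟨algebraMap A (Cring m B) a, ⟨a, rfl⟩, t, ht, by rw [hta, AlgHom.commutes]⟩

lemma coker_killed {n : ℕ} (h : Hyp m B n) (c : Cring m B) (y : A) (hy : y ∈ (J m) ^ n) :
    y • c ∈ (algebraMap A (Cring m B)).range := by
  refine mem_range_of_local hinj h _ fun i => ?_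
  obtain ⟨t, ht, hcok⟩ := h.coker i (evalB m B i c)
  obtain ⟨a, ha⟩ := hcok y (Ideal.pow_right_mono (J_le m i) n hy)
  exact ⟨a, t, ht, by rw [map_smul, smul_comm, ha]⟩

lemma surjective_of_surjective {n : ℕ} (h : Hyp m B n)
    (hs : ∀ i, Function.Surjective (algebraMap (Localization.AtPrime (m i)) (B i))) :
    Function.Surjective (algebraMap A (Cring m B)) := by
  intro c
  have : c ∈ (algebraMap A (Cring m B)).range := by
    refine mem_range_of_local hinj h c fun i => ?_
    obtain ⟨l, hl⟩ := hs i (evalB m B i c)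
    obtain ⟨⟨a, t⟩, hat⟩ := IsLocalization.surj (m i).primeCompl l
    refine ⟨a, t, t.2, ?_⟩
    rw [← hl, IsScalarTower.algebraMap_apply A (Localization.AtPrime (m i)) (B i), ← hat,
      map_mul, Algebra.smul_def, mul_comm,
      IsScalarTower.algebraMap_apply A (Localization.AtPrime (m i)) (B i)]
  exact this

omit hinj in
lemma injective_of_injective
    (hs : ∀ i, Function.Injective (algebraMap (Localization.AtPrime (m i)) (B i))) :
    Function.Injective (algebraMap A (Cring m B)) := by
  rw [injective_iff_map_eq_zero]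
  intro x hx
  have hx' : algebraMap A (P m B) x = 0 := congrArg Subtype.val hx
  have htop := ideal_eq_top m (LinearMap.ker (LinearMap.toSpanSingleton A A x)) ?_ ?_
  · have : (1 : A) ∈ LinearMap.ker (LinearMap.toSpanSingleton A A x) := by
      rw [htop]; trivial
    simpa using this
  · intro i
    have hxi : algebraMap A (B i) x = 0 := by
      rw [← snd_apply_algebraMap m B x i, hx']; rfl
    rw [IsScalarTower.algebraMap_apply A (Localization.AtPrime (m i)) (B i)] at hxi
    have hxl : algebraMap A (Localization.AtPrime (m i)) x = 0 :=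
      hs i (by rw [hxi, map_zero])
    rw [IsLocalization.map_eq_zero_iff (m i).primeCompl] at hxl
    obtain ⟨s, hs'⟩ := hxl
    exact ⟨s, by rw [LinearMap.mem_ker, LinearMap.toSpanSingleton_apply, smul_eq_mul, hs'], s.2⟩
  · intro M
    have hxM : algebraMap A (Localization.AtPrime M.1.asIdeal) x = 0 := by
      rw [← fst_apply_algebraMap m B x M, hx']; rfl
    rw [IsLocalization.map_eq_zero_iff M.1.asIdeal.primeCompl] at hxM
    obtain ⟨s, hs'⟩ := hxM
    exact ⟨s, by rw [LinearMap.mem_ker, LinearMap.toSpanSingleton_apply, smul_eq_mul, hs'], s.2⟩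

lemma finite_of_finite {n : ℕ} (h : Hyp m B n)
    (hfin : ∀ i, Module.Finite (Localization.AtPrime (m i)) (B i)) :
    Module.Finite A (Cring m B) := by
  classical
  have hG : ∀ i, ∃ G : Finset (B i), Submodule.span (Localization.AtPrime (m i)) (G : Set (B i)) = ⊤ :=
    fun i => (hfin i).fg_top
  choose G hGtop using hG
  have hlift : ∀ i (b : B i), ∃ q : Cring m B, ∃ s ∉ m i, evalB m B i q = s • b := by
    intro i b
    obtain ⟨p, hpC, s, hs, hps⟩ := loc_surj hinj h i b
    exact ⟨⟨p, hpC⟩, s, hs, hps⟩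
  choose lift sden hsden hlift' using hlift
  obtain ⟨N, hNdef⟩ : ∃ N : Submodule A (Cring m B), N =
      LinearMap.range (Algebra.linearMap A (Cring m B)) ⊔
        ⨆ i, Submodule.span A ((lift i) '' (G i : Set (B i))) := ⟨_, rfl⟩
  have hNfg : N.FG := by
    rw [hNdef]
    refine Submodule.FG.sup ?_ ?_
    · rw [LinearMap.range_eq_map]
      exact Submodule.FG.map _ (Module.Finite.fg_top (R := A) (M := A))
    · refine Submodule.fg_iSup _ fun i => ?_
      exact Submodule.fg_span ((G i).finite_toSet.image _)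
  have hrange : LinearMap.range (Algebra.linearMap A (Cring m B)) ≤ N := by
    rw [hNdef]; exact le_sup_left
  have hliftN : ∀ i, ∀ b ∈ G i, lift i b ∈ N := by
    intro i b hb
    rw [hNdef]
    refine Submodule.mem_sup_right ?_
    refine Submodule.mem_iSup_of_mem i (Submodule.subset_span ⟨b, hb, rfl⟩)
  have key : ∀ i (x : B i), ∃ q ∈ N, ∃ t ∉ m i, t • x = evalB m B i q := by
    intro i x
    have hx : x ∈ Submodule.span (Localization.AtPrime (m i)) (G i : Set (B i)) := by
      rw [hGtop i]; trivial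
    induction hx using Submodule.span_induction with
    | mem b hb => exact ⟨lift i b, hliftN i b hb, sden i b, hsden i b, (hlift' i b).symm⟩
    | zero => exact ⟨0, N.zero_mem, 1, (Ideal.ne_top_iff_one _).mp (hm i).ne_top, by simp⟩
    | add x y _ _ hx hy =>
      obtain ⟨q₁, hq₁, t₁, ht₁, e₁⟩ := hx
      obtain ⟨q₂, hq₂, t₂, ht₂, e₂⟩ := hy
      refine ⟨t₂ • q₁ + t₁ • q₂, N.add_mem (N.smul_mem _ hq₁) (N.smul_mem _ hq₂), t₁ * t₂,
        fun hmem => ((hm i).isPrime.mem_or_mem hmem).elim ht₁ ht₂, ?_⟩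
      rw [map_add, map_smul, map_smul, ← e₁, ← e₂, smul_add, smul_smul, smul_smul, mul_comm t₂ t₁]
    | smul l x _ hx =>
      obtain ⟨q, hq, t, ht, e⟩ := hx
      obtain ⟨⟨a, t₀⟩, hat⟩ := IsLocalization.surj (m i).primeCompl l
      refine ⟨a • q, N.smul_mem _ hq, (t₀ : A) * t,
        fun hmem => ((hm i).isPrime.mem_or_mem hmem).elim t₀.2 ht, ?_⟩
      have h1 : (t₀ : A) • (l • x) = a • x := by
        rw [← smul_assoc, Algebra.smul_def (t₀ : A) l, mul_comm, hat, algebraMap_smul]
      rw [map_smul, ← e, mul_comm, mul_smul, h1, smul_comm]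
  have htop : N = ⊤ := by
    rw [eq_top_iff]
    intro c _
    exact mem_of_local hinj h N hrange c fun i => by
      obtain ⟨q, hq, t, ht, e⟩ := key i (evalB m B i c)
      exact ⟨q, hq, t, ht, e⟩
  exact ⟨htop ▸ hNfg⟩

omit hinj in
variable (m B) in
theorem hyp_of [IsNoetherianRing A]
    (hker : ∀ i, ∃ n : ℕ, ∀ x ∈ RingHom.ker (algebraMap (Localization.AtPrime (m i)) (B i)),
      ∀ y ∈ Ideal.map (algebraMap A (Localization.AtPrime (m i))) (m i) ^ n, y * x = 0)
    (hcoker : ∀ i, ∃ n : ℕ, ∀ y ∈ Ideal.map (algebraMap A (Localization.AtPrime (m i))) (m i) ^ n,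
      ∀ b : B i, y • b ∈ (algebraMap (Localization.AtPrime (m i)) (B i)).range) :
    ∃ n, Hyp m B n := by
  classical
  choose nk hk using hker
  choose nc hc using hcoker
  obtain ⟨N, hN⟩ : ∃ N : ℕ, N = ∑ i, (nk i + nc i) := ⟨_, rfl⟩
  have hle : ∀ i, nk i + nc i ≤ N := fun i => by
    rw [hN]
    exact Finset.single_le_sum (f := fun i => nk i + nc i) (fun _ _ => Nat.zero_le _)
      (Finset.mem_univ i)
  have hle_k : ∀ i, nk i ≤ N := fun i => (Nat.le_add_right _ _).trans (hle i)
  have hle_c : ∀ i, nc i ≤ N := fun i => (Nat.le_add_left _ _).trans (hle i)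
  have map_mem : ∀ i (y : A) (k : ℕ), y ∈ (m i) ^ N → k ≤ N →
      algebraMap A (Localization.AtPrime (m i)) y ∈
        Ideal.map (algebraMap A (Localization.AtPrime (m i))) (m i) ^ k := by
    intro i y k hy hk'
    rw [← Ideal.map_pow]
    exact Ideal.mem_map_of_mem _ (Ideal.pow_le_pow_right hk' hy)
  refine ⟨N, ⟨?_, ?_⟩⟩
  · intro i
    obtain ⟨s₀, hs₀, hkill⟩ := exists_kill_ker (m i).primeCompl
    refine ⟨s₀, hs₀, fun a ha y hy => ?_⟩
    have h1 : algebraMap A (Localization.AtPrime (m i)) a ∈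
        RingHom.ker (algebraMap (Localization.AtPrime (m i)) (B i)) := by
      rw [RingHom.mem_ker, ← IsScalarTower.algebraMap_apply]; exact ha
    have h2 := hk i _ h1 _ (map_mem i y (nk i) hy (hle_k i))
    rw [mul_assoc]
    exact hkill (y * a) (by rw [map_mul]; exact h2)
  · intro i b
    obtain ⟨G, hG⟩ := (IsNoetherian.noetherian ((m i) ^ N))
    have h1 : ∀ g ∈ G, ∃ t : (m i).primeCompl, ∃ a : A,
        (t : A) • g • b = algebraMap A (B i) a := by
      intro g hg
      have hgm : g ∈ (m i) ^ N := by rw [← hG]; exact Submodule.subset_span hg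
      obtain ⟨l, hl⟩ := hc i _ (map_mem i g (nc i) hgm (hle_c i)) b
      obtain ⟨⟨a, t⟩, hat⟩ := IsLocalization.surj (m i).primeCompl l
      refine ⟨t, a, ?_⟩
      rw [← algebraMap_smul (Localization.AtPrime (m i)) g b, ← hl, Algebra.smul_def,
        IsScalarTower.algebraMap_apply A (Localization.AtPrime (m i)) (B i), ← map_mul, mul_comm,
        hat, ← IsScalarTower.algebraMap_apply]
    choose! τ α hτ using h1
    refine ⟨∏ g ∈ G, (τ g : A), Submonoid.prod_mem (m i).primeCompl (fun g _ => (τ g).2), ?_⟩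
    intro y hy
    have hy' : y ∈ Submodule.span A (G : Set A) := by rw [hG]; exact hy
    clear hy
    induction hy' using Submodule.span_induction with
    | mem g hg =>
      refine ⟨(∏ g' ∈ G.erase g, (τ g' : A)) * α g, ?_⟩
      rw [← Finset.mul_prod_erase G _ hg, map_mul, ← hτ g hg, ← Algebra.smul_def, smul_smul,
        smul_smul, smul_smul]
      congr 1; ring
    | zero => exact ⟨0, by simp⟩
    | add x y _ _ hx hy =>
      obtain ⟨a₁, h₁⟩ := hx
      obtain ⟨a₂, h₂⟩ := hy
      exact ⟨a₁ + a₂, by rw [add_smul, h₁, h₂, map_add]⟩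
    | smul c x _ hx =>
      obtain ⟨a, ha⟩ := hx
      exact ⟨c * a, by rw [smul_eq_mul, mul_smul, ha, map_mul, Algebra.smul_def]⟩

end Main

end Groth.Agent.Lib.Helper34.GlueMax
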