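import Mathlib
import Groth.Agent.Lib.Helper34.ASTorsA

/-!
# Galois descent for algebraic torsors under a finite group (group in `Type u`)

For a finite étale faithfully flat `A`-algebra `B` with an action `σ` of a finite group `G` by
`A`-algebra maps which is simply transitive on geometric points:
* `hmap_bijective`: `B ⊗[A] B → (G → B)`, `b ⊗ b' ↦ (b * σ g b')_g` is bijective;
* `exists_of_invariant`: the invariants are `A`;
* `exists_trace_eq_one`: the trace `∑ g, σ g` hits `1`.
-/

set_option autoImplicit false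

namespace Groth.Agent.Lib.Helper34.KumTors

open TensorProduct

universe u

section

variable {A B : Type u} [CommRing A] [CommRing B] [Algebra A B]
variable {G : Type u} [Group G] [Fintype G]

/-- Algebraic torsor data. -/
structure IsAlgTorsor (σ : G → (B →ₐ[A] B)) : Prop where
  one : σ 1 = AlgHom.id A B
  mul : ∀ g g', σ (g * g') = (σ g).comp (σ g')
  torsor : ∀ (Ω : Type u) [Field Ω] [IsAlgClosed Ω] [Algebra A Ω] (s t : B →ₐ[A] Ω),
    ∃! g, s.comp (σ g) = t

variable (σ : G → (B →ₐ[A] B))

/-- The torsor map `B ⊗[A] B → (G → B)`. -/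
noncomputable def hmap : B ⊗[A] B →ₐ[B] (G → B) :=
  Algebra.TensorProduct.lift (Algebra.ofId B (G → B)) (AlgHom.pi σ)
    (fun _ _ => Commute.all _ _)

theorem hmap_tmul (b b' : B) (g : G) : hmap σ (b ⊗ₜ b') g = b * σ g b' := by
  simp [hmap, Algebra.ofId_apply]

theorem tensor_ext {S T : Type*} [CommRing S] [Algebra A S] [CommRing T] [Algebra S T]
    (z z' : S ⊗[A] B →ₐ[S] T) (h : ∀ b, z (1 ⊗ₜ b) = z' (1 ⊗ₜ b)) : z = z' := by
  apply AlgHom.ext
  intro x
  induction x using TensorProduct.induction_on with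
  | zero => simp
  | tmul ω b =>
    have : ω ⊗ₜ[A] b = ω • ((1 : S) ⊗ₜ[A] b) := by
      rw [TensorProduct.smul_tmul', smul_eq_mul, mul_one]
    rw [this, map_smul, map_smul, h]
  | add x y hx hy => rw [map_add, map_add, hx, hy]

variable {σ}

theorem hmap_bijective [Module.Finite A B] [Algebra.Etale A B] (hσ : IsAlgTorsor σ) :
    Function.Bijective (hmap σ) := by
  apply Groth.Agent.Lib.Helper34.ASTors.bijective_of_points
  intro Ω _ _ _
  letI : Algebra A Ω := ((algebraMap B Ω).comp (algebraMap A B)).toAlgebra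
  haveI : IsScalarTower A B Ω := IsScalarTower.of_algebraMap_eq fun _ => rfl
  have hpt : ∀ y : (G → B) →ₐ[B] Ω, ∃ g, ∀ x, y x = algebraMap B Ω (x g) := fun y => Groth.Agent.Lib.Helper34.ASTors.pi_point y
  constructor
  · intro y y' hyy
    obtain ⟨g, hg⟩ := hpt y
    obtain ⟨g', hg'⟩ := hpt y'
    have hgg : g = g' := by
      have h1 : (IsScalarTower.toAlgHom A B Ω).comp (σ g) =
          (IsScalarTower.toAlgHom A B Ω).comp (σ g') := by
        ext b
        have := congrArg (fun w => w (1 ⊗ₜ b)) hyy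
        simp only [AlgHom.comp_apply] at this
        rw [hg, hg', hmap_tmul, hmap_tmul, one_mul, one_mul] at this
        simpa using this
      exact (hσ.torsor Ω (IsScalarTower.toAlgHom A B Ω)
        ((IsScalarTower.toAlgHom A B Ω).comp (σ g'))).unique h1 rfl
    subst hgg
    ext x
    rw [hg, hg']
  · intro w
    obtain ⟨g, hg, -⟩ := hσ.torsor Ω (IsScalarTower.toAlgHom A B Ω)
      ((w.restrictScalars A).comp Algebra.TensorProduct.includeRight)
    refine ⟨(Algebra.ofId B Ω).comp (Pi.evalAlgHom B (fun _ => B) g), ?_⟩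
    apply tensor_ext
    intro b
    have := congrArg (fun w => w b) hg
    simp only [AlgHom.comp_apply] at this ⊢
    simp only [Pi.evalAlgHom_apply, hmap_tmul, one_mul, Algebra.ofId_apply]
    simpa using this

theorem exists_of_invariant [Module.Finite A B] [Algebra.Etale A B] [Module.FaithfullyFlat A B]
    (hσ : IsAlgTorsor σ) (b : B) (hb : ∀ g, σ g b = b) : ∃ a, algebraMap A B a = b := by
  have h0 : hmap σ (b ⊗ₜ[A] 1 - 1 ⊗ₜ[A] b) = 0 := by
    funext g
    rw [map_sub, Pi.sub_apply, hmap_tmul, hmap_tmul, map_one, mul_one, one_mul, hb, sub_self]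
    rfl
  have h1 : b ⊗ₜ[A] (1 : B) - 1 ⊗ₜ[A] b = 0 := (hmap_bijective hσ).1 (by rw [h0, map_zero])
  have h2 := (Algebra.IsEffective.of_faithfullyFlat A B b).mp
    ((Algebra.TensorProduct.includeLeftSubRight_apply (R := A) b).trans h1)
  obtain ⟨a, ha⟩ := h2
  exact ⟨a, ha⟩

theorem sum_invariant (hσ : IsAlgTorsor σ) (b : B) (g : G) :
    σ g (∑ g', σ g' b) = ∑ g', σ g' b := by
  rw [map_sum]
  have : ∀ g', σ g (σ g' b) = σ (g * g') b := fun g' => by rw [hσ.mul]; rfl
  simp_rw [this]
  exact Fintype.sum_equiv (Equiv.mulLeft g) _ _ (fun _ => rfl)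

theorem exists_trace_eq_one [Module.Finite A B] [Algebra.Etale A B] [Module.FaithfullyFlat A B]
    (hσ : IsAlgTorsor σ) : ∃ c : B, ∑ g, σ g c = 1 := by
  classical
  have inj : Function.Injective (algebraMap A B) := FaithfulSMul.algebraMap_injective A B
  have hex : ∀ b, ∃ a, algebraMap A B a = ∑ g, σ g b :=
    fun b => exists_of_invariant hσ _ (fun g => sum_invariant hσ b g)
  choose nA hnA using hex
  let NA : B →ₗ[A] A :=
    { toFun := nA
      map_add' := fun x y => inj (by
        rw [map_add, hnA, hnA, hnA]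
        simp only [map_add, Finset.sum_add_distrib])
      map_smul' := fun r x => inj (by
        rw [hnA, RingHom.id_apply, smul_eq_mul, map_mul, hnA, Finset.mul_sum]
        refine Finset.sum_congr rfl fun g _ => ?_
        rw [map_smul, Algebra.smul_def]) }
  have hNA : ∀ b, algebraMap A B (NA b) = ∑ g, σ g b := hnA
  have key : ∀ x : B ⊗[A] B, ∑ g, hmap σ x g ∈ Ideal.map (algebraMap A B) (LinearMap.range NA) := by
    intro x
    induction x using TensorProduct.induction_on with
    | zero => simp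
    | tmul b b' =>
      have : ∑ g, hmap σ (b ⊗ₜ[A] b') g = b * algebraMap A B (NA b') := by
        rw [hNA, Finset.mul_sum]
        exact Finset.sum_congr rfl fun g _ => hmap_tmul σ b b' g
      rw [this]
      exact Ideal.mul_mem_left _ _ (Ideal.mem_map_of_mem _ ⟨b', rfl⟩)
    | add x y hx hy =>
      have : ∑ g, hmap σ (x + y) g = ∑ g, hmap σ x g + ∑ g, hmap σ y g := by
        rw [map_add]
        simp only [Pi.add_apply, Finset.sum_add_distrib]
      rw [this]
      exact Ideal.add_mem _ hx hy
  obtain ⟨e₀, he₀⟩ := (hmap_bijective hσ).2 (Pi.single 1 1)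
  have h1 : (1 : B) ∈ Ideal.map (algebraMap A B) (LinearMap.range NA) := by
    have := key e₀
    rw [he₀] at this
    simpa using this
  have h2 : Ideal.map (algebraMap A B) (LinearMap.range NA) = ⊤ := (Ideal.eq_top_iff_one _).mpr h1
  have h3 : (LinearMap.range NA : Ideal A) = ⊤ := by
    rw [← Ideal.comap_map_eq_self_of_faithfullyFlat (B := B) (LinearMap.range NA : Ideal A), h2,
      Ideal.comap_top]
  have h4 : (1 : A) ∈ (LinearMap.range NA : Ideal A) := by rw [h3]; trivial
  obtain ⟨c, hc⟩ := h4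
  refine ⟨c, ?_⟩
  rw [← hNA, hc, map_one]

end

end Groth.Agent.Lib.Helper34.KumTors
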