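import Mathlib
import Groth.Agent.Lib.Helper34.KumA

/-!
# Hilbert 90 for units of an algebraic torsor over a local ring

For an algebraic torsor `(B, σ)` under a finite group `G` over a local ring `A` in which `|G|` is
invertible, and a character `χ : G →* Aˣ`, there is a unit `t` of `B` with `σ g t = χ g • t`.
-/

set_option autoImplicit false

namespace Groth.Agent.Lib.Helper34.KumTors

open TensorProduct

universe u

section

variable {A B : Type u} [CommRing A] [CommRing B] [Algebra A B]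
variable {G : Type u} [Group G] [Fintype G]

/-- `χ`-eigen elements. -/
def IsEigen (σ : G → (B →ₐ[A] B)) (χ : G →* Aˣ) (t : B) : Prop :=
  ∀ g, σ g t = ((χ g : Aˣ) : A) • t

variable {σ : G → (B →ₐ[A] B)}

theorem proj_isEigen (hσ : IsAlgTorsor σ) (χ : G →* Aˣ) (b : B) :
    IsEigen σ χ (∑ g, (((χ g)⁻¹ : Aˣ) : A) • σ g b) := by
  intro h
  rw [map_sum, Finset.smul_sum]
  have h1 : ∀ g, σ h ((((χ g)⁻¹ : Aˣ) : A) • σ g b) = (((χ g)⁻¹ : Aˣ) : A) • σ (h * g) b := by
    intro g
    rw [map_smul, hσ.mul]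
    rfl
  simp_rw [h1, smul_smul]
  refine Fintype.sum_equiv (Equiv.mulLeft h) _ _ (fun g => ?_)
  have h2 : (χ g)⁻¹ = χ h * (χ (h * g))⁻¹ := by
    rw [map_mul, mul_inv_rev, mul_comm, inv_mul_cancel_right]
  show (((χ g)⁻¹ : Aˣ) : A) • σ (h * g) b = (((χ h : Aˣ) : A) * (((χ (h * g))⁻¹ : Aˣ) : A)) • σ (h * g) b
  rw [← Units.val_mul, ← h2]

theorem span_eigen_eq_top [Module.Finite A B] [Algebra.Etale A B] (hσ : IsAlgTorsor σ)
    (χ : G →* Aˣ) (hn : IsUnit ((Fintype.card G : ℕ) : A)) :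
    Ideal.span {t : B | IsEigen σ χ t} = ⊤ := by
  have key : ∀ x : B ⊗[A] B, ∑ g, (((χ g)⁻¹ : Aˣ) : A) • hmap σ x g ∈
      Ideal.span {t : B | IsEigen σ χ t} := by
    intro x
    induction x using TensorProduct.induction_on with
    | zero => simp
    | tmul b b' =>
      have : ∑ g, (((χ g)⁻¹ : Aˣ) : A) • hmap σ (b ⊗ₜ[A] b') g =
          b * ∑ g, (((χ g)⁻¹ : Aˣ) : A) • σ g b' := by
        rw [Finset.mul_sum]
        refine Finset.sum_congr rfl fun g _ => ?_
        rw [hmap_tmul, mul_smul_comm]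
      rw [this]
      exact Ideal.mul_mem_left _ _ (Ideal.subset_span (proj_isEigen hσ χ b'))
    | add x y hx hy =>
      have : ∑ g, (((χ g)⁻¹ : Aˣ) : A) • hmap σ (x + y) g =
          ∑ g, (((χ g)⁻¹ : Aˣ) : A) • hmap σ x g + ∑ g, (((χ g)⁻¹ : Aˣ) : A) • hmap σ y g := by
        rw [map_add]
        simp only [Pi.add_apply, smul_add, Finset.sum_add_distrib]
      rw [this]
      exact Ideal.add_mem _ hx hy
  obtain ⟨w, hw⟩ := (hmap_bijective hσ).2 (fun g => algebraMap A B ((χ g : Aˣ) : A))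
  have h1 := key w
  rw [hw] at h1
  have h2 : ∑ g, (((χ g)⁻¹ : Aˣ) : A) • algebraMap A B ((χ g : Aˣ) : A) =
      algebraMap A B ((Fintype.card G : ℕ) : A) := by
    have : ∀ g, (((χ g)⁻¹ : Aˣ) : A) • algebraMap A B ((χ g : Aˣ) : A) = 1 := by
      intro g
      rw [Algebra.smul_def, ← map_mul, ← Units.val_mul, inv_mul_cancel, Units.val_one, map_one]
    simp_rw [this]
    rw [Finset.sum_const, Finset.card_univ, map_natCast, nsmul_eq_mul, mul_one]
  rw [h2] at h1
  exact Ideal.eq_top_of_isUnit_mem _ h1 (hn.map (algebraMap A B))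

theorem exists_unit_eigen [IsLocalRing A] [Module.Finite A B] [Algebra.Etale A B]
    [Module.FaithfullyFlat A B] (hσ : IsAlgTorsor σ) (χ : G →* Aˣ)
    (hn : IsUnit ((Fintype.card G : ℕ) : A)) : ∃ t : B, IsUnit t ∧ IsEigen σ χ t := by
  let S : Set A := {a : A | ∃ t s : B, IsEigen σ χ t ∧ IsEigen σ χ⁻¹ s ∧ algebraMap A B a = t * s}
  have h1 := span_eigen_eq_top hσ χ hn
  have h2 := span_eigen_eq_top hσ χ⁻¹ hn
  have h3 : Ideal.map (algebraMap A B) (Ideal.span S) = ⊤ := by
    rw [eq_top_iff]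
    calc (⊤ : Ideal B) = ⊤ * ⊤ := (Ideal.mul_top _).symm
      _ = Ideal.span {t : B | IsEigen σ χ t} * Ideal.span {t : B | IsEigen σ χ⁻¹ t} := by
        rw [h1, h2]
      _ ≤ Ideal.map (algebraMap A B) (Ideal.span S) := by
        rw [Ideal.span_mul_span', Ideal.span_le]
        rintro _ ⟨t, ht, s, hs, rfl⟩
        have hinv : ∀ g, σ g (t * s) = t * s := by
          intro g
          rw [map_mul, ht g, hs g, smul_mul_smul_comm, MonoidHom.inv_apply, ← Units.val_mul,
            mul_inv_cancel, Units.val_one, one_smul]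
        obtain ⟨a, ha⟩ := exists_of_invariant hσ _ hinv
        show t * s ∈ Ideal.map (algebraMap A B) (Ideal.span S)
        rw [← ha]
        exact Ideal.mem_map_of_mem _ (Ideal.subset_span ⟨t, s, ht, hs, ha⟩)
  have h4 : Ideal.span S = ⊤ := by
    rw [← Ideal.comap_map_eq_self_of_faithfullyFlat (B := B) (Ideal.span S), h3, Ideal.comap_top]
  have h5 : ∃ a ∈ S, IsUnit a := by
    by_contra hcon
    push_neg at hcon
    have : Ideal.span S ≤ IsLocalRing.maximalIdeal A := by
      rw [Ideal.span_le]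
      intro a ha
      exact (IsLocalRing.mem_maximalIdeal a).mpr (hcon a ha)
    rw [h4] at this
    exact (IsLocalRing.maximalIdeal.isMaximal A).ne_top (top_le_iff.mp this)
  obtain ⟨a, ⟨t, s, ht, hs, hts⟩, hau⟩ := h5
  refine ⟨t, ?_, ht⟩
  have : IsUnit (t * s) := hts ▸ hau.map (algebraMap A B)
  exact isUnit_of_mul_isUnit_left this

end

end Groth.Agent.Lib.Helper34.KumTors
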