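import Mathlib
import Groth.Prelude.Def_SGA1t
import Groth.Agent.Lib.Helper3.EtaleRoot
import Groth.Agent.Lib.Helper34.KumB

/-!
# Roots of unity in a local ring, and the Kummer algebra
-/

set_option autoImplicit false

namespace Groth.Agent.Lib.Helper34.KumTors

open Polynomial

universe u

section Roots

variable {A : Type u} [CommRing A] [IsLocalRing A] {n : ℕ}

theorem eq_one_of_map_eq_one (hn : IsUnit ((n : ℕ) : A)) {K : Type*} [Field K] (f : A →+* K)
    (g : A) (hg : g ^ n = 1) (h : f g = 1) : g = 1 := by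
  have h1 : (∑ i ∈ Finset.range n, g ^ i) * (g - 1) = 0 := by rw [geom_sum_mul, hg, sub_self]
  have hm : g - 1 ∈ IsLocalRing.maximalIdeal A := by
    rw [IsLocalRing.mem_maximalIdeal, mem_nonunits_iff]
    intro hu
    have := hu.map f
    rw [map_sub, h, map_one, sub_self] at this
    exact not_isUnit_zero this
  have hres : IsLocalRing.residue A g = 1 := by
    have := (IsLocalRing.residue_eq_zero_iff _).mpr hm
    rw [map_sub, map_one, sub_eq_zero] at this
    exact this
  have hsum : IsLocalRing.residue A (∑ i ∈ Finset.range n, g ^ i) =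
      IsLocalRing.residue A ((n : ℕ) : A) := by
    rw [map_sum]
    simp [hres]
  have hs : IsUnit (∑ i ∈ Finset.range n, g ^ i) := by
    by_contra hns
    have hsm : (∑ i ∈ Finset.range n, g ^ i) ∈ IsLocalRing.maximalIdeal A :=
      (IsLocalRing.mem_maximalIdeal _).mpr hns
    have h0 := (IsLocalRing.residue_eq_zero_iff _).mpr hsm
    rw [hsum] at h0
    have h2 := (IsLocalRing.residue_eq_zero_iff _).mp h0
    exact (IsLocalRing.mem_maximalIdeal _).mp h2 hn
  exact sub_eq_zero.mp (hs.mul_right_eq_zero.mp h1)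

theorem restrict_injective (hn : IsUnit ((n : ℕ) : A)) {K : Type*} [Field K] (f : A →+* K) :
    Function.Injective (restrictRootsOfUnity f n) := by
  rw [injective_iff_map_eq_one]
  intro g hg
  have h1 : f ((g : Aˣ) : A) = 1 := by
    have := congrArg (fun z : rootsOfUnity n K => ((z : Kˣ) : K)) hg
    simpa using this
  have h2 : ((g : Aˣ) : A) ^ n = 1 := by
    have := (mem_rootsOfUnity n (g : Aˣ)).mp g.2
    have h3 := congrArg Units.val this
    simpa using h3
  have h4 := eq_one_of_map_eq_one hn f _ h2 h1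
  ext
  simpa using h4

theorem finite_rootsOfUnity (hn1 : 1 ≤ n) (hn : IsUnit ((n : ℕ) : A)) :
    Finite (rootsOfUnity n A) := by
  haveI : NeZero n := ⟨by omega⟩
  exact Finite.of_injective _ (restrict_injective hn (IsLocalRing.residue A))

theorem natCard_rootsOfUnity (hn1 : 1 ≤ n) (hn : IsUnit ((n : ℕ) : A)) (ζ₀ : A)
    (hζ₀ : IsPrimitiveRoot ζ₀ n) : Nat.card (rootsOfUnity n A) = n := by
  haveI : NeZero n := ⟨by omega⟩
  haveI := finite_rootsOfUnity hn1 hn
  apply le_antisymm
  · calc Nat.card (rootsOfUnity n A) ≤ Nat.card (rootsOfUnity n (IsLocalRing.ResidueField A)) :=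
        Nat.card_le_card_of_injective _ (restrict_injective hn (IsLocalRing.residue A))
      _ ≤ n := card_rootsOfUnity _ _
  · have h1 : orderOf (hζ₀.toRootsOfUnity) = n := by
      have h2 : IsPrimitiveRoot (hζ₀.toRootsOfUnity) n := by
        rw [← IsPrimitiveRoot.coe_submonoidClass_iff, ← IsPrimitiveRoot.coe_units_iff]
        exact hζ₀
      exact h2.eq_orderOf.symm
    calc n = orderOf (hζ₀.toRootsOfUnity) := h1.symm
      _ ≤ Nat.card (rootsOfUnity n A) := orderOf_le_card

theorem isPrimitiveRoot_map (hn : IsUnit ((n : ℕ) : A)) {K : Type*} [Field K] (f : A →+* K)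
    (ζ₀ : A) (hζ₀ : IsPrimitiveRoot ζ₀ n) : IsPrimitiveRoot (f ζ₀) n := by
  refine ⟨by rw [← map_pow, hζ₀.pow_eq_one, map_one], fun l hl => ?_⟩
  apply hζ₀.dvd_of_pow_eq_one
  apply eq_one_of_map_eq_one hn f
  · rw [← pow_mul, mul_comm, pow_mul, hζ₀.pow_eq_one, one_pow]
  · rw [map_pow, hl]

end Roots

section Kummer

variable {A : Type u} [CommRing A] (n : ℕ) (a : A)

/-- The Kummer algebra is `A[X]/(X^n - a)`. -/
noncomputable def kummerEquiv :
    SGA1t.kummer A (fun _ : Unit => a) (fun _ => n) ≃ₐ[A] AdjoinRoot (X ^ n - C a : A[X]) :=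
  Ideal.quotientEquivAlg _ _ (MvPolynomial.uniqueAlgEquiv A Unit) (by
    rw [Ideal.map_span, Set.range_unique, Set.image_singleton]
    congr 2
    simp [MvPolynomial.uniqueAlgEquiv_apply])

theorem adjoinRoot_finite (hn1 : 1 ≤ n) : Module.Finite A (AdjoinRoot (X ^ n - C a : A[X])) :=
  (monic_X_pow_sub_C a (by omega)).finite_adjoinRoot

theorem adjoinRoot_etale (hn1 : 1 ≤ n) (hn : IsUnit ((n : ℕ) : A)) (ha : IsUnit a) :
    Algebra.Etale A (AdjoinRoot (X ^ n - C a : A[X])) := by
  apply Groth.Agent.Lib.Helper3.EtaleRoot.etale_adjoinRoot _ (monic_X_pow_sub_C a (by omega))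
  have hroot : (AdjoinRoot.root (X ^ n - C a : A[X])) ^ n =
      algebraMap A (AdjoinRoot (X ^ n - C a : A[X])) a := by
    have h0 : aeval (AdjoinRoot.root (X ^ n - C a : A[X])) (X ^ n - C a : A[X]) = 0 := by
      rw [AdjoinRoot.aeval_eq, AdjoinRoot.mk_self]
    rw [map_sub, map_pow, aeval_X, aeval_C] at h0
    exact sub_eq_zero.mp h0
  have hru : IsUnit (AdjoinRoot.root (X ^ n - C a : A[X])) := by
    have h1 : IsUnit ((AdjoinRoot.root (X ^ n - C a : A[X])) ^ n) := by
      rw [hroot]
      exact ha.map _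
    exact (isUnit_pow_iff (by omega)).mp h1
  have hd : derivative (X ^ n - C a : A[X]) = C ((n : ℕ) : A) * X ^ (n - 1) := by
    rw [derivative_sub, derivative_X_pow, derivative_C, sub_zero]
  rw [hd, map_mul, aeval_C, map_pow, aeval_X]
  exact (hn.map _).mul (hru.pow _)

theorem kummer_finite (hn1 : 1 ≤ n) :
    Module.Finite A (SGA1t.kummer A (fun _ : Unit => a) (fun _ => n)) :=
  haveI := adjoinRoot_finite n a hn1
  Module.Finite.equiv (kummerEquiv n a).symm.toLinearEquiv

theorem kummer_etale (hn1 : 1 ≤ n) (hn : IsUnit ((n : ℕ) : A)) (ha : IsUnit a) :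
    Algebra.Etale A (SGA1t.kummer A (fun _ : Unit => a) (fun _ => n)) :=
  haveI := adjoinRoot_etale n a hn1 hn ha
  Algebra.Etale.of_equiv (kummerEquiv n a).symm

end Kummer

end Groth.Agent.Lib.Helper34.KumTors
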