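import Mathlib
import Groth.Prelude.Def_SGA1t
import Groth.Agent.Lib.Helper34.ASTorsC
import Groth.Agent.Lib.Helper34.KumC

/-!
# Algebraic `μ_n`-torsors over a local ring are Kummer (main algebraic statement)
-/

set_option autoImplicit false

namespace Groth.Agent.Lib.Helper34.KumTors

universe u

section Main

variable {A B : Type u} [CommRing A] [IsLocalRing A] [CommRing B] [Algebra A B] [Module.Finite A B]
  [Algebra.Etale A B] [Module.FaithfullyFlat A B]
variable (n : ℕ) [Fintype (rootsOfUnity n A)]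
variable {σ : rootsOfUnity n A → (B →ₐ[A] B)}

theorem exists_kummer_equiv_aux (hn1 : 1 ≤ n) (hn : IsUnit ((n : ℕ) : A)) (ζ₀ : A)
    (hζ₀ : IsPrimitiveRoot ζ₀ n) (hσ : IsAlgTorsor σ) :
    ∃ (a₀ : A) (_ : IsUnit a₀)
      (ψ : SGA1t.kummer A (fun _ : Unit => a₀) (fun _ => n) ≃ₐ[A] B),
      ∀ (ζ : rootsOfUnity n A) (x : SGA1t.kummer A (fun _ : Unit => a₀) (fun _ => n)),
        ψ (SGA1t.kummerTwist A (fun _ : Unit => a₀) (fun _ => n) (fun _ => ζ) x) = σ ζ (ψ x) := by
  haveI : NeZero n := ⟨by omega⟩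
  have hcard : Fintype.card (rootsOfUnity n A) = n := by
    rw [← Nat.card_eq_fintype_card]
    exact natCard_rootsOfUnity hn1 hn ζ₀ hζ₀
  obtain ⟨t, htu, hte⟩ := exists_unit_eigen hσ (rootsOfUnity n A).subtype (by rw [hcard]; exact hn)
  have hte' : ∀ g : rootsOfUnity n A, σ g t = (((g : Aˣ) : A)) • t := hte
  have hgn : ∀ g : rootsOfUnity n A, (((g : Aˣ) : A)) ^ n = 1 := by
    intro g
    have := (mem_rootsOfUnity n (g : Aˣ)).mp g.2
    have h3 := congrArg Units.val this
    simpa using h3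
  have hinv : ∀ g, σ g (t ^ n) = t ^ n := by
    intro g
    rw [map_pow, hte', smul_pow, hgn, one_smul]
  obtain ⟨a₀, ha₀⟩ := exists_of_invariant hσ (t ^ n) hinv
  have hau : IsUnit a₀ := by
    have : Ideal.span {a₀} = ⊤ := by
      rw [← Ideal.comap_map_eq_self_of_faithfullyFlat (B := B) (Ideal.span {a₀}), Ideal.map_span,
        Set.image_singleton, ha₀, Ideal.span_singleton_eq_top.mpr (htu.pow n), Ideal.comap_top]
    exact Ideal.span_singleton_eq_top.mp this
  -- the map
  let ψ₀ : SGA1t.kummer A (fun _ : Unit => a₀) (fun _ => n) →ₐ[A] B :=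
    Ideal.Quotient.liftₐ _ (MvPolynomial.aeval (fun _ : Unit => t)) (by
      intro x hx
      have hle : Ideal.span (Set.range fun i : Unit =>
          (MvPolynomial.X i : MvPolynomial Unit A) ^ n - MvPolynomial.C a₀) ≤
          RingHom.ker (MvPolynomial.aeval (R := A) (fun _ : Unit => t)).toRingHom := by
        rw [Ideal.span_le]
        rintro _ ⟨i, rfl⟩
        rw [SetLike.mem_coe, RingHom.mem_ker]
        show MvPolynomial.aeval (fun _ : Unit => t) (MvPolynomial.X i ^ n - MvPolynomial.C a₀) = 0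
        rw [map_sub, map_pow, MvPolynomial.aeval_X, MvPolynomial.aeval_C, ha₀, sub_self]
      exact hle hx)
  have hψ₀mk : ∀ f : MvPolynomial Unit A,
      ψ₀ (Ideal.Quotient.mk _ f) = MvPolynomial.aeval (fun _ : Unit => t) f := fun f => rfl
  have htwist : ∀ (ζ : rootsOfUnity n A) (f : MvPolynomial Unit A),
      SGA1t.kummerTwist A (fun _ : Unit => a₀) (fun _ => n) (fun _ => ζ) (Ideal.Quotient.mk _ f) =
        Ideal.Quotient.mk _ (MvPolynomial.aeval (R := A)
          (fun i : Unit => MvPolynomial.C (((ζ : Aˣ) : A)) * MvPolynomial.X i) f) :=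
    fun ζ f => rfl
  have hequiv : ∀ (ζ : rootsOfUnity n A) (x : SGA1t.kummer A (fun _ : Unit => a₀) (fun _ => n)),
      ψ₀ (SGA1t.kummerTwist A (fun _ : Unit => a₀) (fun _ => n) (fun _ => ζ) x) =
        σ ζ (ψ₀ x) := by
    intro ζ x
    obtain ⟨f, rfl⟩ := Ideal.Quotient.mk_surjective x
    rw [htwist, hψ₀mk, hψ₀mk]
    have : (MvPolynomial.aeval (fun _ : Unit => t)).comp (MvPolynomial.aeval (R := A)
          (fun i : Unit => MvPolynomial.C (((ζ : Aˣ) : A)) * MvPolynomial.X i)) =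
        (σ ζ).comp (MvPolynomial.aeval (fun _ : Unit => t)) := by
      apply MvPolynomial.algHom_ext
      intro i
      simp only [AlgHom.comp_apply, MvPolynomial.aeval_X, map_mul, MvPolynomial.aeval_C, hte',
        Algebra.smul_def]
    exact congrArg (fun Φ => Φ f) this
  haveI := kummer_finite n a₀ hn1
  haveI := kummer_etale n a₀ hn1 hn hau
  have hbij : Function.Bijective ψ₀ := by
    apply Groth.Agent.Lib.Helper34.ASTors.bijective_of_points
    intro Ω _ _ _
    have hΩ : ∀ (y : B →ₐ[A] Ω) (g : rootsOfUnity n A),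
        y (σ g t) = algebraMap A Ω ((g : Aˣ) : A) * y t := by
      intro y g
      rw [hte', map_smul, Algebra.smul_def]
    have hne : ∀ y : B →ₐ[A] Ω, y t ≠ 0 := fun y => (htu.map y).ne_zero
    constructor
    · intro y y' hyy
      have h1 : y t = y' t := by
        have := congrArg (fun w => w (Ideal.Quotient.mk _ (MvPolynomial.X ()))) hyy
        simpa [hψ₀mk] using this
      obtain ⟨g, hg, -⟩ := hσ.torsor Ω y y'
      have h2 : y' t = algebraMap A Ω ((g : Aˣ) : A) * y t := by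
        rw [← hg, AlgHom.comp_apply, hΩ]
      have h3 : algebraMap A Ω ((g : Aˣ) : A) = 1 := by
        rw [← h1] at h2
        have h4 : (algebraMap A Ω ((g : Aˣ) : A) - 1) * y t = 0 := by
          rw [sub_mul, one_mul, ← h2, sub_self]
        rcases mul_eq_zero.mp h4 with h5 | h5
        · exact sub_eq_zero.mp h5
        · exact absurd h5 (hne y)
      have h6 : ((g : Aˣ) : A) = 1 := eq_one_of_map_eq_one hn (algebraMap A Ω) _ (hgn g) h3
      have h7 : g = 1 := by
        ext
        simpa using h6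
      subst h7
      rw [← hg, hσ.one]
      rfl
    · intro z
      obtain ⟨y₀⟩ := Groth.Agent.Lib.Helper34.ASTors.nonempty_point (A := A) (B := B) Ω
      have hθ : (z (Ideal.Quotient.mk _ (MvPolynomial.X ()))) ^ n = algebraMap A Ω a₀ := by
        have h0 : (Ideal.Quotient.mk (Ideal.span (Set.range fun i : Unit =>
            (MvPolynomial.X i : MvPolynomial Unit A) ^ n - MvPolynomial.C a₀)))
            ((MvPolynomial.X () : MvPolynomial Unit A) ^ n - MvPolynomial.C a₀) = 0 :=
          Ideal.Quotient.eq_zero_iff_mem.mpr (Ideal.subset_span ⟨(), rfl⟩)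
        have h1 := congrArg z h0
        simp only [map_sub, map_pow, map_zero] at h1
        have h2 : z ((Ideal.Quotient.mk (Ideal.span (Set.range fun i : Unit =>
            (MvPolynomial.X i : MvPolynomial Unit A) ^ n - MvPolynomial.C a₀)))
            (MvPolynomial.C a₀)) = algebraMap A Ω a₀ := z.commutes a₀
        rw [h2] at h1
        exact sub_eq_zero.mp h1
      have hθ₀ : (y₀ t) ^ n = algebraMap A Ω a₀ := by
        rw [← map_pow, ← ha₀, AlgHom.commutes]
      have hξ : (z (Ideal.Quotient.mk _ (MvPolynomial.X ())) / y₀ t) ^ n = 1 := by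
        rw [div_pow, hθ, hθ₀]
        exact div_self ((hau.map (algebraMap A Ω)).ne_zero)
      obtain ⟨i, -, hi⟩ := (isPrimitiveRoot_map hn (algebraMap A Ω) ζ₀ hζ₀).eq_pow_of_pow_eq_one hξ
      refine ⟨y₀.comp (σ (hζ₀.toRootsOfUnity ^ i)), ?_⟩
      apply Ideal.Quotient.algHom_ext
      apply MvPolynomial.algHom_ext
      intro j
      show y₀ (σ (hζ₀.toRootsOfUnity ^ i) (ψ₀ (Ideal.Quotient.mk _ (MvPolynomial.X j)))) =
        z (Ideal.Quotient.mk _ (MvPolynomial.X j))
      rw [hψ₀mk, MvPolynomial.aeval_X, hΩ]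
      have h8 : (((hζ₀.toRootsOfUnity ^ i : rootsOfUnity n A) : Aˣ) : A) = ζ₀ ^ i := by
        simp
      rw [h8, map_pow, hi, div_mul_cancel₀ _ (hne y₀)]
  exact ⟨a₀, hau, AlgEquiv.ofBijective ψ₀ hbij, hequiv⟩

theorem exists_kummer_equiv (hn1 : 1 ≤ n) (hn : IsUnit ((n : ℕ) : A)) (ζ₀ : A)
    (hζ₀ : IsPrimitiveRoot ζ₀ n) (hσ : IsAlgTorsor σ) :
    ∃ (a : Aˣ) (ψ : SGA1t.kummer A (fun _ : Unit => (a : A)) (fun _ => n) ≃ₐ[A] B),
      ∀ (ζ : rootsOfUnity n A) (x : SGA1t.kummer A (fun _ : Unit => (a : A)) (fun _ => n)),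
        ψ (SGA1t.kummerTwist A (fun _ : Unit => (a : A)) (fun _ => n) (fun _ => ζ) x) =
          σ ζ (ψ x) := by
  obtain ⟨a₀, hau, ψ, h⟩ := exists_kummer_equiv_aux n hn1 hn ζ₀ hζ₀ hσ
  obtain ⟨a, rfl⟩ := hau
  exact ⟨a, ψ, h⟩

end Main

end Groth.Agent.Lib.Helper34.KumTors
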