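import Mathlib
import Groth.Prelude.Def_SGA1t
import Groth.Prelude.Def_FEt
import Groth.Agent.Lib.Helper58.FEtHens
import Groth.Agent.Lib.Helper34.ASTorsE
import Groth.Agent.Lib.Helper34.KumD

/-!
# Principal `μ_n`-covers of the spectrum of a local ring are Kummer (scheme statement)
-/

set_option autoImplicit false

namespace Groth.Agent.Lib.Helper34.KumTors

open CategoryTheory CategoryTheory.Limits AlgebraicGeometry
open Groth.Agent.Lib.Helper34.ASTors (specMap_algHom_injective specMap_comp_ofHom)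

universe u

section

variable {A : Type u} [CommRing A] [IsLocalRing A]

theorem principal_is_kummer (n : ℕ) (hn1 : 1 ≤ n)
    (hn : IsUnit ((n : ℕ) : A)) (ζ₀ : A) (hζ₀ : IsPrimitiveRoot ζ₀ n)
    (P : FEt.Cat (Spec (CommRingCat.of A))) (ρ : ↥(rootsOfUnity n A) →* Aut P)
    (hP : SGA1t.IsPrincipal ↥(rootsOfUnity n A) P ρ) :
    ∃ (a : Aˣ) (e : P.left ≅ Spec (CommRingCat.of (SGA1t.kummer A (fun _ : Unit => (a : A))
        (fun _ => n)))),
      e.hom ≫ Spec.map (CommRingCat.ofHom (algebraMap A (SGA1t.kummer A (fun _ : Unit => (a : A))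
        (fun _ => n)))) = P.hom ∧
      ∀ ζ : ↥(rootsOfUnity n A), (ρ ζ).hom.left ≫ e.hom =
        e.hom ≫ Spec.map (CommRingCat.ofHom (SGA1t.kummerTwist A (fun _ : Unit => (a : A))
          (fun _ => n) (fun _ => ζ))) := by
  obtain ⟨B, _, _, hfin, het, e, he⟩ :=
    Groth.Agent.Lib.Helper58.FEtHens.exists_iso_Spec_of_finite_etale P.hom P.prop.1 P.prop.2
  letI : Fintype (rootsOfUnity n A) := @Fintype.ofFinite _ (finite_rootsOfUnity hn1 hn)
  -- the action on `B`
  have hτ : ∀ g : rootsOfUnity n A, ∃ s : B →ₐ[A] B,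
      e.inv ≫ (ρ g).hom.left ≫ e.hom = Spec.map (CommRingCat.ofHom s.toRingHom) := by
    intro g
    apply Groth.Agent.Lib.Helper58.FEtHens.exists_algHom_of_over
    have hw : (ρ g).hom.left ≫ P.hom = P.hom := Over.w (ρ g).hom.hom
    rw [Category.assoc, Category.assoc, ← he, hw, he, Iso.inv_hom_id_assoc]
  choose σ hσ using hτ
  have hσ' : ∀ g, (ρ g).hom.left ≫ e.hom = e.hom ≫ Spec.map (CommRingCat.ofHom (σ g).toRingHom) := by
    intro g
    rw [← hσ g, Iso.hom_inv_id_assoc]
  have hone : σ 1 = AlgHom.id A B := by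
    apply specMap_algHom_injective
    rw [← hσ 1, map_one]
    have : ((1 : Aut P).hom).left = 𝟙 P.left := rfl
    rw [this]
    have h3 : e.inv ≫ 𝟙 P.left ≫ e.hom = 𝟙 _ := by simp
    rw [h3]
    exact (Spec.map_id _).symm
  have hmul' : ∀ g g', σ (g * g') = (σ g').comp (σ g) := by
    intro g g'
    apply specMap_algHom_injective
    rw [← hσ (g * g'), map_mul]
    have h1 : ((ρ g * ρ g').hom).left = (ρ g').hom.left ≫ (ρ g).hom.left := rfl
    rw [h1]
    have h2 : Spec.map (CommRingCat.ofHom ((σ g').comp (σ g)).toRingHom) =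
        Spec.map (CommRingCat.ofHom (σ g').toRingHom) ≫
          Spec.map (CommRingCat.ofHom (σ g).toRingHom) := by
      rw [← Spec.map_comp]
      rfl
    rw [h2, ← hσ g, ← hσ g']
    simp
  have hmul : ∀ g g', σ (g * g') = (σ g).comp (σ g') := by
    intro g g'
    rw [mul_comm, hmul']
  -- fibres
  have htors : ∀ (Ω : Type u) [Field Ω] [IsAlgClosed Ω] [Algebra A Ω] (s t : B →ₐ[A] Ω),
      ∃! g, s.comp (σ g) = t := by
    intro Ω _ _ _ s t
    have hover : ∀ y : B →ₐ[A] Ω, (Spec.map (CommRingCat.ofHom y.toRingHom) ≫ e.inv) ≫ P.hom =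
        Spec.map (CommRingCat.ofHom (algebraMap A Ω)) := by
      intro y
      rw [he, Category.assoc, Iso.inv_hom_id_assoc, ← Spec.map_comp]
      congr 1
      ext x
      exact y.commutes x
    have key := hP.2 Ω (Spec.map (CommRingCat.ofHom (algebraMap A Ω)))
      ⟨Spec.map (CommRingCat.ofHom s.toRingHom) ≫ e.inv, hover s⟩
      ⟨Spec.map (CommRingCat.ofHom t.toRingHom) ≫ e.inv, hover t⟩
    refine (existsUnique_congr fun g => ?_).mp key
    constructor
    · intro h
      have h1 : (Spec.map (CommRingCat.ofHom s.toRingHom) ≫ e.inv) ≫ (ρ g).hom.left =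
          Spec.map (CommRingCat.ofHom t.toRingHom) ≫ e.inv := congrArg Subtype.val h
      apply specMap_algHom_injective
      have h2 : Spec.map (CommRingCat.ofHom (s.comp (σ g)).toRingHom) =
          Spec.map (CommRingCat.ofHom s.toRingHom) ≫
            Spec.map (CommRingCat.ofHom (σ g).toRingHom) := by
        rw [← Spec.map_comp]
        rfl
      rw [h2, ← hσ g]
      have h3 := congrArg (· ≫ e.hom) h1
      simp only [Category.assoc, Iso.inv_hom_id, Category.comp_id] at h3
      exact h3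
    · intro h
      apply Subtype.ext
      show (Spec.map (CommRingCat.ofHom s.toRingHom) ≫ e.inv) ≫ (ρ g).hom.left =
          Spec.map (CommRingCat.ofHom t.toRingHom) ≫ e.inv
      rw [← h]
      have h2 : Spec.map (CommRingCat.ofHom (s.comp (σ g)).toRingHom) =
          Spec.map (CommRingCat.ofHom s.toRingHom) ≫
            Spec.map (CommRingCat.ofHom (σ g).toRingHom) := by
        rw [← Spec.map_comp]
        rfl
      rw [h2, ← hσ g]
      simp
  have hT : IsAlgTorsor σ := ⟨hone, hmul, htors⟩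
  -- faithful flatness
  have : Module.FaithfullyFlat A B := by
    apply Module.FaithfullyFlat.of_comap_surjective
    intro x
    obtain ⟨y, hy⟩ := hP.1 x
    refine ⟨e.hom.base y, ?_⟩
    have h1 : P.hom.base y = (Spec.map (CommRingCat.ofHom (algebraMap A B))).base (e.hom.base y) := by
      rw [he]
      rfl
    rw [hy] at h1
    exact h1.symm
  obtain ⟨a, ψ, hψ⟩ := exists_kummer_equiv n hn1 hn ζ₀ hζ₀ hT
  have hinv1 : Spec.map (CommRingCat.ofHom ψ.toAlgHom.toRingHom) ≫
      Spec.map (CommRingCat.ofHom ψ.symm.toAlgHom.toRingHom) = 𝟙 _ := by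
    rw [specMap_comp_ofHom]
    have hr : ψ.toAlgHom.toRingHom.comp ψ.symm.toAlgHom.toRingHom = RingHom.id _ :=
      RingHom.ext fun x => ψ.apply_symm_apply x
    rw [hr]
    exact Spec.map_id _
  have hinv2 : Spec.map (CommRingCat.ofHom ψ.symm.toAlgHom.toRingHom) ≫
      Spec.map (CommRingCat.ofHom ψ.toAlgHom.toRingHom) = 𝟙 _ := by
    rw [specMap_comp_ofHom]
    have hr : ψ.symm.toAlgHom.toRingHom.comp ψ.toAlgHom.toRingHom = RingHom.id _ :=
      RingHom.ext fun x => ψ.symm_apply_apply x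
    rw [hr]
    exact Spec.map_id _
  refine ⟨a, ⟨e.hom ≫ Spec.map (CommRingCat.ofHom ψ.toAlgHom.toRingHom),
    Spec.map (CommRingCat.ofHom ψ.symm.toAlgHom.toRingHom) ≫ e.inv, ?_, ?_⟩, ?_, ?_⟩
  · rw [Category.assoc, reassoc_of% hinv1, Iso.hom_inv_id]
  · rw [Category.assoc, Iso.inv_hom_id_assoc, hinv2]
  · show (e.hom ≫ Spec.map (CommRingCat.ofHom ψ.toAlgHom.toRingHom)) ≫ _ = _
    rw [Category.assoc, specMap_comp_ofHom, he]
    have hr : ψ.toAlgHom.toRingHom.comp
        (algebraMap A (SGA1t.kummer A (fun _ : Unit => (a : A)) (fun _ => n))) =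
        algebraMap A B := RingHom.ext fun x => ψ.commutes x
    rw [hr]
  · intro ζ
    show (ρ ζ).hom.left ≫ e.hom ≫
        Spec.map (CommRingCat.ofHom ψ.toAlgHom.toRingHom) =
      (e.hom ≫ Spec.map (CommRingCat.ofHom ψ.toAlgHom.toRingHom)) ≫ _
    rw [reassoc_of% hσ' ζ, Category.assoc, specMap_comp_ofHom, specMap_comp_ofHom]
    have hr : (σ ζ).toRingHom.comp ψ.toAlgHom.toRingHom =
        ψ.toAlgHom.toRingHom.comp (SGA1t.kummerTwist A (fun _ : Unit => (a : A)) (fun _ => n)
          (fun _ => ζ)) :=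
      RingHom.ext fun x => (hψ ζ x).symm
    rw [hr]

end

end Groth.Agent.Lib.Helper34.KumTors
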