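import Mathlib

/-!
# Binomial expansions of `(1 + ϖ^k s)^(p^n)` below the level of `ζ - 1`

If `ϖ ^ (p^(n-1) (p-1) k)` divides `p`, then `ϖ ^ (k (p^n - i))` divides the binomial coefficient
`(p^n choose i)` for `1 ≤ i < p^n`; hence `((1 + ϖ^k T)^(p^n) - 1) / ϖ^(k p^n)` is a monic
polynomial of degree `p^n` with coefficients in the base ring.
-/

set_option autoImplicit false

namespace Groth.Agent.Lib.Helper34.KumLvl

open Polynomial

universe u

theorem pow_le_aux (r a m : ℕ) (ham : a ≤ m) :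
    (r + 1) ^ (m + 1) ≤ (r + 1) ^ a + (m + 1 - a) * ((r + 1) ^ m * r) := by
  induction m, ham using Nat.le_induction with
  | base =>
    have : a + 1 - a = 1 := by omega
    rw [this]
    apply le_of_eq
    ring
  | succ m ham ih =>
    have h1 : m + 1 + 1 - a = (m + 1 - a) + 1 := by omega
    rw [h1]
    have h2 : (r + 1) ^ m ≤ (r + 1) ^ (m + 1) := Nat.pow_le_pow_right (by omega) (by omega)
    calc (r + 1) ^ (m + 1 + 1) = (r + 1) ^ (m + 1) + (r + 1) ^ (m + 1) * r := by ring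
      _ ≤ ((r + 1) ^ a + (m + 1 - a) * ((r + 1) ^ m * r)) + (r + 1) ^ (m + 1) * r := by gcongr
      _ ≤ ((r + 1) ^ a + (m + 1 - a) * ((r + 1) ^ (m + 1) * r)) + (r + 1) ^ (m + 1) * r := by
        gcongr
      _ = _ := by ring

theorem choose_dvd {R : Type*} [CommRing R] (p : ℕ) (hp : p.Prime) (n : ℕ) (ϖ : R) (k : ℕ)
    (hk : ϖ ^ (p ^ (n - 1) * (p - 1) * k) ∣ (p : R)) (i : ℕ) (hi : 1 ≤ i) (hin : i < p ^ n) :
    ϖ ^ (k * (p ^ n - i)) ∣ ((p ^ n).choose i : R) := by
  have h1 : p ^ (multiplicity p i) ∣ i := pow_multiplicity_dvd p i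
  generalize ha : multiplicity p i = a at h1
  have h2 : p ^ a ≤ i := Nat.le_of_dvd hi h1
  have h3 : a < n := (Nat.pow_lt_pow_iff_right hp.one_lt).mp (lt_of_le_of_lt h2 hin)
  have h4 : p ^ (n - a) ∣ (p ^ n).choose i := by
    apply pow_dvd_of_le_emultiplicity
    rw [Nat.Prime.emultiplicity_choose_prime_pow hp hin.le (by omega), ha]
  have h5 : p ^ n - i ≤ (n - a) * (p ^ (n - 1) * (p - 1)) := by
    obtain ⟨r, rfl⟩ : ∃ r, p = r + 1 := ⟨p - 1, by have := hp.pos; omega⟩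
    obtain ⟨m, rfl⟩ : ∃ m, n = m + 1 := ⟨n - 1, by omega⟩
    have h := pow_le_aux r a m (by omega)
    simp only [Nat.add_sub_cancel]
    calc (r + 1) ^ (m + 1) - i ≤ (r + 1) ^ (m + 1) - (r + 1) ^ a := Nat.sub_le_sub_left h2 _
      _ ≤ _ := Nat.sub_le_iff_le_add.mpr (by linarith)
  have h6 : k * (p ^ n - i) ≤ (p ^ (n - 1) * (p - 1) * k) * (n - a) := by
    calc k * (p ^ n - i) ≤ k * ((n - a) * (p ^ (n - 1) * (p - 1))) := Nat.mul_le_mul_left _ h5
      _ = _ := by ring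
  calc ϖ ^ (k * (p ^ n - i)) ∣ ϖ ^ ((p ^ (n - 1) * (p - 1) * k) * (n - a)) := pow_dvd_pow _ h6
    _ = (ϖ ^ (p ^ (n - 1) * (p - 1) * k)) ^ (n - a) := by rw [pow_mul]
    _ ∣ (p : R) ^ (n - a) := pow_dvd_pow_of_dvd hk _
    _ = ((p ^ (n - a) : ℕ) : R) := by push_cast; rfl
    _ ∣ ((p ^ n).choose i : R) := Nat.cast_dvd_cast h4

theorem expand {R : Type u} [CommRing R] (ϖ : R) (q k δ : ℕ) (hq : 0 < q)
    (h : ∀ i, 1 ≤ i → i < q → ϖ ^ (k * (q - i) + δ) ∣ (q.choose i : R)) :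
    ∃ G : R[X], G.degree < q ∧ ∀ (S : Type u) [CommRing S] [Algebra R S] (s : S),
      (1 + algebraMap R S (ϖ ^ k) * s) ^ q =
        1 + algebraMap R S (ϖ ^ (k * q)) * (s ^ q + algebraMap R S (ϖ ^ δ) * aeval s G) := by
  choose! e he using h
  obtain ⟨q', rfl⟩ : ∃ q', q = q' + 1 := ⟨q - 1, by omega⟩
  refine ⟨∑ i ∈ Finset.range q', C (e (i + 1)) * X ^ (i + 1), ?_, ?_⟩
  · refine lt_of_le_of_lt (degree_sum_le _ _) ?_
    rw [Finset.sup_lt_iff (by exact WithBot.bot_lt_coe _)]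
    intro i hi
    refine lt_of_le_of_lt (degree_C_mul_X_pow_le _ _) ?_
    have := Finset.mem_range.mp hi
    exact_mod_cast (by omega : i + 1 < q' + 1)
  · intro S _ _ s
    have key : ∀ i ∈ Finset.range q',
        (algebraMap R S (ϖ ^ k) * s) ^ (i + 1) * ((q' + 1).choose (i + 1) : S) =
        algebraMap R S (ϖ ^ (k * (q' + 1))) *
          (algebraMap R S (ϖ ^ δ) * (algebraMap R S (e (i + 1)) * s ^ (i + 1))) := by
      intro i hi
      have hi' := Finset.mem_range.mp hi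
      have h1 := he (i + 1) (by omega) (by omega)
      have h2 : ((q' + 1).choose (i + 1) : S) = algebraMap R S ((q' + 1).choose (i + 1) : R) :=
        (map_natCast (algebraMap R S) _).symm
      have h3 : k * (q' + 1) = k * (i + 1) + k * (q' + 1 - (i + 1)) := by
        rw [← Nat.mul_add]; congr 1; omega
      rw [h2, h1, h3]
      simp only [map_mul, map_pow]
      ring
    rw [add_comm 1, add_pow, Finset.sum_range_succ, Finset.sum_range_succ']
    simp only [one_pow, mul_one, pow_zero, Nat.choose_zero_right, Nat.cast_one, Nat.choose_self,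
      Nat.sub_self]
    rw [Finset.sum_congr rfl (fun i hi => by
      have := key i hi
      simpa using this)]
    rw [← Finset.mul_sum, ← Finset.mul_sum]
    simp only [map_sum, map_mul, aeval_C, aeval_X, map_pow]
    ring

end Groth.Agent.Lib.Helper34.KumLvl
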