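import Mathlib
import Groth.Agent.Lib.Helper34.KumLvlA

/-!
# Maximal Kummer level and reducedness of the normalization: the abstract argument
-/

set_option autoImplicit false

namespace Groth.Agent.Lib.Helper34.KumLvl

open Polynomial

universe u

theorem main
    (p : ℕ) [Fact p.Prime] (n : ℕ)
    {A : Type u} [CommRing A] [IsDomain A] (π : A) (hπ0 : π ≠ 0)
    (hlift : ∀ a : A, IsUnit (Ideal.Quotient.mk (Ideal.span {π}) a) → IsUnit a)
    (f g : Aˣ) (j : ℕ) (hj : π ^ (p ^ (n - 1) * (p - 1) * (j + 1)) ∣ (p : A)) (f₀ : A)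
    (hfg : (f : A) * (g : A) ^ (p ^ n) = 1 + π ^ (j * p ^ n) * f₀)
    (hmax : ∀ (g' : Aˣ) (c : A),
      (f : A) * (g' : A) ^ (p ^ n) ≠ 1 + π ^ ((j + 1) * p ^ n) * c)
    {L : Type u} [CommRing L] [IsDomain L] [Algebra A L]
    (hinj : Function.Injective (algebraMap A L))
    (hπu : IsUnit (algebraMap A L π))
    (hcl : ∀ x : L, IsIntegral A x → ∀ (m : ℕ) (a : A),
      algebraMap A L π ^ m * x = algebraMap A L a → ∃ b, algebraMap A L b = x)
    (z : L) (hz : z ^ (p ^ n) = algebraMap A L f)
    (hred : (Ideal.span {algebraMap A (integralClosure A L) π}).IsRadical)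
    (g₀ : A) : f₀ - g₀ ^ (p ^ n) ∉ Ideal.span {π} := by
  intro hmem
  obtain ⟨c₀, hc₀⟩ := Ideal.mem_span_singleton'.mp hmem
  have hp : p.Prime := Fact.out
  have hqpos : 0 < p ^ n := pow_pos hp.pos n
  have hdiv : ∀ i, 1 ≤ i → i < p ^ n →
      π ^ ((j + 1) * (p ^ n - i)) ∣ ((p ^ n).choose i : A) :=
    fun i hi hin => choose_dvd p hp n π (j + 1) hj i hi hin
  obtain ⟨G₁, hG₁deg, hG₁⟩ := expand π (p ^ n) j 1 hqpos (fun i hi hin =>
    (pow_dvd_pow π (by rw [add_one_mul]; omega)).trans (hdiv i hi hin))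
  obtain ⟨G₂, -, hG₂⟩ := expand π (p ^ n) (j + 1) 0 hqpos (fun i hi hin => by
    simpa using hdiv i hi hin)
  have hιπ : algebraMap A L π ≠ 0 := hπu.ne_zero
  obtain ⟨v, hv⟩ := hπu.exists_right_inv
  -- the element `w = z g` and `y = (w - 1)/π^j`
  have hw : (z * algebraMap A L g) ^ (p ^ n) =
      1 + algebraMap A L π ^ (j * p ^ n) * algebraMap A L f₀ := by
    rw [mul_pow, hz, ← map_pow, ← map_mul, hfg]
    simp only [map_add, map_mul, map_pow, map_one]
  obtain ⟨y, hy⟩ : ∃ y : L, z * algebraMap A L g = 1 + algebraMap A L π ^ j * y := by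
    refine ⟨(z * algebraMap A L g - 1) * v ^ j, ?_⟩
    have : algebraMap A L π ^ j * v ^ j = 1 := by rw [← mul_pow, hv, one_pow]
    linear_combination (-(z * algebraMap A L g - 1)) * this
  have hyeq : algebraMap A L f₀ = y ^ (p ^ n) + algebraMap A L π * aeval y G₁ := by
    have h1 := hG₁ L y
    simp only [map_pow, pow_one] at h1
    rw [← hy, hw] at h1
    have h2 := add_left_cancel h1
    exact mul_left_cancel₀ (pow_ne_zero _ hιπ) h2
  have hyint : IsIntegral A y := by
    refine ⟨X ^ (p ^ n) + (C π * G₁ - C f₀), monic_X_pow_add ?_, ?_⟩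
    · refine lt_of_le_of_lt (degree_sub_le _ _) (max_lt ?_ ?_)
      · rw [degree_C_mul hπ0]; exact hG₁deg
      · exact lt_of_le_of_lt degree_C_le (by exact_mod_cast hqpos)
    · rw [← aeval_def]
      simp only [map_add, map_sub, map_mul, map_pow, aeval_X, aeval_C]
      rw [hyeq]; ring
  have hc₀' : algebraMap A L c₀ * algebraMap A L π =
      algebraMap A L f₀ - algebraMap A L g₀ ^ (p ^ n) := by
    rw [← map_mul, hc₀, map_sub, map_pow]
  have hπdvd : π ∣ (p : A) :=
    (dvd_pow_self π (Nat.mul_ne_zero (Nat.mul_ne_zero (pow_ne_zero _ hp.ne_zero)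
      (Nat.sub_ne_zero_of_lt hp.one_lt)) (Nat.succ_ne_zero j))).trans hj
  have hpI : ((p : ℕ) : integralClosure A L) ∈
      Ideal.span {algebraMap A (integralClosure A L) π} := by
    obtain ⟨d, hd⟩ := hπdvd
    rw [Ideal.mem_span_singleton]
    refine ⟨algebraMap A _ d, ?_⟩
    rw [← map_mul, ← hd, map_natCast]
  have h1 : (⟨y, hyint⟩ : integralClosure A L) ^ (p ^ n) -
      algebraMap A (integralClosure A L) g₀ ^ (p ^ n) ∈
      Ideal.span {algebraMap A (integralClosure A L) π} := by
    rw [Ideal.mem_span_singleton]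
    refine ⟨algebraMap A _ c₀ - aeval (⟨y, hyint⟩ : integralClosure A L) G₁, ?_⟩
    apply Subtype.ext
    simp only [Subalgebra.coe_sub, Subalgebra.coe_pow, Subalgebra.coe_mul,
      Subalgebra.coe_algebraMap, aeval_subalgebra_coe]
    linear_combination -hyeq - hc₀'
  have h2 : ((⟨y, hyint⟩ : integralClosure A L) -
      algebraMap A (integralClosure A L) g₀) ^ (p ^ n) ∈
      Ideal.span {algebraMap A (integralClosure A L) π} := by
    obtain ⟨r, hr⟩ := exists_add_pow_prime_pow_eq hp (⟨y, hyint⟩ : integralClosure A L)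
      (-(algebraMap A (integralClosure A L) g₀)) n
    obtain ⟨r', hr'⟩ := exists_add_pow_prime_pow_eq hp (1 : integralClosure A L) (-1) n
    have h0 : ((1 : integralClosure A L) + -1) ^ (p ^ n) = 0 := by
      rw [add_neg_cancel, zero_pow hqpos.ne']
    rw [h0, one_pow] at hr'
    have h3 : ((⟨y, hyint⟩ : integralClosure A L) +
        -(algebraMap A (integralClosure A L) g₀)) ^ (p ^ n) =
        ((⟨y, hyint⟩ : integralClosure A L) ^ (p ^ n) -
          algebraMap A (integralClosure A L) g₀ ^ (p ^ n)) +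
        ((p : ℕ) : integralClosure A L) *
          (r' * algebraMap A (integralClosure A L) g₀ ^ (p ^ n) +
            (⟨y, hyint⟩ : integralClosure A L) *
              (-(algebraMap A (integralClosure A L) g₀)) * r) := by
      rw [hr, neg_pow]
      linear_combination (-(algebraMap A (integralClosure A L) g₀) ^ (p ^ n)) * hr'
    rw [sub_eq_add_neg, h3]
    exact Ideal.add_mem _ h1 (Ideal.mul_mem_right _ _ hpI)
  have h4 : (⟨y, hyint⟩ : integralClosure A L) - algebraMap A (integralClosure A L) g₀ ∈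
      Ideal.span {algebraMap A (integralClosure A L) π} := hred ⟨p ^ n, h2⟩
  obtain ⟨y₁, hy₁⟩ := Ideal.mem_span_singleton'.mp h4
  have hy₁' : y = algebraMap A L g₀ + algebraMap A L π * (y₁ : L) := by
    have := congrArg Subtype.val hy₁
    simp only [Subalgebra.coe_mul, Subalgebra.coe_sub, Subalgebra.coe_algebraMap] at this
    linear_combination -this
  have hwu : z * algebraMap A L g =
      algebraMap A L (1 + π ^ j * g₀) + algebraMap A L π ^ (j + 1) * (y₁ : L) := by
    rw [hy, hy₁']
    simp only [map_add, map_mul, map_pow, map_one]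
    ring
  have hwint : IsIntegral A (z * algebraMap A L g) := by
    refine IsIntegral.of_pow hqpos ?_
    rw [mul_pow, hz, ← map_pow, ← map_mul]
    exact isIntegral_algebraMap
  have hwunit : IsUnit (⟨z * algebraMap A L g, hwint⟩ : integralClosure A L) := by
    rw [← isUnit_pow_iff hqpos.ne']
    have : (⟨z * algebraMap A L g, hwint⟩ : integralClosure A L) ^ (p ^ n) =
        algebraMap A _ ((f * g ^ (p ^ n) : Aˣ) : A) := by
      apply Subtype.ext
      simp only [Subalgebra.coe_pow, Subalgebra.coe_algebraMap]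
      rw [mul_pow, hz]
      simp
    rw [this]
    exact (Units.isUnit _).map _
  have hinjB : Function.Injective (algebraMap A (integralClosure A L)) := by
    intro a b hab
    apply hinj
    have := congrArg Subtype.val hab
    simpa only [Subalgebra.coe_algebraMap] using this
  have hu : IsUnit (1 + π ^ j * g₀) := by
    apply hlift
    by_contra hnu
    have hne : Ideal.span {π, 1 + π ^ j * g₀} ≠ ⊤ := by
      intro htop
      have h1 : (1 : A) ∈ Ideal.span {π, 1 + π ^ j * g₀} := by rw [htop]; trivial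
      obtain ⟨a, b, hab⟩ := Ideal.mem_span_pair.mp h1
      apply hnu
      refine IsUnit.of_mul_eq_one (Ideal.Quotient.mk _ b) ?_
      rw [← map_mul, ← map_one (Ideal.Quotient.mk (Ideal.span {π})), Ideal.Quotient.eq]
      exact Ideal.mem_span_singleton'.mpr ⟨-a, by linear_combination -hab⟩
    obtain ⟨m, hm, hle⟩ := Ideal.exists_le_maximal _ hne
    have := hm
    obtain ⟨Q, hQ, hQm⟩ := Ideal.exists_ideal_over_maximal_of_isIntegral
      (S := integralClosure A L) m (by
        rw [(RingHom.injective_iff_ker_eq_bot _).mp hinjB]; exact bot_le)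
    have hπQ : algebraMap A (integralClosure A L) π ∈ Q := by
      have : π ∈ m := hle (Ideal.subset_span (by simp))
      rw [← hQm] at this
      exact this
    have huQ : algebraMap A (integralClosure A L) (1 + π ^ j * g₀) ∈ Q := by
      have : 1 + π ^ j * g₀ ∈ m := hle (Ideal.subset_span (by simp))
      rw [← hQm] at this
      exact this
    have hwQ : (⟨z * algebraMap A L g, hwint⟩ : integralClosure A L) ∈ Q := by
      have : (⟨z * algebraMap A L g, hwint⟩ : integralClosure A L) =
          algebraMap A _ (1 + π ^ j * g₀) +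
            algebraMap A _ π * (algebraMap A _ π ^ j * y₁) := by
        apply Subtype.ext
        simp only [Subalgebra.coe_add, Subalgebra.coe_pow, Subalgebra.coe_mul,
          Subalgebra.coe_algebraMap]
        rw [hwu]; ring
      rw [this]
      exact Q.add_mem huQ (Q.mul_mem_right _ hπQ)
    exact hQ.ne_top (Q.eq_top_of_isUnit_mem hwQ hwunit)
  obtain ⟨u', hu'⟩ := hu
  have h5 : z * algebraMap A L ((g * u'⁻¹ : Aˣ) : A) =
      1 + algebraMap A L π ^ (j + 1) * ((y₁ : L) * algebraMap A L ((u'⁻¹ : Aˣ) : A)) := by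
    have hu1 : algebraMap A L (1 + π ^ j * g₀) * algebraMap A L ((u'⁻¹ : Aˣ) : A) = 1 := by
      rw [← hu', ← map_mul, Units.mul_inv, map_one]
    rw [Units.val_mul, map_mul, ← mul_assoc, hwu]
    linear_combination hu1
  have hy₂int : IsIntegral A ((y₁ : L) * algebraMap A L ((u'⁻¹ : Aˣ) : A)) :=
    y₁.2.mul isIntegral_algebraMap
  have h6 := hG₂ L ((y₁ : L) * algebraMap A L ((u'⁻¹ : Aˣ) : A))
  simp only [map_pow, pow_zero, map_one, one_mul] at h6
  rw [← h5, mul_pow, hz, ← map_pow, ← map_mul] at h6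
  have hxint : IsIntegral A (((y₁ : L) * algebraMap A L ((u'⁻¹ : Aˣ) : A)) ^ (p ^ n) +
      aeval ((y₁ : L) * algebraMap A L ((u'⁻¹ : Aˣ) : A)) G₂) := by
    refine (hy₂int.pow _).add ?_
    have := (aeval (⟨_, hy₂int⟩ : integralClosure A L) G₂).2
    rwa [aeval_subalgebra_coe] at this
  obtain ⟨b, hb⟩ := hcl _ hxint ((j + 1) * p ^ n)
    ((f : A) * ((g * u'⁻¹ : Aˣ) : A) ^ (p ^ n) - 1) (by rw [map_sub, h6, map_one]; ring)
  refine hmax (g * u'⁻¹) b (hinj ?_)
  rw [h6, ← hb]
  simp only [map_add, map_mul, map_pow, map_one]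

end Groth.Agent.Lib.Helper34.KumLvl
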