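import Mathlib

/-!
# Choosing a basis of `B^n` inside an `O`-lattice, for `B` semilocal over a local ring `O`
with infinite residue field
-/

set_option autoImplicit false

namespace Groth.Agent.Lib.Helper34.LatticeBasis

open Function

section Avoid

variable {O : Type*} [CommRing O] [IsLocalRing O]
  {B : Type*} [CommRing B] [Algebra O B]
  {M : Type*} [AddCommGroup M] [Module O M]

omit [IsLocalRing O] in
theorem unit_smul_mem (Q : Ideal B) {u : O} (hu : IsUnit u) {t : B} (h : u • t ∈ Q) : t ∈ Q := by
  obtain ⟨v, rfl⟩ := hu
  have : t = ((↑v⁻¹ : O)) • ((v : O) • t) := by rw [smul_smul, Units.inv_mul, one_smul]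
  rw [this, Algebra.smul_def]
  exact Q.mul_mem_left _ h

/-- simultaneous avoidance of finitely many ideals by the values of `O`-linear functionals -/
theorem avoid_lin [Infinite (IsLocalRing.ResidueField O)] (φ : Ideal B → (M →ₗ[O] B))
    (S : Finset (Ideal B)) (hS : ∀ P ∈ S, ∃ m : M, φ P m ∉ P) :
    ∃ m : M, ∀ P ∈ S, φ P m ∉ P := by
  classical
  induction S using Finset.induction_on with
  | empty => exact ⟨0, by simp⟩
  | insert P S' hP ih =>
    obtain ⟨m₁, h₁⟩ := ih (fun Q hQ => hS Q (Finset.mem_insert_of_mem hQ))
    by_cases hP1 : φ P m₁ ∈ P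
    swap
    · refine ⟨m₁, ?_⟩
      intro Q hQ
      rcases Finset.mem_insert.mp hQ with rfl | h
      · exact hP1
      · exact h₁ Q h
    obtain ⟨m₂, h₂⟩ := hS P (Finset.mem_insert_self _ _)
    let bad : Ideal B → IsLocalRing.ResidueField O := fun Q =>
      if h : ∃ u : O, φ Q (m₁ + u • m₂) ∈ Q then IsLocalRing.residue O h.choose else 0
    obtain ⟨c, hc⟩ := Infinite.exists_notMem_finset (insert 0 (S'.image bad))
    obtain ⟨u, rfl⟩ := IsLocalRing.residue_surjective c
    have hu : IsUnit u := by
      rw [← IsLocalRing.notMem_maximalIdeal, ← IsLocalRing.residue_eq_zero_iff]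
      intro h0
      apply hc
      rw [h0]
      exact Finset.mem_insert_self _ _
    refine ⟨m₁ + u • m₂, ?_⟩
    intro Q hQ
    rcases Finset.mem_insert.mp hQ with rfl | hQ'
    · intro h
      rw [map_add, map_smul] at h
      have h3 : u • φ Q m₂ ∈ Q := by
        have := Q.sub_mem h hP1
        rwa [add_sub_cancel_left] at this
      exact h₂ (unit_smul_mem Q hu h3)
    · intro h
      have hex : ∃ u : O, φ Q (m₁ + u • m₂) ∈ Q := ⟨u, h⟩
      have hbad : bad Q = IsLocalRing.residue O hex.choose := dif_pos hex
      have hne : IsLocalRing.residue O u ≠ IsLocalRing.residue O hex.choose := by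
        intro heq
        apply hc
        rw [Finset.mem_insert]
        right
        rw [Finset.mem_image]
        exact ⟨Q, hQ', by rw [hbad, heq]⟩
      have hu' : IsUnit (u - hex.choose) := by
        rw [← IsLocalRing.notMem_maximalIdeal, ← IsLocalRing.residue_eq_zero_iff, map_sub,
          sub_eq_zero]
        exact hne
      have h' := hex.choose_spec
      rw [map_add, map_smul] at h h'
      have h4 : (u - hex.choose) • φ Q m₂ ∈ Q := by
        have := Q.sub_mem h h'
        have e : φ Q m₁ + u • φ Q m₂ - (φ Q m₁ + hex.choose • φ Q m₂) =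
            (u - hex.choose) • φ Q m₂ := by
          rw [sub_smul]; abel
        rwa [e] at this
      have ht₂Q : φ Q m₂ ∈ Q := unit_smul_mem Q hu' h4
      have h5 : φ Q m₁ ∈ Q := by
        have h6 : u • φ Q m₂ ∈ Q := by rw [Algebra.smul_def]; exact Q.mul_mem_left _ ht₂Q
        have := Q.sub_mem h h6
        rwa [add_sub_cancel_right] at this
      exact h₁ Q hQ' h5

end Avoid

section Det

variable {B : Type*} [CommRing B] {n : ℕ}

/-- the determinant of a tuple of row vectors -/
noncomputable abbrev D (v : Fin n → (Fin n → B)) : B := Matrix.detRowAlternating v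

/-- if a set spans `B^n`, some `n`-tuple from it has determinant outside a given proper ideal -/
theorem exists_det_notMem (T : Set (Fin n → B)) (hT : Submodule.span B T = ⊤) (q : Ideal B)
    (hq : q ≠ ⊤) : ∃ v : Fin n → (Fin n → B), (∀ i, v i ∈ T) ∧ D v ∉ q := by
  classical
  by_contra hcon
  push Not at hcon
  have key : ∀ j : ℕ, j ≤ n → ∀ v : Fin n → (Fin n → B),
      (∀ i : Fin n, j ≤ (i : ℕ) → v i ∈ T) → D v ∈ q := by
    intro j
    induction j with
    | zero =>
      intro _ v hv
      exact hcon v (fun i => hv i (Nat.zero_le _))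
    | succ j ih =>
      intro hj v hv
      have hjn : j < n := hj
      have hspan : v ⟨j, hjn⟩ ∈ Submodule.span B T := by rw [hT]; exact Submodule.mem_top
      have hgoal : ∀ x ∈ Submodule.span B T, D (Function.update v ⟨j, hjn⟩ x) ∈ q := by
        intro x hx
        refine Submodule.span_induction ?_ ?_ ?_ ?_ hx
        · intro x hxT
          apply ih (le_of_lt hjn)
          intro i hi
          by_cases hij : i = ⟨j, hjn⟩
          · rw [hij, Function.update_self]; exact hxT
          · rw [Function.update_of_ne hij]
            apply hv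
            rcases Nat.lt_or_ge j (i : ℕ) with h | h
            · exact h
            · exact absurd (Fin.ext (le_antisymm h hi)) hij
        · unfold D; rw [AlternatingMap.map_update_zero]; exact q.zero_mem
        · intro x y _ _ hx hy
          unfold D at hx hy ⊢
          rw [AlternatingMap.map_update_add]; exact q.add_mem hx hy
        · intro a x _ hx
          unfold D at hx ⊢
          rw [AlternatingMap.map_update_smul]; exact q.mul_mem_left _ hx
      have := hgoal _ hspan
      rwa [Function.update_eq_self] at this
  have h1 := key n le_rfl (fun i => Pi.single i 1) (fun i hi => absurd i.2 (not_lt.mpr hi))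
  have h2 : D (fun i : Fin n => (Pi.single i 1 : Fin n → B)) = 1 := by
    change Matrix.det (Matrix.of (fun i : Fin n => (Pi.single i 1 : Fin n → B))) = 1
    have : Matrix.of (fun i : Fin n => (Pi.single i 1 : Fin n → B)) = 1 := by
      ext i k
      simp [Matrix.one_apply, Pi.single_apply, eq_comm]
    rw [this, Matrix.det_one]
  rw [h2] at h1
  exact hq ((Ideal.eq_top_iff_one q).mpr h1)

end Det


section Tuple

variable {O : Type*} [CommRing O] [IsLocalRing O] [Infinite (IsLocalRing.ResidueField O)]
  {B : Type*} [CommRing B] [Algebra O B]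
  {M : Type*} [AddCommGroup M] [Module O M] {n : ℕ}

omit [IsLocalRing O] [Infinite (IsLocalRing.ResidueField O)] in
theorem comp_update (j' : M →ₗ[O] (Fin n → B)) (w : Fin n → M) (jj : Fin n) (m : M) :
    (fun i => j' (Function.update w jj m i)) =
      Function.update (fun i => j' (w i)) jj (j' m) := by
  funext i
  by_cases h : i = jj
  · rw [h, Function.update_self, Function.update_self]
  · rw [Function.update_of_ne h, Function.update_of_ne h]

/-- a tuple from the lattice whose determinant avoids finitely many proper ideals -/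
theorem exists_tuple (j' : M →ₗ[O] (Fin n → B))
    (hspan : Submodule.span B (Set.range j') = ⊤)
    (S : Finset (Ideal B)) (hS : ∀ q ∈ S, q ≠ ⊤) :
    ∃ w : Fin n → M, ∀ q ∈ S, D (fun i => j' (w i)) ∉ q := by
  classical
  have step : ∀ j : ℕ, j ≤ n → ∃ w : Fin n → M, ∀ q ∈ S, ∃ w' : Fin n → M,
      (∀ i : Fin n, (i : ℕ) < j → w' i = w i) ∧ D (fun i => j' (w' i)) ∉ q := by
    intro j
    induction j with
    | zero =>
      intro _
      refine ⟨fun _ => 0, ?_⟩
      intro q hq
      obtain ⟨v, hv, hD⟩ := exists_det_notMem (Set.range j') hspan q (hS q hq)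
      choose w' hw' using hv
      refine ⟨w', fun i hi => absurd hi (Nat.not_lt_zero _), ?_⟩
      have : (fun i => j' (w' i)) = v := funext hw'
      rw [this]; exact hD
    | succ j ih =>
      intro hj
      have hjn : j < n := hj
      obtain ⟨w, hw⟩ := ih (le_of_lt hjn)
      -- choose the extensions
      have hex : ∀ q : Ideal B, ∃ w' : Fin n → M, q ∈ S →
          ((∀ i : Fin n, (i : ℕ) < j → w' i = w i) ∧ D (fun i => j' (w' i)) ∉ q) := by
        intro q
        by_cases hq : q ∈ S
        · obtain ⟨w', h1, h2⟩ := hw q hq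
          exact ⟨w', fun _ => ⟨h1, h2⟩⟩
        · exact ⟨w, fun h => absurd h hq⟩
      choose wq hwq using hex
      let φ : Ideal B → (M →ₗ[O] B) := fun q =>
        ((Matrix.detRowAlternating.toMultilinearMap.toLinearMap
          (fun i => j' (wq q i)) ⟨j, hjn⟩).restrictScalars O) ∘ₗ j'
      have hφ : ∀ q m, φ q m = D (fun i => j' (Function.update (wq q) ⟨j, hjn⟩ m i)) := by
        intro q m
        rw [comp_update]
        rfl
      have hS' : ∀ q ∈ S, ∃ m : M, φ q m ∉ q := by
        intro q hq
        refine ⟨wq q ⟨j, hjn⟩, ?_⟩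
        rw [hφ, Function.update_eq_self]
        exact (hwq q hq).2
      obtain ⟨m, hm⟩ := avoid_lin φ S hS'
      refine ⟨Function.update w ⟨j, hjn⟩ m, ?_⟩
      intro q hq
      refine ⟨Function.update (wq q) ⟨j, hjn⟩ m, ?_, ?_⟩
      · intro i hi
        by_cases hij : i = ⟨j, hjn⟩
        · rw [hij, Function.update_self, Function.update_self]
        · rw [Function.update_of_ne hij, Function.update_of_ne hij]
          apply (hwq q hq).1
          rcases Nat.lt_or_ge (i : ℕ) j with h | h
          · exact h
          · exact absurd (Fin.ext (le_antisymm (Nat.lt_succ_iff.mp hi) h)) hij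
      · rw [← hφ]
        exact hm q hq
  obtain ⟨w, hw⟩ := step n le_rfl
  refine ⟨w, ?_⟩
  intro q hq
  obtain ⟨w', h1, h2⟩ := hw q hq
  have : w' = w := funext (fun i => h1 i i.2)
  rw [this] at h2
  exact h2

end Tuple

end Groth.Agent.Lib.Helper34.LatticeBasis
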