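import Mathlib
import Groth.Agent.S2082
import Groth.Agent.Lib.Helper77.RegularCM
import Groth.Agent.Lib.Helper94.RegularUFD2
import Groth.Agent.Lib.Helper76.RegularLocal
import Groth.Agent.Lib.Helper73.DimFT.Basic

/-!
# Flatness of a local ring of a finite algebra over a regular local ring (helper34)

`flat_of_finite_of_regular`: `R → S` finite, `B = S_P` regular local, `A` a regular local `R`-algebra
with an injective local homomorphism `A → B` compatible with `R → S → B`. Then `B` is flat over `A`.
-/

set_option autoImplicit false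
universe u
open IsLocalRing TensorProduct

namespace Groth.Agent.Lib.Helper34.Miracle

section Img

/-- There is a finite `A`-subalgebra of `B` containing the image of `S`. -/
theorem exists_finite_subalgebra (R S A B : Type u) [CommRing R] [CommRing S] [CommRing A]
    [CommRing B] [Algebra R S] [Module.Finite R S] [Algebra R A] [Algebra S B] [Algebra A B]
    [Algebra R B] [IsScalarTower R S B] [IsScalarTower R A B] :
    ∃ D : Subalgebra A B, Module.Finite A D ∧ ∀ s : S, algebraMap S B s ∈ D := by
  let φ : A ⊗[R] S →ₐ[A] B :=
    Algebra.TensorProduct.lift (Algebra.ofId A B) (IsScalarTower.toAlgHom R S B)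
      (fun _ _ => Commute.all _ _)
  refine ⟨φ.range, Module.Finite.range φ.toLinearMap, fun s => ⟨(1 : A) ⊗ₜ[R] s, ?_⟩⟩
  simp [φ, Algebra.TensorProduct.lift_tmul]

end Img

section Loc

variable {S A B : Type u} [CommRing S] [CommRing A] [CommRing B]
  [Algebra S B] [Algebra A B]

theorem isLocalization_subalgebra [IsLocalRing B] (P : Ideal S) [P.IsPrime]
    [IsLocalization.AtPrime B P] (D : Subalgebra A B) (hD : ∀ s : S, algebraMap S B s ∈ D) :
    IsLocalization.AtPrime B ((maximalIdeal B).comap (algebraMap D B)) := by
  constructor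
  constructor
  · rintro ⟨d, hd⟩
    have : algebraMap D B d ∉ maximalIdeal B := hd
    exact IsLocalRing.notMem_maximalIdeal.1 this
  · intro b
    obtain ⟨⟨s, t⟩, hst⟩ := IsLocalization.surj P.primeCompl b
    have hunit : IsUnit (algebraMap S B t) := IsLocalization.map_units B t
    have htm : (⟨algebraMap S B t, hD t⟩ : D) ∈
        ((maximalIdeal B).comap (algebraMap D B)).primeCompl := by
      intro hmem
      change algebraMap D B ⟨algebraMap S B t, hD t⟩ ∈ maximalIdeal B at hmem
      exact IsLocalRing.notMem_maximalIdeal.2 hunit hmem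
    exact ⟨⟨⟨algebraMap S B s, hD s⟩, ⟨⟨algebraMap S B t, hD t⟩, htm⟩⟩, hst⟩
  · intro x y hxy
    refine ⟨1, ?_⟩
    have : x = y := Subtype.ext hxy
    rw [this]

end Loc

end Groth.Agent.Lib.Helper34.Miracle
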