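import Mathlib
import Groth.Agent.Lib.Helper34.MiracleA

/-!
# Flatness of a local ring of a finite algebra over a regular local ring, main algebra statement
-/

set_option autoImplicit false
universe u
open IsLocalRing TensorProduct

namespace Groth.Agent.Lib.Helper34.Miracle

theorem flat_of_finite_of_regular {R S A B : Type u} [CommRing R] [CommRing S] [CommRing A]
    [CommRing B] [Algebra R S] [Module.Finite R S] [Algebra R A] [Algebra S B] [Algebra A B]
    [Algebra R B] [IsScalarTower R S B] [IsScalarTower R A B]
    (P : Ideal S) [P.IsPrime] [IsLocalization.AtPrime B P]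
    [IsRegularLocalRing A] [IsRegularLocalRing B] [IsLocalHom (algebraMap A B)]
    (hinj : Function.Injective (algebraMap A B)) : Module.Flat A B := by
  haveI : IsDomain A := Groth.Agent.Lib.Helper76.isDomain_of_isRegularLocalRing A
  haveI : IsDomain B := Groth.Agent.Lib.Helper76.isDomain_of_isRegularLocalRing B
  haveI : UniqueFactorizationMonoid A :=
    Groth.Agent.Lib.Helper94.RegularUFD.uniqueFactorizationMonoid_of_isRegularLocalRing A
  haveI : IsIntegrallyClosed A := inferInstance
  haveI : LocCoh.IsCohenMacaulayLocalRing B :=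
    Groth.Agent.Lib.Helper77.RegularCM.isCohenMacaulayLocalRing B
  obtain ⟨D, hDfin, hD⟩ := exists_finite_subalgebra R S A B
  haveI := hDfin
  haveI : Algebra.IsIntegral A D := inferInstance
  haveI : FaithfulSMul A D := (faithfulSMul_iff_algebraMap_injective A D).2
    (fun a b hab => hinj (congrArg Subtype.val hab))
  haveI : Algebra.HasGoingDown A D := inferInstance
  have hloc : (maximalIdeal B).comap (algebraMap A B) = maximalIdeal A :=
    ((IsLocalRing.local_hom_TFAE (algebraMap A B)).out 0 4).1
      (inferInstance : IsLocalHom (algebraMap A B))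
  obtain ⟨PD, hPD⟩ : ∃ PD : Ideal D, PD = (maximalIdeal B).comap (algebraMap D B) := ⟨_, rfl⟩
  haveI : PD.IsPrime := hPD ▸ Ideal.comap_isPrime _ _
  haveI : IsLocalization.AtPrime B PD := hPD ▸ isLocalization_subalgebra P D hD
  have hover : PD.comap (algebraMap A D) = maximalIdeal A := by
    rw [hPD, Ideal.comap_comap]
    have : (algebraMap D B).comp (algebraMap A D) = algebraMap A B := rfl
    rw [this]
    exact hloc
  haveI : PD.LiesOver (maximalIdeal A) := ⟨hover.symm⟩
  have hdimB : ringKrullDim B = PD.height := IsLocalization.AtPrime.ringKrullDim_eq_height PD B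
  have hht : PD.height = (maximalIdeal A).height :=
    Groth.Agent.Lib.Helper73.height_eq_of_liesOver_of_isIntegral_of_hasGoingDown
      (maximalIdeal A) PD
  have hdimA : ((maximalIdeal A).height : WithBot ℕ∞) = ringKrullDim A :=
    IsLocalRing.maximalIdeal_height_eq_ringKrullDim
  -- the fibre has dimension zero
  have hIle : (maximalIdeal A).map (algebraMap A B) ≤ maximalIdeal B := by
    rw [Ideal.map_le_iff_le_comap]
    exact hloc.ge
  have hprime : ∀ Q : Ideal B, Q.IsPrime → (maximalIdeal A).map (algebraMap A B) ≤ Q →
      Q = maximalIdeal B := by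
    intro Q hQ hIQ
    obtain ⟨QD, hQD⟩ : ∃ QD : Ideal D, QD = Q.comap (algebraMap D B) := ⟨_, rfl⟩
    haveI : QD.IsPrime := hQD ▸ Ideal.comap_isPrime _ _
    have h1 : QD.comap (algebraMap A D) = maximalIdeal A := by
      have hle : maximalIdeal A ≤ QD.comap (algebraMap A D) := by
        rw [hQD, Ideal.comap_comap]
        have : (algebraMap D B).comp (algebraMap A D) = algebraMap A B := rfl
        rw [this, ← Ideal.map_le_iff_le_comap]
        exact hIQ
      have hne : QD.comap (algebraMap A D) ≠ ⊤ := (Ideal.comap_isPrime _ QD).ne_top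
      exact ((IsLocalRing.maximalIdeal.isMaximal A).eq_of_le hne hle).symm
    have hmax : QD.IsMaximal :=
      Ideal.isMaximal_of_isIntegral_of_isMaximal_comap QD
        (h1 ▸ IsLocalRing.maximalIdeal.isMaximal A)
    have hle : QD ≤ PD := by
      rw [hQD, hPD]
      exact Ideal.comap_mono (IsLocalRing.le_maximalIdeal hQ.ne_top)
    have heq : QD = PD := hmax.eq_of_le (Ideal.IsPrime.ne_top inferInstance) hle
    have e1 : Ideal.map (algebraMap D B) (Q.under D) = Q :=
      IsLocalization.map_under PD.primeCompl B Q
    have e2 : Ideal.map (algebraMap D B) ((maximalIdeal B).under D) = maximalIdeal B :=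
      IsLocalization.map_under PD.primeCompl B (maximalIdeal B)
    have e3 : Q.under D = (maximalIdeal B).under D := by
      change Q.comap (algebraMap D B) = (maximalIdeal B).comap (algebraMap D B)
      rw [← hQD, ← hPD, heq]
    rw [← e1, e3, e2]
  have hfib : ringKrullDim (B ⧸ (maximalIdeal A).map (algebraMap A B)) = 0 := by
    haveI : Nontrivial (B ⧸ (maximalIdeal A).map (algebraMap A B)) :=
      Ideal.Quotient.nontrivial_iff.2 (fun h => (IsLocalRing.maximalIdeal.isMaximal B).ne_top
        (top_le_iff.1 (h ▸ hIle)))
    haveI : Ring.KrullDimLE 0 (B ⧸ (maximalIdeal A).map (algebraMap A B)) := by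
      rw [Ring.krullDimLE_zero_iff]
      intro Qb hQb
      have hQ : (Qb.comap (Ideal.Quotient.mk _)).IsPrime := Ideal.comap_isPrime _ _
      have hIQ : (maximalIdeal A).map (algebraMap A B) ≤ Qb.comap (Ideal.Quotient.mk _) := by
        intro z hz
        rw [Ideal.mem_comap, Ideal.Quotient.eq_zero_iff_mem.2 hz]
        exact Qb.zero_mem
      have hQm := hprime _ hQ hIQ
      have hmax : (Qb.comap (Ideal.Quotient.mk ((maximalIdeal A).map (algebraMap A B)))).IsMaximal :=
        hQm ▸ IsLocalRing.maximalIdeal.isMaximal B
      have hsurj : Function.Surjective (Ideal.Quotient.mk ((maximalIdeal A).map (algebraMap A B))) :=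
        Ideal.Quotient.mk_surjective
      have := Ideal.map_eq_top_or_isMaximal_of_surjective _ hsurj hmax
      rw [Ideal.map_comap_of_surjective _ hsurj] at this
      exact this.resolve_left hQb.ne_top
    exact le_antisymm ((Ring.krullDimLE_iff).1 inferInstance) ringKrullDim_nonneg_of_nontrivial
  apply Groth.Agent.S2082.result
  rw [hfib, add_zero, hdimB, hht, hdimA]

end Groth.Agent.Lib.Helper34.Miracle
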