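import Mathlib
import Groth.Agent.Lib.Helper34.MiracleB
import Groth.Agent.Lib.Helper34.AffImgA

/-!
# A finite morphism between regular schemes whose components dominate components is flat
-/

set_option autoImplicit false
universe u
open CategoryTheory CategoryTheory.Limits AlgebraicGeometry TopologicalSpace IsLocalRing

namespace Groth.Agent.Lib.Helper34.Miracle

open Groth.Agent.Lib.Helper34.AffImg

theorem stalkMap_injective_of_dominant {X Y : Scheme.{u}} (f : X ⟶ Y) (x : X)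
    [IsDomain (X.presheaf.stalk x)] [IsDomain (Y.presheaf.stalk (f x))]
    (hdom : ∀ Z ∈ irreducibleComponents (X : Type u),
      closure (f.base '' Z) ∈ irreducibleComponents (Y : Type u)) :
    Function.Injective (f.stalkMap x).hom := by
  obtain ⟨ξ₀, hξ₀⟩ : ∃ ξ₀ : Spec (X.presheaf.stalk x), ξ₀.asIdeal = ⊥ :=
    ⟨⟨⊥, Ideal.isPrime_bot⟩, rfl⟩
  obtain ⟨η₀, hη₀⟩ : ∃ η₀ : Spec (Y.presheaf.stalk (f x)), η₀.asIdeal = ⊥ :=
    ⟨⟨⊥, Ideal.isPrime_bot⟩, rfl⟩
  obtain ⟨ξ, hξ⟩ : ∃ ξ : X, ξ = X.fromSpecStalk x ξ₀ := ⟨_, rfl⟩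
  have hξx : ξ ⤳ x := by
    have : ξ ∈ Set.range (X.fromSpecStalk x) := ⟨ξ₀, hξ.symm⟩
    rw [Scheme.range_fromSpecStalk] at this
    exact this
  have hmin : IsMinPt ξ := by
    intro z hz
    have hzx : z ∈ Set.range (X.fromSpecStalk x) := by
      rw [Scheme.range_fromSpecStalk]
      exact hz.trans hξx
    obtain ⟨z', rfl⟩ := hzx
    rw [hξ, (X.fromSpecStalk x).isEmbedding.isInducing.specializes_iff] at hz
    have hle : @LE.le (PrimeSpectrum ↑(X.presheaf.stalk x)) _ z' ξ₀ :=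
      (PrimeSpectrum.le_iff_specializes (R := ↑(X.presheaf.stalk x)) z' ξ₀).2 hz
    have hle' : z'.asIdeal ≤ ξ₀.asIdeal := hle
    have : z' = ξ₀ := by
      apply PrimeSpectrum.ext
      rw [hξ₀, eq_bot_iff, ← hξ₀]
      exact hle'
    rw [this, hξ]
  have hZ : closure ({ξ} : Set X) ∈ irreducibleComponents (X : Type u) :=
    mem_irreducibleComponents_of_isMinPt hmin
  have hcl : closure (f.base '' closure ({ξ} : Set X)) = closure ({f ξ} : Set Y) := by
    apply subset_antisymm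
    · apply closure_minimal _ isClosed_closure
      refine (image_closure_subset_closure_image f.continuous).trans ?_
      rw [Set.image_singleton]
    · apply closure_mono
      rintro _ rfl
      exact ⟨ξ, subset_closure rfl, rfl⟩
  have hminY : IsMinPt (f ξ) := by
    apply isMinPt_of_mem_irreducibleComponents
    rw [← hcl]
    exact hdom _ hZ
  have hnat : f ξ = Y.fromSpecStalk (f x) (Spec.map (f.stalkMap x) ξ₀) := by
    rw [hξ, ← Scheme.Hom.comp_apply, ← Scheme.Hom.comp_apply,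
      Scheme.SpecMap_stalkMap_fromSpecStalk]
  have hle : @LE.le (PrimeSpectrum ↑(Y.presheaf.stalk (f x))) _ η₀
      (Spec.map (f.stalkMap x) ξ₀) := by
    change η₀.asIdeal ≤ _
    rw [hη₀]
    exact bot_le
  have hsp : Y.fromSpecStalk (f x) η₀ ⤳ f ξ := by
    rw [hnat, (Y.fromSpecStalk (f x)).isEmbedding.isInducing.specializes_iff]
    exact (PrimeSpectrum.le_iff_specializes (R := ↑(Y.presheaf.stalk (f x))) _ _).1 hle
  have heq : Y.fromSpecStalk (f x) η₀ = f ξ := hminY _ hsp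
  rw [hnat] at heq
  have heq' : η₀ = Spec.map (f.stalkMap x) ξ₀ :=
    (Y.fromSpecStalk (f x)).isEmbedding.injective heq
  have hker : RingHom.ker (f.stalkMap x).hom = ⊥ := by
    have h1 : (Spec.map (f.stalkMap x) ξ₀).asIdeal = Ideal.comap (f.stalkMap x).hom ξ₀.asIdeal :=
      rfl
    rw [← heq', hη₀, hξ₀] at h1
    rw [RingHom.ker_eq_comap_bot]
    exact h1.symm
  exact (RingHom.injective_iff_ker_eq_bot _).2 hker

theorem flat_of_finite_regular {X Y : Scheme.{u}} (f : X ⟶ Y) [IsFinite f]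
    (hX : ∀ x : X, IsRegularLocalRing (X.presheaf.stalk x))
    (hY : ∀ y : Y, IsRegularLocalRing (Y.presheaf.stalk y))
    (hdom : ∀ Z ∈ irreducibleComponents (X : Type u),
      closure (f.base '' Z) ∈ irreducibleComponents (Y : Type u)) :
    Flat f := by
  apply Flat.of_stalkMap
  intro x
  haveI := hX x
  haveI := hY (f x)
  haveI : IsDomain (X.presheaf.stalk x) := Groth.Agent.Lib.Helper76.isDomain_of_isRegularLocalRing _
  haveI : IsDomain (Y.presheaf.stalk (f x)) :=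
    Groth.Agent.Lib.Helper76.isDomain_of_isRegularLocalRing _
  have hinj := stalkMap_injective_of_dominant f x hdom
  obtain ⟨_, ⟨V, hV : IsAffineOpen V, rfl⟩, hyV, -⟩ :=
    Y.isBasis_affineOpens.exists_subset_of_mem_open (Set.mem_univ (f x)) isOpen_univ
  have hU : IsAffineOpen (f ⁻¹ᵁ V) := hV.preimage f
  have hxU : x ∈ f ⁻¹ᵁ V := hyV
  letI : Algebra Γ(Y, V) Γ(X, f ⁻¹ᵁ V) := (f.app V).hom.toAlgebra
  haveI : Module.Finite Γ(Y, V) Γ(X, f ⁻¹ᵁ V) := f.finite_app V hV
  letI : Algebra Γ(Y, V) (Y.presheaf.stalk (f x)) := Y.presheaf.algebra_section_stalk ⟨f x, hyV⟩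
  letI : Algebra Γ(X, f ⁻¹ᵁ V) (X.presheaf.stalk x) := X.presheaf.algebra_section_stalk ⟨x, hxU⟩
  letI : Algebra (Y.presheaf.stalk (f x)) (X.presheaf.stalk x) := (f.stalkMap x).hom.toAlgebra
  letI : Algebra Γ(Y, V) (X.presheaf.stalk x) :=
    ((algebraMap Γ(X, f ⁻¹ᵁ V) (X.presheaf.stalk x)).comp
      (algebraMap Γ(Y, V) Γ(X, f ⁻¹ᵁ V))).toAlgebra
  haveI : IsScalarTower Γ(Y, V) Γ(X, f ⁻¹ᵁ V) (X.presheaf.stalk x) :=
    IsScalarTower.of_algebraMap_eq' rfl
  haveI : IsScalarTower Γ(Y, V) (Y.presheaf.stalk (f x)) (X.presheaf.stalk x) := by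
    apply IsScalarTower.of_algebraMap_eq'
    have := Scheme.Hom.germ_stalkMap f V x hyV
    exact congrArg CommRingCat.Hom.hom this.symm
  haveI : IsLocalization.AtPrime (X.presheaf.stalk x) (hU.primeIdealOf ⟨x, hxU⟩).asIdeal :=
    hU.isLocalization_stalk ⟨x, hxU⟩
  haveI : IsLocalHom (algebraMap (Y.presheaf.stalk (f x)) (X.presheaf.stalk x)) := by
    rw [RingHom.algebraMap_toAlgebra]; infer_instance
  exact flat_of_finite_of_regular (R := Γ(Y, V)) (S := Γ(X, f ⁻¹ᵁ V))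
    (hU.primeIdealOf ⟨x, hxU⟩).asIdeal hinj

end Groth.Agent.Lib.Helper34.Miracle
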