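import Mathlib.Algebra.Polynomial.Reverse
import Mathlib.Algebra.Polynomial.Eval.Degree
import Mathlib.Analysis.Complex.Polynomial.Basic
import Mathlib.Tactic.Ring
import Mathlib.Tactic.Linarith
import Mathlib.Tactic.FieldSimp
import Mathlib.Tactic.LinearCombination

/-!
# `Q`-self-reciprocal polynomials over `ℂ` factor into quadratics `1 - β X + Q X²` (helper34)
-/

set_option autoImplicit false

namespace Groth.Agent.Lib.Helper34.QRecip

open Polynomial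

variable (Q : ℂ)

/-- The functional equation with formal degree `N` and constant `κ`:
`κ L(t) = (Q t)^N L(1/(Q t))`. -/
def FE (N : ℕ) (κ : ℂ) (L : ℂ[X]) : Prop :=
  L.natDegree ≤ N ∧ C κ * L = (reflect N L).comp (C Q * X)

variable {Q}

theorem FE_mul_cancel {N₁ N₂ : ℕ} {κ₁ κ : ℂ} {A B : ℂ[X]} (hA : FE Q N₁ κ₁ A) (hA0 : A ≠ 0)
    (hκ₁ : κ₁ ≠ 0) (hB : B.natDegree ≤ N₂) (hAB : FE Q (N₁ + N₂) κ (A * B)) :
    FE Q N₂ (κ / κ₁) B := by
  refine ⟨hB, ?_⟩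
  have h1 := hAB.2
  rw [reflect_mul A B hA.1 hB, mul_comp, ← hA.2] at h1
  have h2 : C κ₁ * A ≠ 0 := mul_ne_zero (by rwa [Ne, C_eq_zero]) hA0
  apply mul_left_cancel₀ h2
  rw [← h1]
  have : κ = κ₁ * (κ / κ₁) := by field_simp
  conv_rhs => rw [this, C_mul]
  ring

theorem FE_eval {N : ℕ} {κ : ℂ} {L : ℂ[X]} (h : FE Q N κ L) {ρ : ℂ} (hρ : ρ ≠ 0) (hQ : Q ≠ 0) :
    κ * L.eval (ρ⁻¹ * Q⁻¹) * ρ ^ N = L.eval ρ := by
  have h1 := congrArg (Polynomial.eval (ρ⁻¹ * Q⁻¹)) h.2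
  rw [eval_mul, eval_C, eval_comp, eval_mul, eval_C, eval_X] at h1
  have h2 : Q * (ρ⁻¹ * Q⁻¹) = ρ⁻¹ := by field_simp
  rw [h2] at h1
  letI : Invertible ρ := invertibleOfNonzero hρ
  have h3 := eval₂_reflect_mul_pow (RingHom.id ℂ) ρ N L h.1
  rw [invOf_eq_inv] at h3
  rw [h1]
  exact h3


/-- Coefficient form of the functional equation. -/
theorem FE_of_coeff {N : ℕ} {κ : ℂ} {L : ℂ[X]} (hdeg : L.natDegree ≤ N)
    (h : ∀ j, j ≤ N → κ * L.coeff j = L.coeff (N - j) * Q ^ j) : FE Q N κ L := by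
  refine ⟨hdeg, ?_⟩
  ext n
  rw [coeff_C_mul, comp_C_mul_X_coeff, coeff_reflect]
  by_cases hn : n ≤ N
  · rw [revAt_le hn]
    exact h n hn
  · rw [not_le] at hn
    rw [revAt_eq_self_of_lt hn, coeff_eq_zero_of_natDegree_lt (lt_of_le_of_lt hdeg hn)]
    ring

theorem coeff_of_FE {N : ℕ} {κ : ℂ} {L : ℂ[X]} (h : FE Q N κ L) (j : ℕ) (hj : j ≤ N) :
    κ * L.coeff j = L.coeff (N - j) * Q ^ j := by
  have := congrArg (fun p => Polynomial.coeff p j) h.2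
  beta_reduce at this
  rwa [coeff_C_mul, comp_C_mul_X_coeff, coeff_reflect, revAt_le hj] at this

variable (Q) in
/-- The quadratic `1 - β X + Q X²`. -/
noncomputable def quad (β : ℂ) : ℂ[X] := 1 - C β * X + C Q * X ^ 2

theorem coeff_quad (β : ℂ) (n : ℕ) : (quad Q β).coeff n =
    if n = 0 then 1 else if n = 1 then -β else if n = 2 then Q else 0 := by
  unfold quad
  rw [coeff_add, coeff_sub, coeff_one, coeff_C_mul, coeff_C_mul, coeff_X, coeff_X_pow]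
  rcases n with _ | _ | _ | n <;> simp

theorem natDegree_quad_le (β : ℂ) : (quad Q β).natDegree ≤ 2 := by
  rw [natDegree_le_iff_coeff_eq_zero]
  intro n hn
  rw [coeff_quad, if_neg (by omega), if_neg (by omega), if_neg (by omega)]

theorem quad_FE (β : ℂ) : FE Q 2 Q (quad Q β) := by
  apply FE_of_coeff (natDegree_quad_le β)
  intro j hj
  rw [coeff_quad, coeff_quad]
  interval_cases j <;> simp <;> ring

theorem lin_FE {ρ : ℂ} (hρ : ρ * ρ * Q = 1) : FE Q 1 (-ρ * Q) (X - C ρ) := by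
  have hdeg : (X - C ρ : ℂ[X]).natDegree ≤ 1 := by rw [natDegree_X_sub_C]
  apply FE_of_coeff hdeg
  intro j hj
  rw [coeff_sub, coeff_sub, coeff_X, coeff_X, coeff_C, coeff_C]
  interval_cases j
  · simp
    linear_combination hρ
  · simp


theorem natDegree_quad (hQ : Q ≠ 0) (β : ℂ) : (quad Q β).natDegree = 2 := by
  apply le_antisymm (natDegree_quad_le β)
  apply le_natDegree_of_ne_zero
  rw [coeff_quad]
  simpa using hQ

theorem quad_ne_zero (β : ℂ) : quad Q β ≠ 0 := by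
  intro h
  have := coeff_quad (Q := Q) β 0
  rw [h, coeff_zero] at this
  simp at this

theorem quad_eq (hQ : Q ≠ 0) {ρ : ℂ} (hρ : ρ ≠ 0) :
    quad Q (ρ⁻¹ + Q * ρ) = C Q * ((X - C ρ) * (X - C (ρ⁻¹ * Q⁻¹))) := by
  unfold quad
  have h1 : (C Q : ℂ[X]) * C (ρ⁻¹ * Q⁻¹) = C ρ⁻¹ := by
    rw [← C_mul]; congr 1; field_simp
  have h2 : (C ρ : ℂ[X]) * C (ρ⁻¹ * Q⁻¹) * C Q = 1 := by
    rw [← C_mul, ← C_mul, ← C_1]; congr 1; field_simp
  have h3 : (C (ρ⁻¹ + Q * ρ) : ℂ[X]) = C ρ⁻¹ + C Q * C ρ := by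
    rw [C_add, C_mul]
  rw [h3]
  linear_combination X * h1 - h2

theorem exists_quad_dvd (hQ : Q ≠ 0) {g : ℕ} {L : ℂ[X]}
    (hL : FE Q (2 * (g + 1)) (Q ^ (g + 1)) L) (h0 : L.coeff 0 ≠ 0) : ∃ β, quad Q β ∣ L := by
  have hκ : Q ^ (g + 1) ≠ 0 := pow_ne_zero _ hQ
  have hlead : L.coeff (2 * (g + 1)) ≠ 0 := by
    have := coeff_of_FE hL 0 (Nat.zero_le _)
    rw [Nat.sub_zero, pow_zero, mul_one] at this
    rw [← this]
    exact mul_ne_zero hκ h0
  have hL0 : L ≠ 0 := by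
    rintro rfl
    simp at h0
  have hdeg : L.degree ≠ 0 := by
    have h1 : 2 * (g + 1) ≤ L.natDegree := le_natDegree_of_ne_zero hlead
    rw [degree_eq_natDegree hL0]
    intro h
    have : L.natDegree = 0 := by exact_mod_cast h
    omega
  obtain ⟨ρ, hρroot⟩ := IsAlgClosed.exists_root L hdeg
  have hρ : ρ ≠ 0 := by
    rintro rfl
    rw [IsRoot.def, ← coeff_zero_eq_eval_zero] at hρroot
    exact h0 hρroot
  have hρ'root : L.IsRoot (ρ⁻¹ * Q⁻¹) := by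
    have := FE_eval hL hρ hQ
    rw [hρroot] at this
    rw [IsRoot.def]
    have h1 : ρ ^ (2 * (g + 1)) ≠ 0 := pow_ne_zero _ hρ
    rcases mul_eq_zero.1 this with h | h
    · rcases mul_eq_zero.1 h with h | h
      · exact absurd h hκ
      · exact h
    · exact absurd h h1
  refine ⟨ρ⁻¹ + Q * ρ, ?_⟩
  rw [quad_eq hQ hρ]
  have hunit : IsUnit (C Q : ℂ[X]) := isUnit_C.2 (isUnit_iff_ne_zero.2 hQ)
  rw [hunit.mul_left_dvd]
  by_cases hne : ρ = ρ⁻¹ * Q⁻¹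
  · -- double root
    rw [← hne]
    have hρρ : ρ * ρ * Q = 1 := by
      have : ρ * ρ * Q = ρ * (ρ⁻¹ * Q⁻¹) * Q := by rw [← hne]
      rw [this]
      field_simp
    obtain ⟨L₂, hL₂⟩ := dvd_iff_isRoot.2 hρroot
    have hX : (X - C ρ : ℂ[X]) ≠ 0 := X_sub_C_ne_zero ρ
    have hL₂0 : L₂ ≠ 0 := by
      rintro rfl
      rw [mul_zero] at hL₂
      exact hL0 hL₂
    have hdeg₂ : L₂.natDegree ≤ 2 * g + 1 := by
      have := hL.1
      rw [hL₂, natDegree_mul hX hL₂0, natDegree_X_sub_C] at this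
      omega
    have hκ₁ : -ρ * Q ≠ 0 := mul_ne_zero (neg_ne_zero.2 hρ) hQ
    have hL' : FE Q (1 + (2 * g + 1)) (Q ^ (g + 1)) ((X - C ρ) * L₂) := by
      rw [← hL₂, show 1 + (2 * g + 1) = 2 * (g + 1) by ring]
      exact hL
    have hFE₂ := FE_mul_cancel (lin_FE hρρ) hX hκ₁ hdeg₂ hL'
    have hev := FE_eval hFE₂ hρ hQ
    rw [← hne] at hev
    have hpow : ρ ^ (2 * g) * Q ^ g = 1 := by
      have : (ρ * ρ * Q) ^ g = 1 := by rw [hρρ, one_pow]
      rw [← this]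
      ring
    have hcoef : Q ^ (g + 1) / (-ρ * Q) * ρ ^ (2 * g + 1) = -(ρ ^ (2 * g) * Q ^ g) := by
      field_simp
      ring
    have hy : L₂.eval ρ = 0 := by
      have h1 : Q ^ (g + 1) / (-ρ * Q) * eval ρ L₂ * ρ ^ (2 * g + 1) =
          (Q ^ (g + 1) / (-ρ * Q) * ρ ^ (2 * g + 1)) * eval ρ L₂ := by ring
      rw [h1, hcoef, hpow] at hev
      linear_combination (-1 / 2 : ℂ) * hev
    obtain ⟨L₃, hL₃⟩ := dvd_iff_isRoot.2 hy
    exact ⟨L₃, by rw [hL₂, hL₃]; ring⟩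
  · apply IsCoprime.mul_dvd
    · apply isCoprime_X_sub_C_of_isUnit_sub
      exact isUnit_iff_ne_zero.2 (sub_ne_zero.2 hne)
    · exact dvd_iff_isRoot.2 hρroot
    · exact dvd_iff_isRoot.2 hρ'root

theorem exists_factorization (hQ : Q ≠ 0) : ∀ (g : ℕ) (L : ℂ[X]), FE Q (2 * g) (Q ^ g) L →
    L.coeff 0 = 1 → ∃ β : Fin g → ℂ, L = ∏ i, quad Q (β i) := by
  intro g
  induction g with
  | zero =>
    intro L hL h0
    refine ⟨Fin.elim0, ?_⟩
    have h1 : L.natDegree = 0 := by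
      have := hL.1
      omega
    rw [eq_C_of_natDegree_eq_zero h1, h0]
    simp
  | succ g ih =>
    intro L hL h0
    obtain ⟨β₀, L₁, hL₁⟩ := exists_quad_dvd hQ hL (by rw [h0]; exact one_ne_zero)
    have hL0 : L ≠ 0 := by
      rintro rfl
      simp at h0
    have hL₁0 : L₁ ≠ 0 := by
      rintro rfl
      rw [mul_zero] at hL₁
      exact hL0 hL₁
    have hdeg₁ : L₁.natDegree ≤ 2 * g := by
      have := hL.1
      rw [hL₁, natDegree_mul (quad_ne_zero β₀) hL₁0, natDegree_quad hQ] at this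
      omega
    have hL' : FE Q (2 + 2 * g) (Q ^ (g + 1)) (quad Q β₀ * L₁) := by
      rw [← hL₁, show 2 + 2 * g = 2 * (g + 1) by ring]
      exact hL
    have hFE₁ := FE_mul_cancel (quad_FE β₀) (quad_ne_zero β₀) hQ hdeg₁ hL'
    have hκ : Q ^ (g + 1) / Q = Q ^ g := by
      rw [pow_succ]; field_simp
    rw [hκ] at hFE₁
    have h0₁ : L₁.coeff 0 = 1 := by
      have := congrArg (fun p => Polynomial.coeff p 0) hL₁
      beta_reduce at this
      rw [mul_coeff_zero, coeff_quad, if_pos rfl, one_mul, h0] at this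
      exact this.symm
    obtain ⟨β', hβ'⟩ := ih L₁ hFE₁ h0₁
    refine ⟨Fin.cons β₀ β', ?_⟩
    rw [Fin.prod_univ_succ, Fin.cons_zero, hL₁, hβ']
    congr 1

end Groth.Agent.Lib.Helper34.QRecip
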