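import Mathlib

/-!
# Valuation subrings of `k(X)` containing the constants
-/

namespace Groth.Agent.Lib.Helper34.RatVal

open Polynomial IsDedekindDomain

variable {k : Type*} [Field k]

theorem algebraMap_polynomial_mem (O : ValuationSubring (RatFunc k))
    (hk : (algebraMap k (RatFunc k)).range ≤ O.toSubring) (hX : (RatFunc.X : RatFunc k) ∈ O)
    (p : k[X]) : algebraMap k[X] (RatFunc k) p ∈ O := by
  induction p using Polynomial.induction_on' with
  | add p q hp hq => rw [map_add]; exact O.add_mem _ _ hp hq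
  | monomial n a =>
    rw [← C_mul_X_pow_eq_monomial, map_mul, map_pow, RatFunc.algebraMap_X, RatFunc.algebraMap_C]
    refine O.mul_mem _ _ (hk ⟨a, ?_⟩) (O.pow_mem hX n)
    rw [RatFunc.algebraMap_eq_C]

/-- key dichotomy: in terms of numerator and denominator -/
theorem mem_iff_num_denom (O : ValuationSubring (RatFunc k)) (r : RatFunc k) :
    r ∈ O ↔ O.valuation (algebraMap k[X] (RatFunc k) r.num) ≤
      O.valuation (algebraMap k[X] (RatFunc k) r.denom) := by
  have hd : O.valuation (algebraMap k[X] (RatFunc k) r.denom) ≠ 0 := by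
    rw [Valuation.ne_zero_iff]
    exact (map_ne_zero_iff _ (IsFractionRing.injective k[X] (RatFunc k))).2 r.denom_ne_zero
  rw [← ValuationSubring.valuation_le_one_iff]
  conv_lhs => rw [← RatFunc.num_div_denom r, map_div₀]
  rw [div_le_one₀ (zero_lt_iff.2 hd)]

theorem eq_adic_of_X_mem (O : ValuationSubring (RatFunc k))
    (hk : (algebraMap k (RatFunc k)).range ≤ O.toSubring) (hne : O ≠ ⊤)
    (hX : (RatFunc.X : RatFunc k) ∈ O) :
    ∃ v : HeightOneSpectrum k[X], O = (v.valuation (RatFunc k)).valuationSubring := by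
  obtain ⟨φ, hφ⟩ : ∃ φ : k[X] →+* O, ∀ p, ((φ p : O) : RatFunc k) = algebraMap k[X] (RatFunc k) p :=
    ⟨(algebraMap k[X] (RatFunc k)).codRestrict O.toSubring (algebraMap_polynomial_mem O hk hX),
      fun p => rfl⟩
  obtain ⟨P, hP⟩ : ∃ P : Ideal k[X], P = (IsLocalRing.maximalIdeal O).comap φ := ⟨_, rfl⟩
  have hPprime : P.IsPrime := by rw [hP]; exact Ideal.comap_isPrime φ _
  have hle : ∀ p : k[X], O.valuation (algebraMap k[X] (RatFunc k) p) ≤ 1 := fun p => by
    rw [← hφ]; exact O.valuation_le_one _
  have hmemP : ∀ p : k[X], p ∈ P ↔ O.valuation (algebraMap k[X] (RatFunc k) p) < 1 := by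
    intro p
    rw [hP, Ideal.mem_comap, ValuationSubring.valuation_lt_one_iff, hφ]
  have hnotP : ∀ p : k[X], p ∉ P → O.valuation (algebraMap k[X] (RatFunc k) p) = 1 := by
    intro p hp
    rw [hmemP] at hp
    exact le_antisymm (hle p) (not_lt.1 hp)
  have hPne : P ≠ ⊥ := by
    intro hbot
    apply hne
    rw [eq_top_iff]
    intro r _
    rw [mem_iff_num_denom]
    have : r.denom ∉ P := by rw [hbot, Ideal.mem_bot]; exact r.denom_ne_zero
    rw [hnotP _ this]
    exact hle _
  refine ⟨⟨P, hPprime, hPne⟩, ?_⟩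
  obtain ⟨v, hv⟩ : ∃ v : HeightOneSpectrum k[X], v = ⟨P, hPprime, hPne⟩ := ⟨_, rfl⟩
  rw [← hv]
  have hvP : v.asIdeal = P := by rw [hv]
  have key : ∀ r : RatFunc k, r ∈ O ↔ r.denom ∉ P := by
    intro r
    rw [mem_iff_num_denom]
    constructor
    · intro h hd
      have hn : r.num ∉ P := by
        intro hn
        obtain ⟨a, b, hab⟩ := r.isCoprime_num_denom
        have : (1 : k[X]) ∈ P := by
          rw [← hab]
          exact P.add_mem (P.mul_mem_left _ hn) (P.mul_mem_left _ hd)
        exact hPprime.ne_top ((Ideal.eq_top_iff_one _).2 this)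
      rw [hnotP _ hn] at h
      exact absurd ((hmemP _).1 hd) (not_lt.2 h)
    · intro hd
      rw [hnotP _ hd]
      exact hle _
  have key' : ∀ r : RatFunc k, r ∈ (v.valuation (RatFunc k)).valuationSubring ↔ r.denom ∉ P := by
    intro r
    rw [Valuation.mem_valuationSubring_iff]
    have hd0 : v.valuation (RatFunc k) (algebraMap k[X] (RatFunc k) r.denom) ≠ 0 := by
      rw [Valuation.ne_zero_iff]
      exact (map_ne_zero_iff _ (IsFractionRing.injective k[X] (RatFunc k))).2 r.denom_ne_zero
    conv_lhs => rw [← RatFunc.num_div_denom r, map_div₀]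
    rw [div_le_one₀ (zero_lt_iff.2 hd0)]
    constructor
    · intro h hd
      have hn : r.num ∉ P := by
        intro hn
        obtain ⟨a, b, hab⟩ := r.isCoprime_num_denom
        have : (1 : k[X]) ∈ P := by
          rw [← hab]
          exact P.add_mem (P.mul_mem_left _ hn) (P.mul_mem_left _ hd)
        exact hPprime.ne_top ((Ideal.eq_top_iff_one _).2 this)
      rw [← hvP] at hn hd
      rw [(HeightOneSpectrum.valuation_eq_one_iff_notMem v).2 hn] at h
      exact absurd ((HeightOneSpectrum.valuation_lt_one_iff_mem v _).2 hd) (not_lt.2 h)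
    · intro hd
      rw [← hvP] at hd
      rw [(HeightOneSpectrum.valuation_eq_one_iff_notMem v).2 hd]
      exact HeightOneSpectrum.valuation_le_one v _
  ext r
  rw [key, key']

/-- the valuation of a nonzero constant is `1` -/
theorem valuation_const (O : ValuationSubring (RatFunc k))
    (hk : (algebraMap k (RatFunc k)).range ≤ O.toSubring) {c : k} (hc : c ≠ 0) :
    O.valuation (algebraMap k (RatFunc k) c) = 1 := by
  have h1 : O.valuation (algebraMap k (RatFunc k) c) ≤ 1 :=
    (ValuationSubring.valuation_le_one_iff O _).2 (hk ⟨c, rfl⟩)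
  have h2 : O.valuation (algebraMap k (RatFunc k) c⁻¹) ≤ 1 :=
    (ValuationSubring.valuation_le_one_iff O _).2 (hk ⟨c⁻¹, rfl⟩)
  rw [map_inv₀, map_inv₀] at h2
  have h0 : O.valuation (algebraMap k (RatFunc k) c) ≠ 0 := by
    rw [Valuation.ne_zero_iff]
    exact (map_ne_zero_iff _ (algebraMap k (RatFunc k)).injective).2 hc
  exact le_antisymm h1 ((inv_le_one₀ (zero_lt_iff.2 h0)).1 h2)

theorem valuation_const_le (O : ValuationSubring (RatFunc k))
    (hk : (algebraMap k (RatFunc k)).range ≤ O.toSubring) (c : k) :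
    O.valuation (algebraMap k (RatFunc k) c) ≤ 1 :=
  (ValuationSubring.valuation_le_one_iff O _).2 (hk ⟨c, rfl⟩)

theorem valuation_polynomial_le (O : ValuationSubring (RatFunc k))
    (hk : (algebraMap k (RatFunc k)).range ≤ O.toSubring)
    (hX : 1 < O.valuation (RatFunc.X : RatFunc k)) (p : k[X]) :
    O.valuation (algebraMap k[X] (RatFunc k) p) ≤ O.valuation (RatFunc.X : RatFunc k) ^ p.natDegree := by
  conv_lhs => rw [p.as_sum_range, map_sum]
  apply Valuation.map_sum_le
  intro i hi
  rw [Finset.mem_range] at hi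
  rw [← C_mul_X_pow_eq_monomial, map_mul, map_pow, RatFunc.algebraMap_X, RatFunc.algebraMap_C,
    ← RatFunc.algebraMap_eq_C, map_mul, map_pow]
  calc O.valuation (algebraMap k (RatFunc k) (p.coeff i)) * O.valuation (RatFunc.X : RatFunc k) ^ i
      ≤ 1 * O.valuation (RatFunc.X : RatFunc k) ^ i :=
        mul_le_mul_left (valuation_const_le O hk _) _
    _ = O.valuation (RatFunc.X : RatFunc k) ^ i := one_mul _
    _ ≤ O.valuation (RatFunc.X : RatFunc k) ^ p.natDegree :=
        pow_le_pow_right₀ hX.le (Nat.lt_succ_iff.1 hi)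

theorem valuation_polynomial (O : ValuationSubring (RatFunc k))
    (hk : (algebraMap k (RatFunc k)).range ≤ O.toSubring)
    (hX : 1 < O.valuation (RatFunc.X : RatFunc k)) {p : k[X]} (hp : p ≠ 0) :
    O.valuation (algebraMap k[X] (RatFunc k) p) = O.valuation (RatFunc.X : RatFunc k) ^ p.natDegree := by
  have hlead : O.valuation (algebraMap k[X] (RatFunc k) (C p.leadingCoeff * X ^ p.natDegree)) =
      O.valuation (RatFunc.X : RatFunc k) ^ p.natDegree := by
    rw [map_mul, map_pow, RatFunc.algebraMap_X, RatFunc.algebraMap_C, ← RatFunc.algebraMap_eq_C,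
      map_mul, map_pow, valuation_const O hk (leadingCoeff_ne_zero.2 hp), one_mul]
  have hsum := p.eraseLead_add_C_mul_X_pow
  by_cases he : p.eraseLead = 0
  · rw [he, zero_add] at hsum
    rw [hsum] at hlead
    exact hlead
  · have hdeg : p.eraseLead.natDegree < p.natDegree :=
      (eraseLead_natDegree_lt_or_eraseLead_eq_zero p).resolve_right he
    have hlt : O.valuation (algebraMap k[X] (RatFunc k) p.eraseLead) <
        O.valuation (algebraMap k[X] (RatFunc k) (C p.leadingCoeff * X ^ p.natDegree)) := by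
      rw [hlead]
      exact lt_of_le_of_lt (valuation_polynomial_le O hk hX _) (pow_lt_pow_right₀ hX hdeg)
    conv_lhs => rw [← hsum, map_add, add_comm]
    rw [Valuation.map_add_eq_of_lt_left _ hlt, hlead]

theorem eq_infty_of_X_notMem [DecidableEq (RatFunc k)] (O : ValuationSubring (RatFunc k))
    (hk : (algebraMap k (RatFunc k)).range ≤ O.toSubring)
    (hX : (RatFunc.X : RatFunc k) ∉ O) :
    O = (RatFunc.inftyValuation k).valuationSubring := by
  have hX1 : 1 < O.valuation (RatFunc.X : RatFunc k) := by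
    rw [← ValuationSubring.valuation_le_one_iff] at hX
    exact not_le.1 hX
  ext r
  by_cases hr : r = 0
  · rw [hr]
    exact ⟨fun _ => Subring.zero_mem _, fun _ => Subring.zero_mem _⟩
  have hnum : r.num ≠ 0 := RatFunc.num_ne_zero hr
  rw [mem_iff_num_denom, valuation_polynomial O hk hX1 hnum,
    valuation_polynomial O hk hX1 r.denom_ne_zero, Valuation.mem_valuationSubring_iff,
    RatFunc.inftyValuation_apply, RatFunc.inftyValuation_of_nonzero k hr, ← WithZero.exp_zero,
    WithZero.exp_le_exp, RatFunc.intDegree, sub_nonpos, Nat.cast_le]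
  constructor
  · intro h
    by_contra hlt
    exact absurd h (not_le.2 (pow_lt_pow_right₀ hX1 (not_le.1 hlt)))
  · intro h
    exact pow_le_pow_right₀ hX1.le h

theorem adic_ne_top (v : HeightOneSpectrum k[X]) :
    (v.valuation (RatFunc k)).valuationSubring ≠ ⊤ := by
  intro htop
  obtain ⟨π, hπ⟩ := v.valuation_exists_uniformizer (RatFunc k)
  have hmem : π⁻¹ ∈ (v.valuation (RatFunc k)).valuationSubring := by rw [htop]; trivial
  rw [Valuation.mem_valuationSubring_iff, map_inv₀, hπ, ← WithZero.exp_neg, neg_neg,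
    ← WithZero.exp_zero, WithZero.exp_le_exp] at hmem
  omega

theorem main [DecidableEq (RatFunc k)] (O : ValuationSubring (RatFunc k)) :
    ((algebraMap k (RatFunc k)).range ≤ O.toSubring ∧ O ≠ ⊤) ↔
      ((∃ v : IsDedekindDomain.HeightOneSpectrum (Polynomial k),
        O = (v.valuation (RatFunc k)).valuationSubring) ∨
        O = (RatFunc.inftyValuation k).valuationSubring) := by
  constructor
  · rintro ⟨hk, hne⟩
    by_cases hX : (RatFunc.X : RatFunc k) ∈ O
    · exact Or.inl (eq_adic_of_X_mem O hk hne hX)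
    · exact Or.inr (eq_infty_of_X_notMem O hk hX)
  · rintro (⟨v, rfl⟩ | rfl)
    · refine ⟨?_, adic_ne_top v⟩
      rintro _ ⟨c, rfl⟩
      change _ ∈ (v.valuation (RatFunc k)).valuationSubring
      rw [Valuation.mem_valuationSubring_iff, RatFunc.algebraMap_eq_C, ← RatFunc.algebraMap_C]
      exact v.valuation_le_one _
    · refine ⟨?_, ?_⟩
      · rintro _ ⟨c, rfl⟩
        change _ ∈ (RatFunc.inftyValuation k).valuationSubring
        rw [Valuation.mem_valuationSubring_iff, RatFunc.algebraMap_eq_C]
        by_cases hc : c = 0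
        · rw [hc, map_zero, map_zero]; exact zero_le_one
        · rw [RatFunc.inftyValuation.C k hc]
      · intro htop
        have hmem : (RatFunc.X : RatFunc k) ∈ (RatFunc.inftyValuation k).valuationSubring := by
          rw [htop]; trivial
        rw [Valuation.mem_valuationSubring_iff, RatFunc.inftyValuation.X, ← WithZero.exp_zero,
          WithZero.exp_le_exp] at hmem
        omega

end Groth.Agent.Lib.Helper34.RatVal
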