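import Mathlib
import Groth.Agent.Lib.Helper9.AdmTower

/-!
# Making a finitely generated ideal principal in a finite extension inside the fraction field

For a one-dimensional local domain `B` whose integral closure in its fraction field is a valuation
ring, and `b_1, …, b_n ∈ B` not all zero, the subalgebra `B' = B[b_j / b_i]` (with `b_i` dividing
all `b_j` in the integral closure) is finite over `B`, local of dimension one, and
`(b_1, …, b_n) B' = b_i B'`.
-/

set_option autoImplicit false

namespace Groth.Agent.Lib.Helper34.RigPtBlow

universe u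

theorem exists_finite_local_subalgebra {B : Type u} [CommRing B] [IsDomain B] [IsLocalRing B]
    (hdim : ringKrullDim B = 1)
    (hV : ValuationRing (integralClosure B (FractionRing B)))
    (n : ℕ) (b : Fin n → B) (hb : ∃ i, b i ≠ 0) :
    ∃ B' : Subalgebra B (FractionRing B), Module.Finite B ↥B' ∧ IsLocalRing ↥B' ∧
      ringKrullDim ↥B' = 1 ∧
      ∃ i, Ideal.span (Set.range (fun j => algebraMap B ↥B' (b j))) =
        Ideal.span {algebraMap B ↥B' (b i)} := by
  classical
  haveI := hV
  obtain ⟨i₀, hi₀⟩ := hb
  have hne : (Finset.univ : Finset (Fin n)).Nonempty := ⟨i₀, Finset.mem_univ _⟩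
  obtain ⟨i, -, hi⟩ := Groth.Agent.Lib.Helper9.AdmTower.exists_dvd_all Finset.univ hne
    (fun j => algebraMap B (integralClosure B (FractionRing B)) (b j))
  choose c hc using fun j => hi j (Finset.mem_univ j)
  have hinjK : Function.Injective (algebraMap B (FractionRing B)) :=
    IsFractionRing.injective B (FractionRing B)
  have hinjV : Function.Injective (algebraMap B (integralClosure B (FractionRing B))) := by
    intro x y h
    apply hinjK
    have := congrArg Subtype.val h
    simpa only [Subalgebra.coe_algebraMap] using this
  have hcK : ∀ j, algebraMap B (FractionRing B) (b j) =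
      algebraMap B (FractionRing B) (b i) * (c j : FractionRing B) := by
    intro j
    have := congrArg Subtype.val (hc j)
    simpa only [Subalgebra.coe_algebraMap, Subalgebra.coe_mul] using this
  have hle : Algebra.adjoin B (Set.range (fun j => (c j : FractionRing B))) ≤
      integralClosure B (FractionRing B) :=
    Algebra.adjoin_le (by rintro _ ⟨j, rfl⟩; exact (c j).2)
  have hfin : Module.Finite B ↥(Algebra.adjoin B (Set.range (fun j => (c j : FractionRing B)))) :=
    Algebra.finite_adjoin_of_finite_of_isIntegral (Set.finite_range _)
      (by rintro _ ⟨j, rfl⟩; exact (c j).2)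
  haveI : Algebra.IsIntegral B ↥(Algebra.adjoin B (Set.range (fun j => (c j : FractionRing B)))) :=
    Algebra.IsIntegral.of_finite B _
  have hinjB' : Function.Injective
      (algebraMap B ↥(Algebra.adjoin B (Set.range (fun j => (c j : FractionRing B))))) := by
    intro x y h
    apply hinjK
    have := congrArg Subtype.val h
    simpa only [Subalgebra.coe_algebraMap] using this
  -- locality
  letI : Algebra ↥(Algebra.adjoin B (Set.range (fun j => (c j : FractionRing B))))
      ↥(integralClosure B (FractionRing B)) := (Subalgebra.inclusion hle).toRingHom.toAlgebra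
  haveI : IsScalarTower B ↥(Algebra.adjoin B (Set.range (fun j => (c j : FractionRing B))))
      ↥(integralClosure B (FractionRing B)) := IsScalarTower.of_algebraMap_eq (fun x => rfl)
  haveI : Algebra.IsIntegral ↥(Algebra.adjoin B (Set.range (fun j => (c j : FractionRing B))))
      ↥(integralClosure B (FractionRing B)) := Algebra.IsIntegral.tower_top (R := B)
  have hιinj : Function.Injective
      (algebraMap ↥(Algebra.adjoin B (Set.range (fun j => (c j : FractionRing B))))
      ↥(integralClosure B (FractionRing B))) := Subalgebra.inclusion_injective hle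
  have hloc : IsLocalRing ↥(Algebra.adjoin B (Set.range (fun j => (c j : FractionRing B)))) := by
    apply IsLocalRing.of_unique_max_ideal
    refine ⟨(IsLocalRing.maximalIdeal ↥(integralClosure B (FractionRing B))).comap
      (algebraMap ↥(Algebra.adjoin B (Set.range (fun j => (c j : FractionRing B))))
      ↥(integralClosure B (FractionRing B))),
      Ideal.isMaximal_comap_of_isIntegral_of_isMaximal _, ?_⟩
    intro M hM
    haveI := hM
    obtain ⟨Q, hQ, hQM⟩ := Ideal.exists_ideal_over_maximal_of_isIntegral
      (S := ↥(integralClosure B (FractionRing B))) M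
      (by rw [(RingHom.injective_iff_ker_eq_bot _).mp hιinj]; exact bot_le)
    rw [← hQM, IsLocalRing.eq_maximalIdeal hQ]
  -- dimension
  haveI : Ring.KrullDimLE 1 B := Ring.krullDimLE_iff.mpr (by rw [hdim]; rfl)
  have hdim' : ringKrullDim ↥(Algebra.adjoin B (Set.range (fun j => (c j : FractionRing B)))) = 1 := by
    have h1 : Ring.KrullDimLE 1
        ↥(Algebra.adjoin B (Set.range (fun j => (c j : FractionRing B)))) :=
      Ring.KrullDimLE.mk₁' (fun I hI hIp => by
        haveI := hIp
        have hc' : I.comap (algebraMap B _) ≠ ⊥ := fun h => hI (Ideal.eq_bot_of_comap_eq_bot h)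
        have hmax : (I.comap (algebraMap B _)).IsMaximal :=
          Ideal.IsPrime.isMaximal_of_ne_bot inferInstance hc'
        exact Ideal.isMaximal_of_isIntegral_of_isMaximal_comap I hmax)
    have h2 : ¬ ringKrullDim
        ↥(Algebra.adjoin B (Set.range (fun j => (c j : FractionRing B)))) ≤ 0 := fun h => by
      haveI : Ring.KrullDimLE 0
          ↥(Algebra.adjoin B (Set.range (fun j => (c j : FractionRing B)))) :=
        Ring.krullDimLE_iff.mpr h
      have hF : IsField ↥(Algebra.adjoin B (Set.range (fun j => (c j : FractionRing B)))) :=
        Ring.KrullDimLE.isField_of_isDomain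
      have hFB : IsField B := isField_of_isIntegral_of_isField hinjB' hF
      have := ringKrullDim_eq_zero_of_isField hFB
      rw [hdim] at this
      exact one_ne_zero this
    rw [Ring.krullDimLE_iff] at h1
    exact le_antisymm h1 (Order.succ_le_of_lt (lt_of_not_ge h2))
  refine ⟨Algebra.adjoin B (Set.range (fun j => (c j : FractionRing B))), hfin, hloc, hdim', i, ?_⟩
  apply le_antisymm
  · rw [Ideal.span_le]
    rintro _ ⟨j, rfl⟩
    rw [SetLike.mem_coe, Ideal.mem_span_singleton]
    refine ⟨⟨(c j : FractionRing B), Algebra.subset_adjoin ⟨j, rfl⟩⟩, ?_⟩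
    apply Subtype.ext
    simp only [Subalgebra.coe_algebraMap, Subalgebra.coe_mul]
    exact hcK j
  · rw [Ideal.span_le]
    rintro _ rfl
    exact Ideal.subset_span ⟨i, rfl⟩

end Groth.Agent.Lib.Helper34.RigPtBlow
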