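import Mathlib

/-!
# Lifting a standard smooth algebra along a square-zero thickening of the base

For a surjection `κ : B' → B` with square-zero kernel and a standard smooth `B`-algebra `P`, lift
the relations of a submersive presentation to `B'`: the resulting `B'`-algebra `P'` is again
standard smooth (the Jacobian is a unit modulo a nilpotent ideal), in particular flat, and
`P = P' / (ker κ) P'`.
-/

set_option autoImplicit false

namespace Groth.Agent.Lib.Helper34.SmoothLift

universe u

open MvPolynomial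

theorem exists_flat_lift {B' B P : Type u} [CommRing B'] [CommRing B] [CommRing P] [Algebra B P]
    (κ : B' →+* B) (hκ : Function.Surjective κ) (hsq : RingHom.ker κ ^ 2 = ⊥)
    [Algebra.IsStandardSmooth B P] :
    ∃ (P' : Type u) (_ : CommRing P') (_ : Algebra B' P') (q : P' →+* P),
      Module.Flat B' P' ∧ Function.Surjective q ∧
      (∀ b', q (algebraMap B' P' b') = algebraMap B P (κ b')) ∧
      RingHom.ker q = (RingHom.ker κ).map (algebraMap B' P') := by
  classical
  obtain ⟨ι, σ, hσ, hι, ⟨𝓟⟩⟩ := (inferInstance : Algebra.IsStandardSmooth B P).out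
  cases nonempty_fintype σ
  have hφ : Function.Surjective (MvPolynomial.map κ : MvPolynomial ι B' →+* MvPolynomial ι B) :=
    MvPolynomial.map_surjective κ hκ
  choose v' hv' using fun j : σ => hφ (𝓟.relation j)
  let ψ : MvPolynomial ι B' →+* P :=
    (aeval 𝓟.val : MvPolynomial ι B →ₐ[B] P).toRingHom.comp (MvPolynomial.map κ)
  have hψ : ∀ f, ψ f = aeval 𝓟.val (MvPolynomial.map κ f) := fun f => rfl
  have hψJ : ∀ a ∈ Ideal.span (Set.range v'), ψ a = 0 := by
    intro a ha
    have : Ideal.span (Set.range v') ≤ RingHom.ker ψ := by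
      rw [Ideal.span_le]
      rintro _ ⟨j, rfl⟩
      simp only [SetLike.mem_coe, RingHom.mem_ker, hψ, hv']
      exact 𝓟.aeval_val_relation j
    exact this ha
  let q : MvPolynomial ι B' ⧸ Ideal.span (Set.range v') →+* P :=
    Ideal.Quotient.lift (Ideal.span (Set.range v')) ψ hψJ
  have hq : ∀ f, q (Ideal.Quotient.mk _ f) = aeval 𝓟.val (MvPolynomial.map κ f) := fun f => rfl
  have hqsurj : Function.Surjective q := by
    apply Ideal.Quotient.lift_surjective_of_surjective
    intro x
    obtain ⟨f, rfl⟩ := 𝓟.aeval_val_surjective x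
    obtain ⟨f', rfl⟩ := hφ f
    exact ⟨f', rfl⟩
  have hqalg : ∀ b', q (algebraMap B' (MvPolynomial ι B' ⧸ Ideal.span (Set.range v')) b') =
      algebraMap B P (κ b') := by
    intro b'
    have : algebraMap B' (MvPolynomial ι B' ⧸ Ideal.span (Set.range v')) b' =
        Ideal.Quotient.mk _ (C b') := rfl
    rw [this, hq, MvPolynomial.map_C, aeval_C]
  have hker : RingHom.ker q =
      (RingHom.ker κ).map (algebraMap B' (MvPolynomial ι B' ⧸ Ideal.span (Set.range v'))) := by
    apply le_antisymm
    · intro x hx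
      obtain ⟨f, rfl⟩ := Ideal.Quotient.mk_surjective x
      rw [RingHom.mem_ker, hq] at hx
      have h1 : MvPolynomial.map κ f ∈ 𝓟.ker := by
        rw [𝓟.ker_eq_ker_aeval_val, RingHom.mem_ker]; exact hx
      rw [← 𝓟.span_range_relation_eq_ker] at h1
      have h2 : Ideal.span (Set.range 𝓟.relation) =
          (Ideal.span (Set.range v')).map (MvPolynomial.map κ) := by
        rw [Ideal.map_span]
        congr 1
        ext y
        constructor
        · rintro ⟨j, rfl⟩
          exact ⟨v' j, ⟨j, rfl⟩, hv' j⟩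
        · rintro ⟨_, ⟨j, rfl⟩, rfl⟩
          exact ⟨j, (hv' j).symm⟩
      rw [h2] at h1
      obtain ⟨g, hg, hgf⟩ := (Ideal.mem_map_iff_of_surjective _ hφ).mp h1
      have h3 : f - g ∈ RingHom.ker (MvPolynomial.map κ : MvPolynomial ι B' →+* MvPolynomial ι B) := by
        rw [RingHom.mem_ker, map_sub, hgf, sub_self]
      rw [MvPolynomial.ker_map] at h3
      have h4 : Ideal.Quotient.mk (Ideal.span (Set.range v')) f =
          Ideal.Quotient.mk (Ideal.span (Set.range v')) (f - g) := by
        rw [map_sub, Ideal.Quotient.eq_zero_iff_mem.mpr hg, sub_zero]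
      rw [h4]
      have h5 : algebraMap B' (MvPolynomial ι B' ⧸ Ideal.span (Set.range v')) =
          (Ideal.Quotient.mk (Ideal.span (Set.range v'))).comp C := rfl
      rw [h5, ← Ideal.map_map]
      exact Ideal.mem_map_of_mem _ h3
    · rw [Ideal.map_le_iff_le_comap]
      intro b' hb'
      rw [Ideal.mem_comap, RingHom.mem_ker, hqalg, (RingHom.mem_ker).mp hb', map_zero]
  -- the kernel of `q` consists of square-zero elements
  have hnil : ∀ x ∈ RingHom.ker q, x ^ 2 = 0 := by
    intro x hx
    have h1 : x ^ 2 ∈ (RingHom.ker q) ^ 2 := Ideal.pow_mem_pow hx 2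
    rw [hker, ← Ideal.map_pow, hsq, Ideal.map_bot] at h1
    exact h1
  -- the submersive presentation
  let 𝓠 : Algebra.PreSubmersivePresentation B'
      (MvPolynomial ι B' ⧸ Ideal.span (Set.range v')) ι σ :=
    Algebra.PreSubmersivePresentation.naive (v := v') 𝓟.map 𝓟.map_inj
  have hjac : q 𝓠.jacobian = 𝓟.jacobian := by
    rw [Algebra.PreSubmersivePresentation.jacobian_eq_jacobiMatrix_det,
      Algebra.PreSubmersivePresentation.jacobian_eq_jacobiMatrix_det]
    have h1 : algebraMap 𝓠.Ring (MvPolynomial ι B' ⧸ Ideal.span (Set.range v')) 𝓠.jacobiMatrix.det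
        = Ideal.Quotient.mk _ 𝓠.jacobiMatrix.det := rfl
    rw [h1, hq, Algebra.Generators.algebraMap_apply, RingHom.map_det]
    congr 2
    ext i j : 1
    rw [RingHom.mapMatrix_apply, Matrix.map_apply,
      Algebra.PreSubmersivePresentation.jacobiMatrix_naive,
      Algebra.PreSubmersivePresentation.jacobiMatrix_apply, ← MvPolynomial.pderiv_map, hv']
  have hunit : IsUnit 𝓠.jacobian := by
    have h1 : IsUnit (q 𝓠.jacobian) := by rw [hjac]; exact 𝓟.jacobian_isUnit
    obtain ⟨y, hy⟩ := hqsurj (↑(h1.unit⁻¹))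
    have h2 : q (𝓠.jacobian * y - 1) = 0 := by
      rw [map_sub, map_mul, hy, map_one, IsUnit.mul_val_inv, sub_self]
    have h3 : IsNilpotent (𝓠.jacobian * y - 1) := ⟨2, hnil _ h2⟩
    have h4 : IsUnit (𝓠.jacobian * y) := by
      have := h3.isUnit_add_one
      rwa [sub_add_cancel] at this
    exact isUnit_of_mul_isUnit_left h4
  let 𝓢 : Algebra.SubmersivePresentation B'
      (MvPolynomial ι B' ⧸ Ideal.span (Set.range v')) ι σ :=
    { toPreSubmersivePresentation := 𝓠, jacobian_isUnit := hunit }
  haveI : Algebra.IsStandardSmooth B' (MvPolynomial ι B' ⧸ Ideal.span (Set.range v')) :=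
    𝓢.isStandardSmooth
  exact ⟨MvPolynomial ι B' ⧸ Ideal.span (Set.range v'), inferInstance, inferInstance, q,
    inferInstance, hqsurj, hqalg, hker⟩

end Groth.Agent.Lib.Helper34.SmoothLift
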