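import Groth.Agent.Lib.Helper34.LatticeBasis
import Groth.Agent.Lib.Helper71.TFCurv

/-!
# Torsion-free modules over a one-dimensional local domain sit between `O^n` and `O~^n`
-/

set_option autoImplicit false

universe u

namespace Groth.Agent.Lib.Helper34.TFLattice

open Function LatticeBasis

section Norm

variable {O : Type u} [CommRing O] [IsDomain O] {B : Type u} [CommRing B] [IsDomain B]
  [IsPrincipalIdealRing B] [Algebra O B] {M : Type u} [AddCommGroup M] [Module O M] {n : ℕ}

/-- renormalize a full-rank lattice in `B^n` so that it spans `B^n` over the PID `B` -/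
theorem exists_spanning (j : M →ₗ[O] (Fin n → B)) (hj : Injective j) (d : B) (hd0 : d ≠ 0)
    (hd : ∀ p : Fin n → B, ∃ m : M, j m = d • p) :
    ∃ j' : M →ₗ[O] (Fin n → B), Injective j' ∧ Submodule.span B (Set.range j') = ⊤ := by
  classical
  obtain ⟨N, hNdef⟩ : ∃ N : Submodule B (Fin n → B), N = Submodule.span B (Set.range j) :=
    ⟨_, rfl⟩
  have hN : ∀ m, j m ∈ N := fun m => hNdef ▸ Submodule.subset_span ⟨m, rfl⟩
  obtain ⟨k, β⟩ := Submodule.basisOfPid (Pi.basisFun B (Fin n)) N
  have hfinN : Module.Finite B N := Module.Finite.of_basis β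
  have hk : k = n := by
    have h1 : Module.finrank B N = k := by
      rw [Module.finrank_eq_card_basis β, Fintype.card_fin]
    have h2 : Module.finrank B N ≤ n := by
      have := Submodule.finrank_le N
      rwa [Module.finrank_fin_fun] at this
    have h3 : n ≤ Module.finrank B N := by
      let f : (Fin n → B) →ₗ[B] N :=
        { toFun := fun p => ⟨d • p, by obtain ⟨m, hm⟩ := hd p; rw [← hm]; exact hN m⟩
          map_add' := fun p p' => by
            apply Subtype.ext
            simp [smul_add]
          map_smul' := fun b p => by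
            apply Subtype.ext
            simp [smul_comm d b p] }
      have hf : Injective f := by
        intro p p' hpp
        have h : d • p = d • p' := congrArg Subtype.val hpp
        funext i
        have hi := congrFun h i
        simp only [Pi.smul_apply, smul_eq_mul] at hi
        exact mul_left_cancel₀ hd0 hi
      have := LinearMap.finrank_le_finrank_of_injective hf
      rwa [Module.finrank_fin_fun] at this
    omega
  subst hk
  let g : N ≃ₗ[B] (Fin k → B) := β.equivFun
  let j0 : M →ₗ[O] (N.restrictScalars O) := LinearMap.codRestrict (N.restrictScalars O) j hN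
  let j' : M →ₗ[O] (Fin k → B) := (g.toLinearMap.restrictScalars O) ∘ₗ j0
  have hj'app : ∀ m, j' m = g ⟨j m, hN m⟩ := fun m => rfl
  refine ⟨j', ?_, ?_⟩
  · intro m m' hmm
    rw [hj'app, hj'app] at hmm
    have := g.injective hmm
    exact hj (congrArg Subtype.val this)
  · rw [eq_top_iff]
    intro p _
    have key : ∀ (x : Fin k → B) (hx : x ∈ Submodule.span B (Set.range j)),
        g ⟨x, hNdef ▸ hx⟩ ∈ Submodule.span B (Set.range j') := by
      intro x hx
      refine Submodule.span_induction
        (p := fun x hx => g ⟨x, hNdef ▸ hx⟩ ∈ Submodule.span B (Set.range j')) ?_ ?_ ?_ ?_ hx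
      · rintro _ ⟨m, rfl⟩
        exact Submodule.subset_span ⟨m, rfl⟩
      · have : (⟨0, hNdef ▸ Submodule.zero_mem _⟩ : N) = 0 := rfl
        rw [this, map_zero]
        exact Submodule.zero_mem _
      · intro x y hx hy hx' hy'
        have : (⟨x + y, hNdef ▸ Submodule.add_mem _ hx hy⟩ : N) =
            ⟨x, hNdef ▸ hx⟩ + ⟨y, hNdef ▸ hy⟩ := rfl
        rw [this, map_add]
        exact Submodule.add_mem _ hx' hy'
      · intro a x hx hx'
        have : (⟨a • x, hNdef ▸ Submodule.smul_mem _ a hx⟩ : N) = a • ⟨x, hNdef ▸ hx⟩ := rfl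
        rw [this, map_smul]
        exact Submodule.smul_mem _ a hx'
    have hp : ((g.symm p : N) : Fin k → B) ∈ Submodule.span B (Set.range j) :=
      hNdef ▸ (g.symm p).2
    have := key _ hp
    have e : (⟨((g.symm p : N) : Fin k → B), hNdef ▸ hp⟩ : N) = g.symm p := rfl
    rw [e, LinearEquiv.apply_symm_apply] at this
    exact this

end Norm


section Main

theorem main (O : Type u) [CommRing O] [IsDomain O] [IsNoetherianRing O] [IsLocalRing O]
    (hdim : ringKrullDim O = 1) [IsAlgClosed (IsLocalRing.ResidueField O)] (K : Type u) [Field K]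
    [Algebra O K] [IsFractionRing O K] (hfin : Module.Finite O ↥(integralClosure O K))
    (M : Type u) [AddCommGroup M] [Module O M] [Module.Finite O M] [NoZeroSMulDivisors O M]
    (n : ℕ) (hn : Module.finrank K (TensorProduct O K M) = n) :
    ∃ M' : Submodule O (Fin n → K),
      Submodule.pi Set.univ (fun _ : Fin n => (1 : Submodule O K)) ≤ M' ∧
      M' ≤ Submodule.pi Set.univ
        (fun _ : Fin n => (Subalgebra.toSubmodule (integralClosure O K))) ∧
      Nonempty (M ≃ₗ[O] ↥M') := by
  classical
  have hinf : Infinite (IsLocalRing.ResidueField O) := inferInstance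
  have hPID : IsPrincipalIdealRing ↥(integralClosure O K) := Helper71.TFCurv.isPID K hdim hfin
  have hfinP := Helper71.TFCurv.finite_primes_B K hdim hfin
  have hinj : Injective (algebraMap O ↥(integralClosure O K)) := by
    intro x y hxy
    apply IsFractionRing.injective O K
    exact congrArg (fun b : ↥(integralClosure O K) => (b : K)) hxy
  obtain ⟨j, hj, d, hd0, hd⟩ := Helper71.TFCurv.exists_lattice K hfin n hn
  have hdB : algebraMap O ↥(integralClosure O K) d ≠ 0 := by
    intro h; exact hd0 (hinj (by rw [h, map_zero]))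
  obtain ⟨j', hj', hspan⟩ := exists_spanning j hj (algebraMap O ↥(integralClosure O K) d) hdB
    (fun p => by
      obtain ⟨m, hm⟩ := hd p
      exact ⟨m, by rw [hm, algebraMap_smul]⟩)
  -- the tuple with unit determinant
  obtain ⟨w, hw⟩ := exists_tuple j' hspan (hfinP.toFinset.filter (fun P => P.IsMaximal))
    (fun q hq => (Finset.mem_filter.mp hq).2.ne_top)
  obtain ⟨A, hAdef⟩ : ∃ A : Matrix (Fin n) (Fin n) ↥(integralClosure O K),
      A = Matrix.of (fun i => j' (w i)) := ⟨_, rfl⟩
  have hArow : ∀ i, A i = j' (w i) := fun i => by rw [hAdef]; rfl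
  have hA : IsUnit A.det := by
    by_contra hnu
    obtain ⟨P, hPmax, hP⟩ := exists_max_ideal_of_mem_nonunits hnu
    refine hw P (Finset.mem_filter.mpr ⟨hfinP.mem_toFinset.mpr hPmax.isPrime, hPmax⟩) ?_
    rw [hAdef] at hP
    exact hP
  -- the renormalizing map
  let T : (Fin n → ↥(integralClosure O K)) →ₗ[↥(integralClosure O K)]
      (Fin n → ↥(integralClosure O K)) := Matrix.vecMulLinear A⁻¹
  have hTrow : ∀ i, T (j' (w i)) = Pi.single i 1 := by
    intro i
    change Matrix.vecMul (j' (w i)) A⁻¹ = _
    rw [← hArow, ← Matrix.mul_apply_eq_vecMul, Matrix.mul_nonsing_inv A hA]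
    ext k
    simp [Matrix.one_apply, Pi.single_apply, eq_comm]
  have hTinj : Injective T := by
    intro x y hxy
    change Matrix.vecMul x A⁻¹ = Matrix.vecMul y A⁻¹ at hxy
    have := congrArg (fun v => Matrix.vecMul v A) hxy
    simp only [Matrix.vecMul_vecMul, Matrix.nonsing_inv_mul A hA, Matrix.vecMul_one] at this
    exact this
  let ι : (Fin n → ↥(integralClosure O K)) →ₗ[O] (Fin n → K) :=
    ((integralClosure O K).val.toLinearMap).compLeft (Fin n)
  have hιapp : ∀ p i, ι p i = ((p i : ↥(integralClosure O K)) : K) := fun p i => rfl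
  have hιinj : Injective ι := by
    intro p p' h
    funext i
    exact Subtype.ext (congrFun h i)
  let Ψ : M →ₗ[O] (Fin n → K) := ι ∘ₗ (T.restrictScalars O) ∘ₗ j'
  have hΨapp : ∀ m, Ψ m = ι (T (j' m)) := fun m => rfl
  have hΨinj : Injective Ψ := by
    intro m m' h
    rw [hΨapp, hΨapp] at h
    exact hj' (hTinj (hιinj h))
  have hΨw : ∀ i k, Ψ (w i) k = if k = i then 1 else 0 := by
    intro i k
    rw [hΨapp, hTrow, hιapp, Pi.single_apply]
    split_ifs <;> simp
  refine ⟨LinearMap.range Ψ, ?_, ?_, ⟨LinearEquiv.ofInjective Ψ hΨinj⟩⟩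
  · intro x hx
    rw [Submodule.mem_pi] at hx
    have hx' : ∀ i : Fin n, ∃ a : O, algebraMap O K a = x i := fun i =>
      Submodule.mem_one.mp (hx i (Set.mem_univ i))
    choose a ha using hx'
    refine ⟨∑ i, a i • w i, ?_⟩
    funext k
    rw [map_sum, Finset.sum_apply]
    simp only [map_smul, Pi.smul_apply, hΨw]
    rw [Finset.sum_eq_single k]
    · rw [if_pos rfl, Algebra.smul_def, mul_one, ha]
    · intro i _ hik
      rw [if_neg (Ne.symm hik), smul_zero]
    · intro h; exact absurd (Finset.mem_univ k) h
  · rintro _ ⟨m, rfl⟩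
    rw [Submodule.mem_pi]
    intro i _
    rw [hΨapp, hιapp]
    exact (T (j' m) i).2

end Main

end Groth.Agent.Lib.Helper34.TFLattice
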