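import Mathlib
import Groth.Prelude.Def_FlatCA
import Groth.Agent.Lib.Helper74.WeakAss
import Groth.Agent.Lib.Helper74.WeakAssFinite

/-!
# Weakly associated primes: flat descent for elements coming from the base (helper34)
-/

set_option autoImplicit false
universe u v w

namespace Groth.Agent.Lib.Helper34.WAss

open FlatCA TensorProduct Groth.Agent.Lib.Helper74.WeakAss

local macro "ann" R:term:max m:term:max : term =>
  `(Submodule.annihilator (Submodule.span $R (Singleton.singleton $m : Set _)))

section

variable {A : Type u} {B : Type v} [CommRing A] [CommRing B] [Algebra A B] [Module.Flat A B]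
  {M : Type w} [AddCommGroup M] [Module A M] {N : Type w} [AddCommGroup N] [Module B N]
  [Module A N] [IsScalarTower A B N]

theorem ann_isBaseChange_of_flat (g : M →ₗ[A] N) (hg : IsBaseChange B g) (m : M) :
    ann B (g m) = (ann A m).map (algebraMap A B) := by
  have h1 : g m = hg.equiv ((1 : B) ⊗ₜ[A] m) := by
    rw [IsBaseChange.equiv_tmul, one_smul]
  have h2 := ann_map_of_injective hg.equiv.toLinearMap hg.equiv.injective ((1 : B) ⊗ₜ[A] m)
  rw [h1, ← ann_one_tmul_of_flat]
  exact h2

/-- Flat descent: if `q` is minimal over the annihilator of `g m` (with `g : M → N` a base change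
along the flat map `A → B`), then `q ∩ A` is minimal over the annihilator of `m`. -/
theorem comap_mem_minimalPrimes_of_flat (g : M →ₗ[A] N) (hg : IsBaseChange B g) (m : M)
    {q : Ideal B} (hq : q ∈ (ann B (g m)).minimalPrimes) :
    q.comap (algebraMap A B) ∈ (ann A m).minimalPrimes := by
  rw [ann_isBaseChange_of_flat g hg] at hq
  haveI hqp : q.IsPrime := hq.1.1
  haveI hu : (q.comap (algebraMap A B)).IsPrime := Ideal.IsPrime.comap _
  haveI : q.LiesOver (q.comap (algebraMap A B)) := ⟨rfl⟩
  refine ⟨⟨hu, Ideal.map_le_iff_le_comap.mp hq.1.2⟩, ?_⟩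
  rintro q' ⟨hq', hle⟩ hq'u
  haveI := hq'
  obtain ⟨Q, hQle, hQprime, hQover⟩ :=
    Ideal.exists_ideal_le_liesOver_of_le (p := q') (q := q.comap (algebraMap A B)) q hq'u
  have h1 : (ann A m).map (algebraMap A B) ≤ Q := by
    rw [Ideal.map_le_iff_le_comap]
    refine hle.trans ?_
    rw [hQover.over]
  have h2 : q ≤ Q := hq.2 ⟨hQprime, h1⟩ hQle
  intro c hc
  rw [hQover.over]
  exact h2 hc

end

end Groth.Agent.Lib.Helper34.WAss
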