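import Mathlib
import Groth.Prelude.Def_FlatCA
import Groth.Agent.Lib.Helper74.WeakAss
import Groth.Agent.Lib.Helper74.WeakAssFinite

/-!
# Weakly associated primes of `M[T]` over a polynomial ring (helper34)

For `S = MvPolynomial σ R` and an `R`-module `M`: if `q` is weakly associated to `S ⊗[R] M`, then
`q ∩ R` is weakly associated to `M`.
-/

set_option autoImplicit false
universe u v w

namespace Groth.Agent.Lib.Helper34.WAss

open FlatCA TensorProduct Groth.Agent.Lib.Helper74.WeakAss

local macro "ann" R:term:max m:term:max : term =>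
  `(Submodule.annihilator (Submodule.span $R (Singleton.singleton $m : Set _)))

section

variable {R : Type u} [CommRing R] {σ : Type v}

theorem isPrime_map_C (P : Ideal R) [P.IsPrime] :
    (Ideal.map (MvPolynomial.C : R →+* MvPolynomial σ R) P).IsPrime := by
  have h : Ideal.map (MvPolynomial.C : R →+* MvPolynomial σ R) P =
      RingHom.ker (MvPolynomial.map (σ := σ) (Ideal.Quotient.mk P)) := by
    rw [MvPolynomial.ker_map, Ideal.mk_ker]
  rw [h]
  exact RingHom.ker_isPrime _

theorem comap_map_C (P : Ideal R) :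
    Ideal.comap (MvPolynomial.C : R →+* MvPolynomial σ R) (Ideal.map MvPolynomial.C P) = P := by
  ext x
  rw [Ideal.mem_comap, MvPolynomial.mem_map_C_iff]
  constructor
  · intro h
    have := h 0
    simpa using this
  · intro hx m
    classical
    rw [MvPolynomial.coeff_C]
    split_ifs
    · exact hx
    · exact P.zero_mem

variable {N : Type w} [AddCommGroup N] [Module R N]

/-- the `S`-semilinear map `S ⊗ N → κ[T]` induced by a functional `φ : N → κ` -/
noncomputable def polyFunctional (κ : Type*) [Field κ] [Algebra R κ] (φ : N →ₗ[R] κ) :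
    MvPolynomial σ R ⊗[R] N →ₗ[R] MvPolynomial σ κ :=
  TensorProduct.lift
    { toFun := fun s =>
        { toFun := fun n => φ n • MvPolynomial.map (algebraMap R κ) s
          map_add' := fun a b => by rw [map_add, add_smul]
          map_smul' := fun r a => by
            rw [map_smul, RingHom.id_apply, smul_assoc] }
      map_add' := fun a b => by
        refine LinearMap.ext fun n => ?_
        simp only [map_add, smul_add, LinearMap.coe_mk, AddHom.coe_mk, LinearMap.add_apply]
      map_smul' := fun r a => by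
        refine LinearMap.ext fun n => ?_
        simp only [LinearMap.coe_mk, AddHom.coe_mk, RingHom.id_apply, LinearMap.smul_apply]
        have h : MvPolynomial.map (algebraMap R κ) (r • a) =
            r • MvPolynomial.map (σ := σ) (algebraMap R κ) a := by
          rw [MvPolynomial.smul_eq_C_mul a r, map_mul, MvPolynomial.map_C,
            ← MvPolynomial.smul_eq_C_mul, algebraMap_smul]
        rw [h, smul_comm] }

theorem polyFunctional_tmul (κ : Type*) [Field κ] [Algebra R κ] (φ : N →ₗ[R] κ)
    (s : MvPolynomial σ R) (n : N) :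
    polyFunctional κ φ (s ⊗ₜ n) = φ n • MvPolynomial.map (algebraMap R κ) s := rfl

theorem polyFunctional_smul (κ : Type*) [Field κ] [Algebra R κ] (φ : N →ₗ[R] κ)
    (f : MvPolynomial σ R) (w : MvPolynomial σ R ⊗[R] N) :
    polyFunctional κ φ (f • w) = MvPolynomial.map (algebraMap R κ) f * polyFunctional κ φ w := by
  induction w using TensorProduct.induction_on with
  | zero => simp
  | tmul s n =>
    rw [TensorProduct.smul_tmul', polyFunctional_tmul, polyFunctional_tmul, smul_eq_mul, map_mul,
      mul_smul_comm]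
  | add a b ha hb => rw [smul_add, map_add, ha, hb, map_add, mul_add]

/-- Key step: if `f` kills `z = ∑ T^a ⊗ n_a` where the `n_a` generate `N`, then for every prime
`P ⊇ Ann N` the polynomial `f` has all its coefficients in `P`. -/
theorem mem_map_C_of_smul_eq_zero (T : Finset (σ →₀ ℕ)) (n : (σ →₀ ℕ) → N)
    (hspan : Submodule.span R (n '' (T : Set (σ →₀ ℕ))) = ⊤)
    (P : Ideal R) [P.IsPrime] (hP : Module.annihilator R N ≤ P)
    (f : MvPolynomial σ R)
    (hf : f • (∑ a ∈ T, (MvPolynomial.monomial a (1 : R)) ⊗ₜ[R] n a) = 0) :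
    f ∈ Ideal.map (MvPolynomial.C : R →+* MvPolynomial σ R) P := by
  classical
  haveI : Module.Finite R N :=
    ⟨by rw [← hspan]; exact Submodule.fg_span (Set.Finite.image _ T.finite_toSet)⟩
  have hsupp : (⟨P, inferInstance⟩ : PrimeSpectrum R) ∈ Module.support R N :=
    Module.mem_support_iff_of_finite.mpr hP
  haveI : Nontrivial (P.ResidueField ⊗[R] N) :=
    (Module.mem_support_iff_nontrivial_residueField_tensorProduct
      (⟨P, inferInstance⟩ : PrimeSpectrum R)).mp hsupp
  obtain ⟨v, hv⟩ := exists_ne (0 : P.ResidueField ⊗[R] N)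
  obtain ⟨l, hl⟩ : ∃ l : Module.Dual P.ResidueField (P.ResidueField ⊗[R] N), l v ≠ 0 := by
    by_contra h
    push Not at h
    exact hv ((Module.forall_dual_apply_eq_zero_iff P.ResidueField v).mp h)
  let φ : N →ₗ[R] P.ResidueField :=
    (l.restrictScalars R) ∘ₗ (TensorProduct.mk R P.ResidueField N 1)
  obtain ⟨b, hbT, hb⟩ : ∃ b ∈ T, φ (n b) ≠ 0 := by
    by_contra h
    push Not at h
    have hφ : φ = 0 := by
      refine LinearMap.ext_on hspan ?_
      rintro _ ⟨a, ha, rfl⟩
      rw [h a ha]
      rfl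
    have hl0 : ∀ w : P.ResidueField ⊗[R] N, l w = 0 := by
      intro w
      induction w using TensorProduct.induction_on with
      | zero => exact map_zero _
      | tmul x m =>
        have h1 : x ⊗ₜ[R] m = x • ((1 : P.ResidueField) ⊗ₜ[R] m) := by
          rw [TensorProduct.smul_tmul', smul_eq_mul, mul_one]
        have h2 : l ((1 : P.ResidueField) ⊗ₜ[R] m) = φ m := rfl
        rw [h1, map_smul, h2, hφ, LinearMap.zero_apply, smul_zero]
      | add x y hx hy => rw [map_add, hx, hy, add_zero]
    exact hl (hl0 v)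
  have h1 := polyFunctional_smul P.ResidueField φ f
    (∑ a ∈ T, (MvPolynomial.monomial a (1 : R)) ⊗ₜ[R] n a)
  rw [hf, map_zero] at h1
  have h2 : polyFunctional (σ := σ) P.ResidueField φ
      (∑ a ∈ T, (MvPolynomial.monomial a (1 : R)) ⊗ₜ[R] n a) ≠ 0 := by
    intro h0
    apply hb
    have h3 := congrArg (MvPolynomial.coeff b) h0
    rw [map_sum, MvPolynomial.coeff_sum, MvPolynomial.coeff_zero] at h3
    have h4 : ∀ a ∈ T, MvPolynomial.coeff b (polyFunctional (σ := σ) P.ResidueField φ
        ((MvPolynomial.monomial a (1 : R)) ⊗ₜ[R] n a)) = if a = b then φ (n a) else 0 := by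
      intro a _
      rw [polyFunctional_tmul, MvPolynomial.coeff_smul, MvPolynomial.map_monomial,
        MvPolynomial.coeff_monomial, map_one, smul_eq_mul]
      split_ifs
      · rw [mul_one]
      · rw [mul_zero]
    rw [Finset.sum_congr rfl h4, Finset.sum_ite_eq' T b, if_pos hbT] at h3
    exact h3
  have h5 : MvPolynomial.map (σ := σ) (algebraMap R P.ResidueField) f = 0 :=
    (mul_eq_zero.mp h1.symm).resolve_right h2
  have h6 : f ∈ RingHom.ker (MvPolynomial.map (σ := σ) (algebraMap R P.ResidueField)) := h5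
  rw [MvPolynomial.ker_map, Ideal.ker_algebraMap_residueField] at h6
  exact h6

end

section

variable {R : Type u} [CommRing R] {σ : Type v} {M : Type w} [AddCommGroup M] [Module R M]

/-- Polynomial case: if `q` is minimal over the annihilator of `z ∈ R[T] ⊗ M`, then `q ∩ R` is
weakly associated to `M`. -/
theorem comap_C_mem_weakAss (z : MvPolynomial σ R ⊗[R] M) {q : Ideal (MvPolynomial σ R)}
    (hq : q ∈ (ann (MvPolynomial σ R) z).minimalPrimes) :
    q.comap (MvPolynomial.C : R →+* MvPolynomial σ R) ∈ weakAss R M := by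
  classical
  obtain ⟨c, hc⟩ := TensorProduct.eq_repr_basis_left (MvPolynomial.basisMonomials σ R) z
  obtain ⟨T, hT⟩ : ∃ T : Finset (σ →₀ ℕ), T = c.support := ⟨_, rfl⟩
  obtain ⟨N, hN⟩ : ∃ N : Submodule R M, N = Submodule.span R (c '' (T : Set (σ →₀ ℕ))) :=
    ⟨_, rfl⟩
  have hcN : ∀ a, c a ∈ N := fun a => by
    by_cases ha : a ∈ T
    · rw [hN]; exact Submodule.subset_span ⟨a, ha, rfl⟩
    · rw [hT] at ha
      rw [Finsupp.notMem_support_iff.mp ha]; exact N.zero_mem
  obtain ⟨n, hn⟩ : ∃ n : (σ →₀ ℕ) → N, n = fun a => ⟨c a, hcN a⟩ := ⟨_, rfl⟩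
  have hnc : ∀ a, (n a : M) = c a := fun a => by rw [hn]
  obtain ⟨zN, hzN⟩ : ∃ zN : MvPolynomial σ R ⊗[R] N,
      zN = ∑ a ∈ T, MvPolynomial.monomial a (1 : R) ⊗ₜ[R] n a := ⟨_, rfl⟩
  let ι : MvPolynomial σ R ⊗[R] N →ₗ[MvPolynomial σ R] MvPolynomial σ R ⊗[R] M :=
    LinearMap.baseChange _ N.subtype
  have hι : Function.Injective ι :=
    Module.Flat.lTensor_preserves_injective_linearMap N.subtype N.injective_subtype
  have hz : ι zN = z := by
    rw [← hc, hzN, map_sum, Finsupp.sum, ← hT]
    refine Finset.sum_congr rfl (fun a _ => ?_)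
    rw [LinearMap.baseChange_tmul, MvPolynomial.coe_basisMonomials, Submodule.subtype_apply, hnc]
  have hann : ann (MvPolynomial σ R) z = ann (MvPolynomial σ R) zN := by
    rw [← hz]; exact ann_map_of_injective ι hι zN
  rw [hann] at hq
  have hspan : Submodule.span R (n '' (T : Set (σ →₀ ℕ))) = ⊤ := by
    have : (n '' (T : Set (σ →₀ ℕ))) = ((↑) : N → M) ⁻¹' (c '' (T : Set (σ →₀ ℕ))) := by
      ext x
      simp only [Set.mem_image, Set.mem_preimage]
      constructor
      · rintro ⟨a, ha, rfl⟩; exact ⟨a, ha, (hnc a).symm⟩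
      · rintro ⟨a, ha, h⟩; exact ⟨a, ha, Subtype.ext ((hnc a).trans h)⟩
    rw [this]
    subst hN
    exact Submodule.span_span_coe_preimage
  have hqp : q.IsPrime := hq.1.1
  obtain ⟨p, hp⟩ : ∃ p : Ideal R, p = q.comap (MvPolynomial.C : R →+* MvPolynomial σ R) :=
    ⟨_, rfl⟩
  haveI hpp : p.IsPrime := by rw [hp]; exact Ideal.IsPrime.comap _
  rw [← hp]
  -- the annihilator of N is contained in p
  have hkill : ∀ r : R, (∀ a ∈ T, r • c a = 0) → r ∈ Module.annihilator R N := by
    intro r hr
    rw [← Submodule.annihilator_top, ← hspan, Submodule.mem_annihilator_span]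
    rintro ⟨_, a, ha, rfl⟩
    apply Subtype.ext
    rw [Submodule.coe_smul, hnc, hr a ha]
    rfl
  have hIp : Module.annihilator R N ≤ p := by
    intro r hr
    rw [hp, Ideal.mem_comap]
    apply hq.1.2
    rw [mem_ann, ← MvPolynomial.algebraMap_eq, algebraMap_smul, hzN, Finset.smul_sum]
    refine Finset.sum_eq_zero (fun a _ => ?_)
    rw [← TensorProduct.tmul_smul, Module.mem_annihilator.mp hr, TensorProduct.tmul_zero]
  have hle : ∀ P : Ideal R, P.IsPrime → Module.annihilator R N ≤ P →
      ann (MvPolynomial σ R) zN ≤ Ideal.map MvPolynomial.C P := by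
    intro P hP hNP f hf
    haveI := hP
    rw [mem_ann, hzN] at hf
    exact mem_map_C_of_smul_eq_zero T n hspan P hNP f hf
  have h2 : Ideal.map MvPolynomial.C p ≤ q := by rw [hp]; exact Ideal.map_comap_le
  have h3 : q ≤ Ideal.map MvPolynomial.C p :=
    hq.2 ⟨isPrime_map_C p, hle p hpp hIp⟩ h2
  -- some `Ann (c a)` is contained in `p`
  obtain ⟨a, haT, ha⟩ : ∃ a ∈ T, ann R (c a) ≤ p := by
    by_contra hcon
    push Not at hcon
    have hch : ∀ a ∈ T, ∃ r : R, r ∈ ann R (c a) ∧ r ∉ p := fun a ha =>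
      Set.not_subset.mp (hcon a ha)
    choose! r hr1 hr2 using hch
    have hprod : ∏ a ∈ T, r a ∈ Module.annihilator R N := by
      apply hkill
      intro a ha
      rw [← Finset.mul_prod_erase T r ha, mul_comm, mul_smul, mem_ann.mp (hr1 a ha), smul_zero]
    obtain ⟨a, ha, hra⟩ := (Ideal.IsPrime.prod_mem_iff).mp (hIp hprod)
    exact hr2 a ha hra
  refine ⟨c a, ⟨hpp, ha⟩, ?_⟩
  rintro P ⟨hP, hPa⟩ hPle
  have hNP : Module.annihilator R N ≤ P := by
    refine le_trans ?_ hPa
    intro r hr
    rw [mem_ann, ← hnc a, ← Submodule.coe_smul, Module.mem_annihilator.mp hr]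
    rfl
  have h4 : q ≤ Ideal.map MvPolynomial.C P :=
    hq.2 ⟨isPrime_map_C P, hle P hP hNP⟩ ((Ideal.map_mono hPle).trans h2)
  have h5 := Ideal.comap_mono (f := (MvPolynomial.C : R →+* MvPolynomial σ R)) (h2.trans h4)
  rw [comap_map_C, comap_map_C] at h5
  exact h5

end

end Groth.Agent.Lib.Helper34.WAss
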