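import Mathlib
import Groth.Prelude.Def_FlatCA
import Groth.Agent.Lib.Helper74.WeakAss
import Groth.Agent.Lib.Helper74.WeakAssFinite
import Groth.Agent.Lib.Helper34.WAssA
import Groth.Agent.Lib.Helper34.WAssB

/-!
# Ring maps along which weakly associated primes descend (helper34)

`Desc A B`: for every `A`-module `M` and every prime `q` weakly associated to `B ⊗[A] M`,
the prime `q ∩ A` is weakly associated to `M`.
-/

set_option autoImplicit false
universe u

namespace Groth.Agent.Lib.Helper34.WAss

open FlatCA TensorProduct Groth.Agent.Lib.Helper74.WeakAss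

local macro "ann" R:term:max m:term:max : term =>
  `(Submodule.annihilator (Submodule.span $R (Singleton.singleton $m : Set _)))

/-- weakly associated primes descend along `A → B` -/
def Desc (A B : Type u) [CommRing A] [CommRing B] [Algebra A B] : Prop :=
  ∀ (M : Type u) [AddCommGroup M] [Module A M] (q : Ideal B),
    q ∈ weakAss B (B ⊗[A] M) → q.comap (algebraMap A B) ∈ weakAss A M

section

variable {A B : Type u} [CommRing A] [CommRing B] [Algebra A B]

theorem Desc.of_isBaseChange (h : Desc A B) {M N : Type u} [AddCommGroup M] [Module A M]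
    [AddCommGroup N] [Module B N] [Module A N] [IsScalarTower A B N] (g : M →ₗ[A] N)
    (hg : IsBaseChange B g) {q : Ideal B} (hq : q ∈ weakAss B N) :
    q.comap (algebraMap A B) ∈ weakAss A M :=
  h M q (weakAss_subset_of_injective hg.equiv.symm.toLinearMap hg.equiv.symm.injective hq)

theorem Desc.comp {C : Type u} [CommRing C] [Algebra B C] [Algebra A C] [IsScalarTower A B C]
    (h1 : Desc A B) (h2 : Desc B C) : Desc A C := by
  intro M _ _ q hq
  let e : C ⊗[B] (B ⊗[A] M) ≃ₗ[C] C ⊗[A] M :=
    TensorProduct.AlgebraTensorModule.cancelBaseChange A B C C M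
  have hq' : q ∈ weakAss C (C ⊗[B] (B ⊗[A] M)) :=
    weakAss_subset_of_injective e.symm.toLinearMap e.symm.injective hq
  have h3 := h1 M _ (h2 (B ⊗[A] M) q hq')
  rw [Ideal.comap_comap, ← IsScalarTower.algebraMap_eq] at h3
  exact h3

theorem Desc.of_finite_flat [Module.Finite A B] [Module.Flat A B] : Desc A B := by
  intro M _ _ q hq
  haveI : q.IsPrime := by
    obtain ⟨z, hz⟩ := hq
    exact hz.1.1
  haveI : (q.comap (algebraMap A B)).IsPrime := Ideal.IsPrime.comap _
  exact (mem_weakAss_tensor_iff_of_finite_flat (A := A) (B := B) (M := M)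
    (q.comap (algebraMap A B)) q rfl).1 hq

theorem Desc.mvPolynomial (σ : Type u) : Desc A (MvPolynomial σ A) := by
  intro M _ _ q hq
  obtain ⟨z, hz⟩ := hq
  rw [MvPolynomial.algebraMap_eq]
  exact comap_C_mem_weakAss z hz

theorem Desc.of_isLocalization (S : Submonoid A) [IsLocalization S B] : Desc A B := by
  intro M _ _ q hq
  haveI hqp : q.IsPrime := by
    obtain ⟨z, hz⟩ := hq
    exact hz.1.1
  haveI : (q.comap (algebraMap A B)).IsPrime := Ideal.IsPrime.comap _
  have hdisj : Disjoint (S : Set A) (q.comap (algebraMap A B) : Set A) :=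
    (IsLocalization.disjoint_under_iff S B q).mpr hqp.ne_top
  rw [mem_weakAss_iff_map_mem (A := B) S (TensorProduct.mk A B M 1) _ hdisj]
  have := IsLocalization.map_under S B q
  rw [Ideal.under_def] at this
  rw [this]
  exact hq

end

end Groth.Agent.Lib.Helper34.WAss
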