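import Mathlib
import Groth.Prelude.Def_FlatCA
import Groth.Agent.Lib.Helper34.WAssC

/-!
# Glue: intermediate pushouts (helper34)
-/

set_option autoImplicit false
universe u

namespace Groth.Agent.Lib.Helper34.WAss

open FlatCA TensorProduct Groth.Agent.Lib.Helper74.WeakAss

attribute [local instance] Algebra.TensorProduct.rightAlgebra

/-- Given a tower `k → L → K` and a pushout `RK` of `k → K` along `k → R`, there is an
intermediate pushout `RL` of `k → L` along `k → R` such that `RK` is the pushout of `L → K` along
`L → RL` (continuation-passing form). -/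
theorem exists_intermediate_pushout (k L K R RK : Type u) [CommRing k] [CommRing L] [CommRing K]
    [Algebra k L] [Algebra L K] [Algebra k K] [IsScalarTower k L K] [CommRing R] [CommRing RK]
    [Algebra k R] [Algebra k RK] [Algebra K RK] [Algebra R RK] [IsScalarTower k K RK]
    [IsScalarTower k R RK] [Algebra.IsPushout k K R RK] {P : Prop}
    (h : ∀ (RL : Type u) [CommRing RL] [Algebra k RL] [Algebra L RL] [Algebra R RL]
      [IsScalarTower k L RL] [IsScalarTower k R RL] [Algebra.IsPushout k L R RL]
      [Algebra L RK] [IsScalarTower L K RK] [Algebra RL RK] [IsScalarTower L RL RK]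
      [IsScalarTower R RL RK], Algebra.IsPushout L K RL RK → P) : P := by
  letI algLRK : Algebra L RK := ((algebraMap K RK).comp (algebraMap L K)).toAlgebra
  haveI t1 : IsScalarTower L K RK := IsScalarTower.of_algebraMap_eq (fun x => rfl)
  haveI t2 : IsScalarTower k L RK := IsScalarTower.of_algebraMap_eq (fun x => by
    rw [IsScalarTower.algebraMap_apply k K RK, IsScalarTower.algebraMap_apply k L K]; rfl)
  let ψ : R ⊗[k] L →ₐ[k] RK :=
    Algebra.TensorProduct.productMap (IsScalarTower.toAlgHom k R RK) (IsScalarTower.toAlgHom k L RK)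
  letI algRL : Algebra (R ⊗[k] L) RK := ψ.toRingHom.toAlgebra
  have hψ : ∀ x, algebraMap (R ⊗[k] L) RK x = ψ x := fun x => rfl
  haveI t3 : IsScalarTower L (R ⊗[k] L) RK := IsScalarTower.of_algebraMap_eq (fun x => by
    rw [hψ, Algebra.TensorProduct.right_algebraMap_apply,
      Algebra.TensorProduct.productMap_right_apply]
    rfl)
  haveI t4 : IsScalarTower R (R ⊗[k] L) RK := IsScalarTower.of_algebraMap_eq (fun x => by
    rw [hψ, Algebra.TensorProduct.algebraMap_apply, Algebra.algebraMap_self, RingHom.id_apply,
      Algebra.TensorProduct.productMap_left_apply]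
    rfl)
  haveI t5 : IsScalarTower k (R ⊗[k] L) RK :=
    IsScalarTower.of_algebraMap_eq (fun x => (ψ.commutes x).symm)
  have hpo : Algebra.IsPushout L K (R ⊗[k] L) RK :=
    (Algebra.IsPushout.comp_iff k L R (S' := R ⊗[k] L) (T := K) (T' := RK)).mp inferInstance
  exact h (R ⊗[k] L) hpo

end Groth.Agent.Lib.Helper34.WAss
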