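import Mathlib
import Groth.Prelude.Def_FlatCA
import Groth.Agent.Lib.Helper34.WAssC
import Groth.Agent.Lib.Helper34.WAssD

/-!
# Descent of weakly associated primes along base change by a ring/field extension (helper34)
-/

set_option autoImplicit false
universe u

namespace Groth.Agent.Lib.Helper34.WAss

open FlatCA TensorProduct Groth.Agent.Lib.Helper74.WeakAss

/-- `DescF k K`: weakly associated primes descend along every base change of `k → K`. -/
def DescF (k K : Type u) [CommRing k] [CommRing K] [Algebra k K] : Prop :=
  ∀ (R RK : Type u) [CommRing R] [CommRing RK] [Algebra k R] [Algebra k RK] [Algebra K RK]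
    [Algebra R RK] [IsScalarTower k K RK] [IsScalarTower k R RK] [Algebra.IsPushout k K R RK],
    Desc R RK

theorem Desc.of_algEquiv {A B B' : Type u} [CommRing A] [CommRing B] [CommRing B'] [Algebra A B]
    [Algebra A B'] (e : B ≃ₐ[A] B') (h : Desc A B) : Desc A B' := by
  letI : Algebra B B' := e.toAlgHom.toRingHom.toAlgebra
  haveI : IsScalarTower A B B' := IsScalarTower.of_algebraMap_eq (fun x => (e.commutes x).symm)
  have hbij : Function.Bijective (Algebra.linearMap B B') := e.bijective
  haveI : Module.Finite B B' := Module.Finite.of_surjective (Algebra.linearMap B B') hbij.2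
  haveI : Module.Flat B B' :=
    Module.Flat.of_linearEquiv (LinearEquiv.ofBijective (Algebra.linearMap B B') hbij).symm
  exact h.comp Desc.of_finite_flat

theorem DescF.trans {k L K : Type u} [CommRing k] [CommRing L] [CommRing K] [Algebra k L]
    [Algebra L K] [Algebra k K] [IsScalarTower k L K] (h1 : DescF k L) (h2 : DescF L K) :
    DescF k K := by
  intro R RK _ _ _ _ _ _ _ _ _
  refine exists_intermediate_pushout k L K R RK ?_
  intro RL _ _ _ _ _ _ _ _ _ _ _ _ hpo
  exact (h1 R RL).comp (h2 RL RK)

attribute [local instance] Algebra.TensorProduct.rightAlgebra in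
/-- purely transcendental extensions -/
theorem DescF.of_isFractionRing_mvPolynomial {k K : Type u} [Field k] [Field K] [Algebra k K]
    (s : Type u) [Algebra (MvPolynomial s k) K] [IsScalarTower k (MvPolynomial s k) K]
    [IsFractionRing (MvPolynomial s k) K] : DescF k K := by
  intro R RK _ _ _ _ _ _ _ _ _
  refine exists_intermediate_pushout k (MvPolynomial s k) K R RK ?_
  intro RL _ _ _ _ _ _ _ _ _ _ _ _ hpo
  -- `RL ≃ R[T]`
  haveI hsymm : Algebra.IsPushout k R (MvPolynomial s k) RL := Algebra.IsPushout.symm inferInstance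
  let e1 : R ⊗[k] MvPolynomial s k ≃ₐ[R] RL := Algebra.IsPushout.equiv k R (MvPolynomial s k) RL
  let e2 : R ⊗[k] MvPolynomial s k ≃ₐ[R] MvPolynomial s R := MvPolynomial.algebraTensorAlgEquiv k R
  have hD1 : Desc R RL := Desc.of_algEquiv (e2.symm.trans e1) (Desc.mvPolynomial s)
  -- `RK` is a localization of `RL`
  have hpo' : Algebra.IsPushout (MvPolynomial s k) RL K RK := Algebra.IsPushout.symm hpo
  haveI hloc : IsLocalization
      (Algebra.algebraMapSubmonoid RL (nonZeroDivisors (MvPolynomial s k))) RK :=
    (Algebra.isLocalization_iff_isPushout (nonZeroDivisors (MvPolynomial s k)) K).mpr hpo'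
  have hD2 : Desc RL RK := Desc.of_isLocalization
    (Algebra.algebraMapSubmonoid RL (nonZeroDivisors (MvPolynomial s k)))
  exact hD1.comp hD2

end Groth.Agent.Lib.Helper34.WAss
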