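import Mathlib
import Groth.Prelude.Def_FlatCA
import Groth.Agent.Lib.Helper34.WAssE

/-!
# Descent of weakly associated primes along algebraic field extensions (helper34)
-/

set_option autoImplicit false
universe u

namespace Groth.Agent.Lib.Helper34.WAss

open FlatCA TensorProduct Groth.Agent.Lib.Helper74.WeakAss

local macro "ann" R:term:max m:term:max : term =>
  `(Submodule.annihilator (Submodule.span $R (Singleton.singleton $m : Set _)))

section Good

variable (k : Type u) {K R RK : Type u} [CommRing k] [CommRing K] [Algebra k K] [CommRing R]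
  [CommRing RK]
  [Algebra k R] [Algebra k RK] [Algebra K RK] [Algebra R RK] [IsScalarTower k K RK]
  [IsScalarTower k R RK] [Algebra.IsPushout k K R RK]

include k in
theorem exists_finset_mem_adjoin (x : RK) :
    ∃ F : Finset K, x ∈ Algebra.adjoin R (algebraMap K RK '' (F : Set K)) := by
  classical
  have h : IsBaseChange K (IsScalarTower.toAlgHom k R RK).toLinearMap := Algebra.IsPushout.out
  refine h.inductionOn x _ ?_ ?_ ?_ ?_
  · exact ⟨∅, zero_mem _⟩
  · intro r
    exact ⟨∅, Subalgebra.algebraMap_mem _ r⟩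
  · rintro c n ⟨F, hF⟩
    refine ⟨insert c F, ?_⟩
    rw [Algebra.smul_def]
    refine mul_mem (Algebra.subset_adjoin ⟨c, by simp, rfl⟩) ?_
    exact Algebra.adjoin_mono (Set.image_mono (by simp)) hF
  · rintro n₁ n₂ ⟨F₁, h₁⟩ ⟨F₂, h₂⟩
    refine ⟨F₁ ∪ F₂, add_mem ?_ ?_⟩
    · exact Algebra.adjoin_mono (Set.image_mono (by simp)) h₁
    · exact Algebra.adjoin_mono (Set.image_mono (by simp)) h₂

variable (M : Type u) [AddCommGroup M] [Module R M]

omit [CommRing k] [CommRing K] [Algebra k K] [Algebra k R] [Algebra k RK] [Algebra K RK]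
  [IsScalarTower k K RK] [IsScalarTower k R RK] [Algebra.IsPushout k K R RK] in
/-- sums of pure tensors `x ⊗ m` with `x ∈ S` -/
def GoodM (S : Set RK) (z : RK ⊗[R] M) : Prop :=
  z ∈ AddSubgroup.closure {w : RK ⊗[R] M | ∃ x ∈ S, ∃ m : M, w = x ⊗ₜ[R] m}

omit [CommRing k] [CommRing K] [Algebra k K] [Algebra k R] [Algebra k RK] [Algebra K RK]
  [IsScalarTower k K RK] [IsScalarTower k R RK] [Algebra.IsPushout k K R RK] in
theorem GoodM.mono {S S' : Set RK} (h : S ⊆ S') {z : RK ⊗[R] M} (hz : GoodM M S z) :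
    GoodM M S' z := by
  refine AddSubgroup.closure_mono ?_ hz
  rintro w ⟨x, hx, m, rfl⟩
  exact ⟨x, h hx, m, rfl⟩

include k in
theorem exists_finset_goodM (z : RK ⊗[R] M) :
    ∃ F : Finset K, GoodM M (Algebra.adjoin R (algebraMap K RK '' (F : Set K)) : Set RK) z := by
  classical
  induction z using TensorProduct.induction_on with
  | zero => exact ⟨∅, zero_mem _⟩
  | tmul x m =>
    obtain ⟨F, hF⟩ := exists_finset_mem_adjoin k (K := K) (R := R) x
    exact ⟨F, AddSubgroup.subset_closure ⟨x, hF, m, rfl⟩⟩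
  | add z₁ z₂ h₁ h₂ =>
    obtain ⟨F₁, h₁⟩ := h₁
    obtain ⟨F₂, h₂⟩ := h₂
    refine ⟨F₁ ∪ F₂, add_mem ?_ ?_⟩
    · refine GoodM.mono M ?_ h₁
      exact Algebra.adjoin_mono (Set.image_mono (by simp))
    · refine GoodM.mono M ?_ h₂
      exact Algebra.adjoin_mono (Set.image_mono (by simp))

end Good

/-- one finite stage of an algebraic field extension -/
theorem desc_of_goodM {k L K : Type u} [Field k] [Field L] [Field K] [Algebra k L] [Algebra L K]
    [Algebra k K] [IsScalarTower k L K] [FiniteDimensional k L]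
    (R RK : Type u) [CommRing R] [CommRing RK] [Algebra k R] [Algebra k RK] [Algebra K RK]
    [Algebra R RK] [IsScalarTower k K RK] [IsScalarTower k R RK] [Algebra.IsPushout k K R RK]
    (M : Type u) [AddCommGroup M] [Module R M] (F : Finset K)
    (hFL : ∀ c ∈ F, c ∈ Set.range (algebraMap L K)) (z : RK ⊗[R] M)
    (hF : GoodM M (Algebra.adjoin R (algebraMap K RK '' (F : Set K)) : Set RK) z)
    (q : Ideal RK) (hz : q ∈ (ann RK z).minimalPrimes) :
    q.comap (algebraMap R RK) ∈ weakAss R M := by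
  classical
  refine exists_intermediate_pushout k L K R RK ?_
  intro RL _ _ _ _ _ _ _ _ _ _ _ _ hpo
  haveI : Module.Free L K := Module.Free.of_divisionRing _ _
  haveI : Module.Flat L K := Module.Flat.of_free
  haveI hflat : Module.Flat RL RK :=
    Module.Flat.isBaseChange L RL K RK (Algebra.IsPushout.symm hpo).out
  have hsymm : Algebra.IsPushout k R L RL := Algebra.IsPushout.symm inferInstance
  haveI : Module.Finite R RL := Module.Finite.equiv hsymm.out.equiv
  haveI : Module.Free k L := Module.Free.of_divisionRing _ _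
  haveI : Module.Flat k L := Module.Flat.of_free
  haveI : Module.Flat R RL := Module.Flat.isBaseChange k R L RL hsymm.out
  -- the base change map
  let e : RK ⊗[RL] (RL ⊗[R] M) ≃ₗ[RK] RK ⊗[R] M :=
    TensorProduct.AlgebraTensorModule.cancelBaseChange R RL RK RK M
  let g : RL ⊗[R] M →ₗ[RL] RK ⊗[R] M :=
    (e.toLinearMap.restrictScalars RL) ∘ₗ (TensorProduct.mk RL RK (RL ⊗[R] M) 1)
  have hg : IsBaseChange RK g := IsBaseChange.of_equiv e (fun x => rfl)
  have hg_tmul : ∀ (y : RL) (m : M), g (y ⊗ₜ[R] m) = (algebraMap RL RK y) ⊗ₜ[R] m := by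
    intro y m
    show e ((1 : RK) ⊗ₜ[RL] (y ⊗ₜ[R] m)) = _
    rw [TensorProduct.AlgebraTensorModule.cancelBaseChange_tmul, Algebra.smul_def, mul_one]
  -- the subalgebra is in the range
  have hrange : (Algebra.adjoin R (algebraMap K RK '' (F : Set K)) : Set RK) ⊆
      Set.range (algebraMap RL RK) := by
    have : Algebra.adjoin R (algebraMap K RK '' (F : Set K)) ≤
        (IsScalarTower.toAlgHom R RL RK).range := by
      refine Algebra.adjoin_le ?_
      rintro _ ⟨c, hc, rfl⟩
      obtain ⟨c', rfl⟩ := hFL c hc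
      refine ⟨algebraMap L RL c', ?_⟩
      show algebraMap RL RK (algebraMap L RL c') = _
      rw [← IsScalarTower.algebraMap_apply L RL RK, IsScalarTower.algebraMap_apply L K RK]
    intro x hx
    obtain ⟨y, hy⟩ := this hx
    exact ⟨y, hy⟩
  have hzr : z ∈ LinearMap.range g := by
    have hF' := GoodM.mono M hrange hF
    refine AddSubgroup.closure_induction (p := fun w _ => w ∈ LinearMap.range g) ?_ ?_ ?_ ?_ hF'
    · rintro w ⟨x, ⟨y, rfl⟩, m, rfl⟩
      exact ⟨y ⊗ₜ[R] m, hg_tmul y m⟩
    · exact zero_mem _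
    · intro a b _ _ ha hb
      exact add_mem ha hb
    · intro a _ ha
      exact neg_mem ha
  obtain ⟨zL, rfl⟩ := hzr
  have h1 : q.comap (algebraMap RL RK) ∈ (ann RL zL).minimalPrimes :=
    comap_mem_minimalPrimes_of_flat g hg zL hz
  have h2 : q.comap (algebraMap RL RK) ∈ weakAss RL (RL ⊗[R] M) := ⟨zL, h1⟩
  have h3 := (Desc.of_finite_flat (A := R) (B := RL)) M _ h2
  rw [Ideal.comap_comap, ← IsScalarTower.algebraMap_eq] at h3
  exact h3

/-- algebraic field extensions -/
theorem DescF.of_isAlgebraic {k K : Type u} [Field k] [Field K] [Algebra k K]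
    [Algebra.IsAlgebraic k K] : DescF k K := by
  classical
  intro R RK _ _ _ _ _ _ _ _ _ M _ _ q hq
  obtain ⟨z, hz⟩ := hq
  obtain ⟨F, hF⟩ := exists_finset_goodM k (K := K) (R := R) (RK := RK) M z
  haveI : FiniteDimensional k (IntermediateField.adjoin k (F : Set K)) :=
    IntermediateField.finiteDimensional_adjoin (fun x _ => Algebra.IsIntegral.isIntegral x)
  refine desc_of_goodM (k := k) (L := IntermediateField.adjoin k (F : Set K)) R RK M F ?_ z hF q hz
  intro c hc
  exact ⟨⟨c, IntermediateField.subset_adjoin k _ hc⟩, rfl⟩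

end Groth.Agent.Lib.Helper34.WAss
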