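import Mathlib
import Groth.Prelude.Def_FlatCA
import Groth.Agent.Lib.Helper34.WAssF

/-!
# Weakly associated primes descend along base change by any field extension (helper34)
-/

set_option autoImplicit false
universe u

namespace Groth.Agent.Lib.Helper34.WAss

open FlatCA TensorProduct Groth.Agent.Lib.Helper74.WeakAss

theorem descF_of_algEquiv_fractionRing {k L K : Type u} [Field k] [Field L] [Field K]
    [Algebra k L] [Algebra L K] [Algebra k K] [IsScalarTower k L K] [Algebra.IsAlgebraic L K]
    (s : Type u) (e : FractionRing (MvPolynomial s k) ≃ₐ[k] L) : DescF k K := by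
  have h2 : DescF L K := DescF.of_isAlgebraic
  letI : Algebra (MvPolynomial s k) L :=
    (e.toAlgHom.comp (IsScalarTower.toAlgHom k (MvPolynomial s k)
      (FractionRing (MvPolynomial s k)))).toRingHom.toAlgebra
  haveI : IsScalarTower k (MvPolynomial s k) L :=
    IsScalarTower.of_algebraMap_eq (fun x => (AlgHom.commutes (e.toAlgHom.comp
      (IsScalarTower.toAlgHom k (MvPolynomial s k) (FractionRing (MvPolynomial s k)))) x).symm)
  haveI : IsFractionRing (MvPolynomial s k) L :=
    IsLocalization.isLocalization_of_algEquiv (nonZeroDivisors (MvPolynomial s k))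
      ({ e.toRingEquiv with commutes' := fun d => rfl } :
        FractionRing (MvPolynomial s k) ≃ₐ[MvPolynomial s k] L)
  have h1 : DescF k L := DescF.of_isFractionRing_mvPolynomial s
  exact h1.trans h2

/-- Weakly associated primes descend along the base change by an arbitrary field extension. -/
theorem descF_field (k K : Type u) [Field k] [Field K] [Algebra k K] : DescF k K := by
  obtain ⟨s, hs⟩ := exists_isTranscendenceBasis k K
  haveI : Algebra.IsAlgebraic (IntermediateField.adjoin k (Set.range ((↑) : s → K))) K :=
    hs.isAlgebraic_field
  exact descF_of_algEquiv_fractionRing (L := IntermediateField.adjoin k (Set.range ((↑) : s → K)))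
    s hs.1.aevalEquivField

end Groth.Agent.Lib.Helper34.WAss
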