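import Groth.Agent.Lib.Helper60.Pic2

/-!
# Counting points of the affine cells of projective space (algebra side)

For the chart ring `B_i = k[x_0..x_n]_(x_i)` and the ideal `J_i` generated by the `x_j / x_i`, `j < i`,
ring maps `B_i / J_i → k'` over `k` are in bijection with functions `{j // i < j} → k'`.
-/

set_option autoImplicit false
universe u
open HomogeneousLocalization

namespace Groth.Agent.Lib.Helper34.ZetaPn

open Groth.Agent.Lib.Helper60.PicPn Groth.Agent.Lib.Helper60.ProjUPLib

variable (n : ℕ) (k : Type u) [Field k]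

/-- the chart ring -/
noncomputable abbrev B (i : Fin (n + 1)) : Type u :=
  Away (CohB1.polyGrading n k) (MvPolynomial.X i : MvPolynomial (Fin (n + 1)) k)

/-- `x_j / x_i` in the chart ring -/
noncomputable def elt (i j : Fin (n + 1)) : B n k i :=
  Away.isLocalizationElem (hX n k i) (hX n k j)

/-- the structure map `k → B_i` -/
noncomputable def ρB (i : Fin (n + 1)) : k →+* B n k i :=
  (fromZeroRingHom (CohB1.polyGrading n k) (Submonoid.powers (MvPolynomial.X i))).comp
    (algebraMap k (CohB1.polyGrading n k 0))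

/-- the ideal of the cell -/
noncomputable def J (i : Fin (n + 1)) : Ideal (B n k i) :=
  Ideal.span (Set.range fun j : {j : Fin (n + 1) // j < i} => elt n k i j.1)

theorem chartEquiv_elt (i j : Fin (n + 1)) (h : j ≠ i) :
    chartEquiv n k i (elt n k i j) = MvPolynomial.X ⟨j, h⟩ := by
  change chartFwd n k i (elt n k i j) = _
  unfold chartFwd elt Away.isLocalizationElem
  rw [awayLift_mk (CohB1.polyGrading n k) (evOne n k i) (MvPolynomial.X i) _ (hX n k i)
      (evOne_X_self n k i), pow_one, evOne_X_ne n k i j h]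

theorem chartEquiv_ρB (i : Fin (n + 1)) (c : k) :
    chartEquiv n k i (ρB n k i c) = MvPolynomial.C c := by
  change chartFwd n k i (ρB n k i c) = _
  have h0 : ρB n k i c = Away.mk (CohB1.polyGrading n k) (hX n k i) 0
      (MvPolynomial.C c) (by
        rw [zero_smul]
        exact (algebraMap k (CohB1.polyGrading n k 0) c).2) := by
    apply HomogeneousLocalization.val_injective
    rw [Away.val_mk]
    unfold ρB
    rw [RingHom.comp_apply]
    unfold fromZeroRingHom
    simp only [RingHom.coe_mk, MonoidHom.coe_mk, OneHom.coe_mk, val_mk]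
    rw [Localization.mk_eq_mk_iff, Localization.r_iff_exists]
    refine ⟨1, ?_⟩
    simp only [OneMemClass.coe_one, one_mul, pow_zero]
    erw [one_mul]
    rfl
  rw [h0]
  unfold chartFwd
  rw [awayLift_mk (CohB1.polyGrading n k) (evOne n k i) (MvPolynomial.X i) _ (hX n k i)
      (evOne_X_self n k i), evOne_C]

theorem symm_X (i j : Fin (n + 1)) (h : j ≠ i) :
    (chartEquiv n k i).symm (MvPolynomial.X ⟨j, h⟩) = elt n k i j := by
  rw [RingEquiv.symm_apply_eq, chartEquiv_elt]

theorem symm_C (i : Fin (n + 1)) (c : k) :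
    (chartEquiv n k i).symm (MvPolynomial.C c) = ρB n k i c := by
  rw [RingEquiv.symm_apply_eq, chartEquiv_ρB]

variable (k' : Type u) [Field k'] [Algebra k k']

/-- evaluation at the coordinates `x_j/x_i`, `j > i` -/
noncomputable def evalPt (i : Fin (n + 1))
    (φ : {φ : B n k i ⧸ J n k i →+* k' //
      φ.comp ((Ideal.Quotient.mk (J n k i)).comp (ρB n k i)) = algebraMap k k'}) :
    {j : Fin (n + 1) // i < j} → k' :=
  fun j => φ.1 (Ideal.Quotient.mk _ (elt n k i j.1))

theorem evalPt_injective (i : Fin (n + 1)) : Function.Injective (evalPt n k k' i) := by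
  intro φ φ' h
  apply Subtype.ext
  apply Ideal.Quotient.ringHom_ext
  -- compare after the chart equivalence
  have key : (φ.1.comp (Ideal.Quotient.mk (J n k i))).comp (chartEquiv n k i).symm.toRingHom =
      (φ'.1.comp (Ideal.Quotient.mk (J n k i))).comp (chartEquiv n k i).symm.toRingHom := by
    apply MvPolynomial.ringHom_ext
    · intro c
      simp only [RingHom.comp_apply, RingEquiv.toRingHom_eq_coe, RingHom.coe_coe]
      rw [symm_C]
      have h1 := RingHom.congr_fun φ.2 c
      have h2 := RingHom.congr_fun φ'.2 c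
      simp only [RingHom.comp_apply] at h1 h2
      rw [h1, h2]
    · rintro ⟨j, hj⟩
      simp only [RingHom.comp_apply, RingEquiv.toRingHom_eq_coe, RingHom.coe_coe]
      rw [symm_X]
      rcases lt_or_gt_of_ne hj with hlt | hgt
      · have hmem : elt n k i j ∈ J n k i := Ideal.subset_span ⟨⟨j, hlt⟩, rfl⟩
        rw [Ideal.Quotient.eq_zero_iff_mem.mpr hmem, map_zero, map_zero]
      · exact congrFun h ⟨j, hgt⟩
  ext b
  have := RingHom.congr_fun key (chartEquiv n k i b)
  simpa using this

theorem evalPt_surjective (i : Fin (n + 1)) : Function.Surjective (evalPt n k k' i) := by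
  intro a
  classical
  let a' : {j : Fin (n + 1) // j ≠ i} → k' := fun j => if h : i < j.1 then a ⟨j.1, h⟩ else 0
  let ψ : B n k i →+* k' :=
    (MvPolynomial.eval₂Hom (algebraMap k k') a').comp (chartEquiv n k i).toRingHom
  have hψ_elt : ∀ (j : Fin (n + 1)) (h : j ≠ i), ψ (elt n k i j) = a' ⟨j, h⟩ := by
    intro j h
    change MvPolynomial.eval₂Hom (algebraMap k k') a' (chartEquiv n k i (elt n k i j)) = _
    rw [chartEquiv_elt n k i j h]
    simp
  have hJ : ∀ x ∈ J n k i, ψ x = 0 := by
    intro x hx
    have : J n k i ≤ RingHom.ker ψ := by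
      unfold J
      rw [Ideal.span_le]
      rintro _ ⟨j, rfl⟩
      rw [SetLike.mem_coe, RingHom.mem_ker]
      change ψ (elt n k i j.1) = 0
      rw [hψ_elt j.1 j.2.ne]
      simp only [a']
      rw [dif_neg (not_lt.mpr j.2.le)]
    exact this hx
  refine ⟨⟨Ideal.Quotient.lift (J n k i) ψ hJ, ?_⟩, ?_⟩
  · ext c
    simp only [RingHom.comp_apply, Ideal.Quotient.lift_mk]
    change MvPolynomial.eval₂Hom (algebraMap k k') a' (chartEquiv n k i (ρB n k i c)) = _
    rw [chartEquiv_ρB]
    simp
  · funext j
    unfold evalPt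
    simp only [Ideal.Quotient.lift_mk]
    rw [hψ_elt j.1 j.2.ne']
    simp only [a']
    rw [dif_pos j.2]

theorem card_points (i : Fin (n + 1)) [Finite k'] :
    Nat.card {φ : B n k i ⧸ J n k i →+* k' //
      φ.comp ((Ideal.Quotient.mk (J n k i)).comp (ρB n k i)) = algebraMap k k'} =
      Nat.card k' ^ (n - (i : ℕ)) := by
  rw [Nat.card_congr (Equiv.ofBijective _ ⟨evalPt_injective n k k' i, evalPt_surjective n k k' i⟩),
    Nat.card_fun]
  congr 1
  rw [Nat.card_eq_fintype_card, Fintype.card_subtype]
  have : (Finset.univ.filter fun j : Fin (n + 1) => i < j) = Finset.Ioi i := by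
    ext j
    simp
  rw [this, Fin.card_Ioi]
  omega

end Groth.Agent.Lib.Helper34.ZetaPn
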