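import Groth.Agent.Lib.Helper34.ZetaPnAlg
import Groth.Agent.Lib.Helper33.ZetaExt
import Groth.Agent.Lib.Helper93.ProjGamma2
import Groth.Agent.Lib.Helper7.ProjSpaceProper

/-!
# The cell decomposition of projective space over a field and its point counts
-/

set_option autoImplicit false
universe u
open HomogeneousLocalization CategoryTheory AlgebraicGeometry

namespace Groth.Agent.Lib.Helper34.ZetaPn

open Groth.Agent.Lib.Helper60.PicPn

variable (n : ℕ) (k : Type u) [Field k]

/-- the `i`-th cell `x_0 = ⋯ = x_{i-1} = 0`, `x_i ≠ 0` -/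
noncomputable abbrev cell (i : Fin (n + 1)) : Scheme.{u} :=
  Spec (CommRingCat.of (B n k i ⧸ J n k i))

/-- the immersion of the `i`-th cell -/
noncomputable def cellMap' (i : Fin (n + 1)) : cell n k i ⟶ Proj (CohB1.polyGrading n k) :=
  Spec.map (CommRingCat.ofHom (Ideal.Quotient.mk (J n k i))) ≫
    Proj.awayι (CohB1.polyGrading n k) (MvPolynomial.X i) (hX n k i) one_pos

instance isImmersion_cellMap' (i : Fin (n + 1)) : IsImmersion (cellMap' n k i) := by
  unfold cellMap'
  haveI : IsClosedImmersion (Spec.map (CommRingCat.ofHom (Ideal.Quotient.mk (J n k i)))) :=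
    IsClosedImmersion.spec_of_surjective _ Ideal.Quotient.mk_surjective
  infer_instance

/-- the immersion of the `i`-th cell -/
noncomputable def cellMap (i : Fin (n + 1)) : cell n k i ⟶ CohB1.ProjSpace n k :=
  cellMap' n k i

instance isImmersion_cellMap (i : Fin (n + 1)) : IsImmersion (cellMap n k i) :=
  isImmersion_cellMap' n k i

theorem cellMap_toSpec (i : Fin (n + 1)) :
    cellMap n k i ≫ CohB1.ProjSpace.toSpec n k =
      Spec.map (CommRingCat.ofHom ((Ideal.Quotient.mk (J n k i)).comp (ρB n k i))) := by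
  change (Spec.map (CommRingCat.ofHom (Ideal.Quotient.mk (J n k i))) ≫
    Proj.awayι (CohB1.polyGrading n k) (MvPolynomial.X i) (hX n k i) one_pos) ≫
      (Proj.toSpecZero (CohB1.polyGrading n k) ≫
        Spec.map (CommRingCat.ofHom (algebraMap k (CohB1.polyGrading n k 0)))) = _
  rw [Category.assoc, Proj.awayι_toSpecZero_assoc, ← Spec.map_comp, ← Spec.map_comp]
  rfl

/-- points of an affine scheme with values in a field extension -/
theorem pointCount_spec (C : Type u) [CommRing C] (ρ : k →+* C)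
    (k' : Type u) [Field k'] [Algebra k k'] :
    SgaExt.pointCount (Spec.map (CommRingCat.ofHom ρ)) k' =
      Nat.card {φ : C →+* k' // φ.comp ρ = algebraMap k k'} := by
  unfold SgaExt.pointCount
  symm
  refine Nat.card_congr (Equiv.ofBijective
    (fun φ => ⟨Spec.map (CommRingCat.ofHom φ.1), ?_⟩) ⟨?_, ?_⟩)
  · rw [← Spec.map_comp, ← CommRingCat.ofHom_comp, φ.2]
  · intro φ φ' h
    have h1 := Spec.map_injective (congrArg Subtype.val h)
    apply Subtype.ext
    have h2 := congrArg CommRingCat.Hom.hom h1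
    exact h2
  · rintro ⟨g, hg⟩
    obtain ⟨ψ, rfl⟩ := Spec.map_surjective g
    refine ⟨⟨ψ.hom, ?_⟩, rfl⟩
    rw [← Spec.map_comp] at hg
    have h1 := Spec.map_injective hg
    have h2 := congrArg CommRingCat.Hom.hom h1
    exact h2

theorem pointCount_cell (i : Fin (n + 1)) (k' : Type u) [Field k'] [Algebra k k'] [Finite k'] :
    SgaExt.pointCount (cellMap n k i ≫ CohB1.ProjSpace.toSpec n k) k' =
      Nat.card k' ^ (n - (i : ℕ)) := by
  rw [cellMap_toSpec, pointCount_spec, card_points]

/-- the range of the `i`-th cell -/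
theorem mem_range_cellMap (i : Fin (n + 1)) (x : Proj (CohB1.polyGrading n k)) :
    x ∈ Set.range (cellMap' n k i).base ↔
      x ∈ Proj.basicOpen (CohB1.polyGrading n k) (MvPolynomial.X i) ∧
        ∀ j : Fin (n + 1), j < i → x ∉ Proj.basicOpen (CohB1.polyGrading n k) (MvPolynomial.X j) := by
  have hpre : ∀ j : Fin (n + 1),
      Proj.awayι (CohB1.polyGrading n k) (MvPolynomial.X i) (hX n k i) one_pos ⁻¹ᵁ
        Proj.basicOpen (CohB1.polyGrading n k) (MvPolynomial.X j) =
      PrimeSpectrum.basicOpen (elt n k i j) := fun j =>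
    Proj.awayι_preimage_basicOpen (CohB1.polyGrading n k) (hX n k i) one_pos (hX n k j) one_pos
  have hrange : Set.range (Proj.awayι (CohB1.polyGrading n k) (MvPolynomial.X i)
      (hX n k i) one_pos).base =
      (Proj.basicOpen (CohB1.polyGrading n k) (MvPolynomial.X i) : Set _) := by
    have := Proj.opensRange_awayι (CohB1.polyGrading n k) (MvPolynomial.X i) (hX n k i) one_pos
    exact congrArg (fun U : (Proj (CohB1.polyGrading n k)).Opens =>
      (U : Set (Proj (CohB1.polyGrading n k)))) this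
  constructor
  · rintro ⟨y, rfl⟩
    unfold cellMap'
    rw [Scheme.Hom.comp_apply]
    set q := (Spec.map (CommRingCat.ofHom (Ideal.Quotient.mk (J n k i)))) y with hq
    refine ⟨?_, fun j hj hmem => ?_⟩
    · rw [← SetLike.mem_coe, ← hrange]
      exact ⟨q, rfl⟩
    · have h1 : q ∈ (Proj.awayι (CohB1.polyGrading n k) (MvPolynomial.X i) (hX n k i) one_pos ⁻¹ᵁ
          Proj.basicOpen (CohB1.polyGrading n k) (MvPolynomial.X j)) := hmem
      rw [hpre j] at h1
      apply h1
      change elt n k i j ∈ (PrimeSpectrum.comap (Ideal.Quotient.mk (J n k i)) y).asIdeal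
      rw [PrimeSpectrum.comap_asIdeal, Ideal.mem_comap]
      have hmemJ : elt n k i j ∈ J n k i := Ideal.subset_span ⟨⟨j, hj⟩, rfl⟩
      rw [Ideal.Quotient.eq_zero_iff_mem.mpr hmemJ]
      exact zero_mem _
  · rintro ⟨hx, hlt⟩
    rw [← SetLike.mem_coe, ← hrange] at hx
    obtain ⟨q, rfl⟩ := hx
    have hJq : J n k i ≤ q.asIdeal := by
      unfold J
      rw [Ideal.span_le]
      rintro _ ⟨j, rfl⟩
      by_contra hnot
      apply hlt j.1 j.2
      have h1 : q ∈ PrimeSpectrum.basicOpen (elt n k i j.1) := hnot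
      rw [← hpre j.1] at h1
      exact h1
    have hq : q ∈ Set.range (PrimeSpectrum.comap (Ideal.Quotient.mk (J n k i))) := by
      rw [_root_.range_comap_of_surjective _ _ Ideal.Quotient.mk_surjective,
        Ideal.mk_ker]
      exact hJq
    obtain ⟨y, rfl⟩ := hq
    refine ⟨y, ?_⟩
    unfold cellMap'
    rw [Scheme.Hom.comp_apply]
    rfl

/-- every point lies in exactly one cell -/
theorem existsUnique_cell (x : Proj (CohB1.polyGrading n k)) :
    ∃! i : Fin (n + 1), x ∈ Set.range (cellMap' n k i).base := by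
  classical
  have hcov : ∃ i : Fin (n + 1),
      x ∈ Proj.basicOpen (CohB1.polyGrading n k) (MvPolynomial.X i) := by
    have h := Groth.Agent.Lib.Helper93.ProjGamma.iSup_U n k
    have hx : x ∈ (⊤ : (Proj (CohB1.polyGrading n k)).Opens) := trivial
    rw [← h] at hx
    exact TopologicalSpace.Opens.mem_iSup.mp hx
  let S : Finset (Fin (n + 1)) := Finset.univ.filter fun i =>
    x ∈ Proj.basicOpen (CohB1.polyGrading n k) (MvPolynomial.X i)
  have hS : S.Nonempty := by
    obtain ⟨i, hi⟩ := hcov
    exact ⟨i, Finset.mem_filter.mpr ⟨Finset.mem_univ _, hi⟩⟩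
  refine ⟨S.min' hS, (mem_range_cellMap n k _ x).mpr ?_, ?_⟩
  · have hmem := Finset.min'_mem S hS
    refine ⟨(Finset.mem_filter.mp hmem).2, fun j hj hxj => ?_⟩
    have : j ∈ S := Finset.mem_filter.mpr ⟨Finset.mem_univ _, hxj⟩
    exact absurd (Finset.min'_le S j this) (not_le.mpr hj)
  · intro i hi
    have hi' := (mem_range_cellMap n k i x).mp hi
    have hiS : i ∈ S := Finset.mem_filter.mpr ⟨Finset.mem_univ _, hi'.1⟩
    refine le_antisymm ?_ (Finset.min'_le S i hiS)
    by_contra hlt
    rw [not_le] at hlt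
    exact hi'.2 _ hlt (Finset.mem_filter.mp (Finset.min'_mem S hS)).2

end Groth.Agent.Lib.Helper34.ZetaPn
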